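import Cfsg.Agent.Lib.Recog.OrderM12.FiveElim

/-!
# Simple groups of order 95040: values at elements of orders two, three, five and six
-/

set_option autoImplicit false
set_option linter.style.haveILetI false
set_option synthInstance.maxSize 2000
set_option maxHeartbeats 1000000

namespace CfsgLib.Recog.OrderM12

open Cfsg CfsgLib CfsgLib.Block CfsgLib.ClassK CfsgLib.ClassK.RowSieve CfsgLib.ClassK.RowInvolution
open scoped ComplexConjugate

universe u

/-- The five degrees. -/
def mainDegs : List ℕ := [45, 144, 54, 120, 16]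

/-- The value for a degree read off a vector. -/
def valOf (r : List ((ℕ × Bool) × ℤ)) (d : ℕ) : ℤ :=
  if d = 16 then excVal 1 r else ((r.find? fun a => decide (a.1.1 = d)).map Prod.snd).getD 0

/-- The values at a 2-central involution. -/
def tv (d : ℕ) : ℤ := ([(45, -3), (54, 6), (120, -8)] : List (ℕ × ℤ)).lookup d |>.getD 0

/-- Candidates at an element of order six, from the values at its parts. -/
def atSix (c : ℕ) (rq : List ((ℕ × Bool) × ℤ)) (d : ℕ) : List ℤ :=
  (around c).filter fun v =>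
    decide ((v - tv d) % 3 = 0) && decide ((v - valOf rq d) % 2 = 0)

theorem check_invol : ((divs.filter fun c => decide (c % 2 = 0)).all fun c =>
    (invVecs 95040 2 c mainL 16 1).all fun r =>
      (decide (c = 192) && mainDegs.all fun D => decide (valOf r D = tv D)) ||
        (decide (c ∈ [120, 240]) && decide (valOf r 45 = 5) && decide (valOf r 16 ∈ [4, -4])) ||
          (decide (c = 1440) && decide (valOf r 45 = -15) && decide (valOf r 16 = -8))) = true := by
  decide +kernel

theorem check_five_cfg : rowPossible 95040 5 309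
    (fun a b => decide (95040 / (a * b) % 3 = 0) &&
      !([720, 135, 120, 60, 45].contains (95040 / (a * b)))) (fun _ => true) (fun _ => true) = false := by
  decide +kernel

theorem check_five_vals : ([720, 135, 120, 60, 45].all fun c =>
    (pairVecs 95040 2 c (atPrime 5 27) mainL 16 1).isEmpty) = true := by
  decide +kernel

theorem check_six : ((divs.filter fun c => decide (1728 % c = 0) && decide (c % 6 = 0)).all fun c =>
    (pairVecs 95040 2 c (atPrime 3 42) mainL 16 1).all fun rq =>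
      (divs.filter fun c' => decide (c % c' = 0) && decide (192 % c' = 0) && decide (c' % 6 = 0) &&
        decide (c' ≠ 6)).all fun c' =>
          (pairVecs 95040 2 c' (atSix c' rq) mainL 16 1).isEmpty) = true := by
  decide +kernel

variable {G : Type u} [Group G] [Finite G]

/-- The rows with the degrees of M12. -/
abbrev Main [Fact (Nat.Prime 11)] (P : Sylow 11 G) (M : Ideal AlgInt)
    (CF YF : Finset (IrrCharacter G)) (ε : IrrCharacter G → ℤ) : Prop :=
  Conf P mainL 16 1 M CF YF ε

theorem exists_main [Fact (Nat.Prime 11)] [IsSimpleGroup G] (h : Nat.card G = 95040)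
    (P : Sylow 11 G) : ∃ (M : Ideal AlgInt) (CF YF : Finset (IrrCharacter G))
      (ε : IrrCharacter G → ℤ), Main P M CF YF ε := by
  obtain ⟨l, d, σ, M, CF, YF, ε, C⟩ := exists_conf h P
  have hm := C.main_case
  simp only [Prod.mk.injEq] at hm
  obtain ⟨rfl, rfl, rfl⟩ := hm
  exact ⟨M, CF, YF, ε, C⟩

/-- The nontrivial rows take at `g` the values `V` of their degrees. -/
def HasVals (CF YF : Finset (IrrCharacter G)) (g : G) (V : ℕ → ℤ) : Prop :=
  ∀ φ : IrrCharacter G, φ ≠ trivChar → (φ ∈ CF ∨ φ ∈ YF) →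
    (φ : G → ℂ) g = V (charDegree (φ : G → ℂ))

namespace Conf

variable [Fact (Nat.Prime 11)] {P : Sylow 11 G}
  {M : Ideal AlgInt} {CF YF : Finset (IrrCharacter G)} {ε : IrrCharacter G → ℤ}
  (C : Conf P mainL 16 1 M CF YF ε)
include C

open scoped Classical in
theorem fixed {g : G} (hg : ¬ 11 ∣ orderOf g) {k : ℕ} (hk : k.Coprime (Nat.card G))
    {φ : IrrCharacter G} (hφ : φ ∈ CF ∪ YF) : (φ : G → ℂ) (g ^ k) = (φ : G → ℂ) g :=
  C.setup.fixed_all (by decide) (by decide) hg hk hφ

theorem deg_main {φ : IrrCharacter G} (hne : φ ≠ trivChar) (hφ : φ ∈ CF ∨ φ ∈ YF) :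
    charDegree (φ : G → ℂ) ∈ mainDegs := by
  rcases hφ with h | h
  · have := C.setup.deg_mem (mem_others.2 ⟨hne, h⟩)
    simp only [mainL, List.map_cons, List.map_nil, List.mem_cons, List.not_mem_nil, or_false] at this
    simp only [mainDegs, List.mem_cons, List.not_mem_nil, or_false]
    omega
  · rw [C.setup.rows.YF_deg φ h]; simp [mainDegs]

theorem exists_row {D : ℕ} (hD : D ∈ mainDegs) :
    ∃ φ : IrrCharacter G, φ ≠ trivChar ∧ (φ ∈ CF ∨ φ ∈ YF) ∧ charDegree (φ : G → ℂ) = D := by
  by_cases h16 : D = 16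
  · obtain ⟨η, hη⟩ : YF.Nonempty := Finset.card_pos.1 (by
      rw [C.setup.rows.card_YF]; norm_num)
    exact ⟨η, C.setup.not_triv hη, Or.inr hη, (C.setup.rows.YF_deg η hη).trans h16.symm⟩
  · have hmem : D ∈ (others CF).val.map fun φ : IrrCharacter G => charDegree (φ : G → ℂ) := by
      have e := congrArg (Multiset.map Prod.fst) C.setup.map
      rw [Multiset.map_map, Multiset.map_coe] at e
      rw [show (fun φ : IrrCharacter G => charDegree (φ : G → ℂ)) = Prod.fst ∘ rowKey ε from rfl, e]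
      simp only [mainDegs, List.mem_cons, List.not_mem_nil, or_false] at hD
      rcases hD with rfl | rfl | rfl | rfl | rfl <;> first | exact absurd rfl h16 | decide
    obtain ⟨φ, hφ, e⟩ := Multiset.mem_map.1 hmem
    exact ⟨φ, (mem_others.1 hφ).1, Or.inl (mem_others.1 hφ).2, e⟩

/-- A vector gives the values. -/
theorem vals_of_vec {g : G} {c : ℕ} {R : ℕ → List ℤ} {q : IrrCharacter G → ℤ}
    {r : List ((ℕ × Bool) × ℤ)} (hr : r ∈ vecs 95040 2 c R mainL 16 1)
    (hq : ∀ φ ∈ others CF, (φ : G → ℂ) g = q φ)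
    (hmap : (others CF).val.map (fun φ => (rowKey ε φ, q φ)) = ↑r)
    (hY : ∀ η ∈ YF, (η : G → ℂ) g = excVal 1 r) : HasVals CF YF g (valOf r) := by
  intro φ hne hφ
  rcases hφ with h | h
  · have ho : φ ∈ others CF := mem_others.2 ⟨hne, h⟩
    have hmem : (rowKey ε φ, q φ) ∈ r := by
      rw [← Multiset.mem_coe, ← hmap]
      exact Multiset.mem_map.2 ⟨φ, ho, rfl⟩
    have hkey : ∀ v ∈ r, valOf r v.1.1 = v.2 := by
      have hr' := (List.mem_filter.1 hr).1
      simp only [mainL, assignV, List.mem_flatMap, List.mem_map, List.mem_cons, List.not_mem_nil,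
        or_false] at hr'
      obtain ⟨a, -, _, ⟨b, -, _, ⟨c', -, _, ⟨e, -, _, rfl, rfl⟩, rfl⟩, rfl⟩, rfl⟩ := hr'
      intro v hv
      simp only [List.mem_cons, List.not_mem_nil, or_false] at hv
      rcases hv with rfl | rfl | rfl | rfl <;> simp [valOf, List.find?]
    have := hkey _ hmem
    simp only [rowKey] at this
    rw [this, hq φ ho]
  · rw [C.setup.rows.YF_deg φ h, hY φ h]
    simp [valOf]

/-- The values at an involution. -/
theorem exists_invol_vals {k : G} (hk : orderOf k = 2) :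
    ∃ r ∈ invVecs 95040 2 (Nat.card (Subgroup.centralizer ({k} : Set G))) mainL 16 1,
      HasVals CF YF k (valOf r) := by
  obtain ⟨q, r, hr, hq, hmap, hY⟩ := C.exists_invVec hk
  exact ⟨r, hr, C.vals_of_vec (List.mem_filter.1 hr).1 hq hmap hY⟩

/-- The involutions are of three kinds. -/
theorem invol_types {k : G} (hk : orderOf k = 2) :
    ∃ V : ℕ → ℤ, HasVals CF YF k V ∧
      ((Nat.card (Subgroup.centralizer ({k} : Set G)) = 192 ∧ V 45 = -3 ∧ V 16 = 0) ∨
        (Nat.card (Subgroup.centralizer ({k} : Set G)) ∈ [120, 240] ∧ V 45 = 5 ∧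
          (V 16 = 4 ∨ V 16 = -4)) ∨
        (Nat.card (Subgroup.centralizer ({k} : Set G)) = 1440 ∧ V 45 = -15 ∧ V 16 = -8)) := by
  obtain ⟨r, hr, hV⟩ := C.exists_invol_vals hk
  refine ⟨valOf r, hV, ?_⟩
  have h := List.all_eq_true.1 (List.all_eq_true.1 check_invol _ (List.mem_filter.2
    ⟨mem_divs (C.cent_dvd (C.invol_regular hk).1 (C.invol_regular hk).2),
      decide_eq_true (Nat.mod_eq_zero_of_dvd (C.two_dvd_cent hk))⟩)) r hr
  simp only [Bool.or_eq_true, Bool.and_eq_true, decide_eq_true_eq, List.all_eq_true] at h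
  rcases h with (⟨hc, hall⟩ | ⟨⟨hc, h45⟩, h16⟩) | ⟨⟨hc, h45⟩, h16⟩
  · exact Or.inl ⟨hc, (hall 45 (by simp [mainDegs])).trans rfl, (hall 16 (by simp [mainDegs])).trans rfl⟩
  · exact Or.inr (Or.inl ⟨hc, h45, by simpa using h16⟩)
  · exact Or.inr (Or.inr ⟨hc, h45, h16⟩)

/-- The values at an involution with centraliser of order 192. -/
theorem vals_192 {k : G} (hk : orderOf k = 2)
    (hc : Nat.card (Subgroup.centralizer ({k} : Set G)) = 192) : HasVals CF YF k tv := by
  obtain ⟨r, hr, hV⟩ := C.exists_invol_vals hk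
  rw [hc] at hr
  have h := List.all_eq_true.1 (List.all_eq_true.1 check_invol 192 (List.mem_filter.2
    ⟨mem_divs (by norm_num), rfl⟩)) r hr
  simp only [decide_true, Bool.true_and, Bool.or_eq_true, Bool.and_eq_true, decide_eq_true_eq,
    List.all_eq_true] at h
  intro φ hne hφ
  rw [hV φ hne hφ]
  rcases h with (h | h) | h
  · rw [h _ (C.deg_main hne hφ)]
  · exact absurd h.1.1 (by decide)
  · exact absurd h.1.1 (by norm_num)

/-- An involution centralising a Sylow 2-subgroup has centraliser of order 192. -/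
theorem card_of_central {k : G} (hk : orderOf k = 2)
    (h64 : 64 ∣ Nat.card (Subgroup.centralizer ({k} : Set G))) :
    Nat.card (Subgroup.centralizer ({k} : Set G)) = 192 := by
  obtain ⟨V, -, h | ⟨h, -⟩ | ⟨h, -⟩⟩ := C.invol_types hk
  · exact h.1
  · simp only [List.mem_cons, List.not_mem_nil, or_false] at h; omega
  · omega

/-- An element of order three and one of order five do not commute. -/
theorem no_fifteen {q : G} (hq : orderOf q = 3) :
    ¬ 5 ∣ Nat.card (Subgroup.centralizer ({q} : Set G)) := by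
  intro h5
  haveI := C.setup.simple
  haveI : Fact (Nat.Prime 5) := ⟨by norm_num⟩
  obtain ⟨⟨y, hyC⟩, hy⟩ :=
    exists_prime_orderOf_dvd_card' (G := Subgroup.centralizer ({q} : Set G)) 5 h5
  rw [Subgroup.orderOf_mk] at hy
  have hy1 : y ≠ 1 := C.ne_one_of_order hy (by norm_num)
  have h3 : 3 ∣ Nat.card (Subgroup.centralizer ({y} : Set G)) := by
    rw [← hq]
    exact Subgroup.orderOf_dvd_natCard _ (Subgroup.mem_centralizer_singleton_iff.2
      (Subgroup.mem_centralizer_singleton_iff.1 hyC).symm)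
  obtain ⟨Q, hyQ⟩ : ∃ Q : Sylow 5 G, y ∈ (Q : Subgroup G) := by
    obtain ⟨Q, hQ⟩ := (IsPGroup.of_card (p := 5) (n := 1)
      (show Nat.card (Subgroup.zpowers y) = 5 ^ 1 by rw [Nat.card_zpowers, hy, pow_one])).exists_le_sylow
    exact ⟨Q, hQ (Subgroup.mem_zpowers y)⟩
  have hQ : Nat.card Q = 5 := CfsgLib.Transfer.card_sylow_eq_prime Q (by rw [C.card_G]; norm_num)
    (by rw [C.card_G]; norm_num)
  set c := Nat.card (Subgroup.centralizer ({y} : Set G)) with hc
  have hcQ : Nat.card (Subgroup.centralizer ((Q : Subgroup G) : Set G)) = c :=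
    (congrArg (fun H : Subgroup G => Nat.card H)
      (BrauerReynolds.centralizer_mem_eq Q hQ hyQ hy1)).symm
  have hcfg := card_config Q
  rw [C.card_G, hcQ] at hcfg
  have hlist : c ∈ [720, 135, 120, 60, 45] := by
    by_contra hno
    refine false_of_rowPossible' (p := 5) (not_comm C.card_G) C.card_G (B := 309) (by norm_num)
      (by norm_num) (by norm_num) _ (fun Q' => ?_) (fun _ => true) (fun _ _ => rfl) check_five_cfg
    rw [relIndex_eq Q Q' hQ]
    have hdiv : 95040 / (Nat.card (Sylow 5 G) *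
        (Subgroup.centralizer ((Q : Subgroup G) : Set G)).relIndex
          (Subgroup.normalizer ((Q : Subgroup G) : Set G))) = c := by
      rw [← hcfg, ← mul_assoc, Nat.mul_div_cancel_left]
      refine Nat.pos_of_ne_zero fun h0 => ?_
      rw [← mul_assoc, h0, zero_mul] at hcfg
      norm_num at hcfg
    rw [hdiv, Bool.and_eq_true, decide_eq_true_eq, Bool.not_eq_true', List.contains_eq_mem,
      decide_eq_false_iff_not]
    exact ⟨Nat.mod_eq_zero_of_dvd h3, hno⟩
  have hle : c ≤ 27 * 27 := by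
    simp only [List.mem_cons, List.not_mem_nil, or_false] at hlist; omega
  classical
  obtain ⟨_, r, hr, -⟩ := C.setup.exists_pairVec C.cent (p := 5) (b := 27) (by norm_num) hy hle
    fun φ hφ k hk => C.fixed (by rw [hy]; norm_num) hk hφ
  rw [← hc, List.isEmpty_iff.1 (List.all_eq_true.1 check_five_vals c hlist)] at hr
  exact List.not_mem_nil hr

/-- An element of order six with cube of centraliser order 192 is self-centralising. -/
theorem card_centralizer_six {k q : G} (hk : orderOf k = 2)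
    (hk192 : Nat.card (Subgroup.centralizer ({k} : Set G)) = 192) (hq : orderOf q = 3)
    (hc : Commute k q) : Nat.card (Subgroup.centralizer ({k * q} : Set G)) = 6 := by
  classical
  haveI := C.setup.simple
  haveI : Fact (Nat.Prime 3) := ⟨by norm_num⟩
  haveI : Fact (Nat.Prime 2) := ⟨Nat.prime_two⟩
  set g := k * q with hg
  have hgo : orderOf g = 6 := by
    rw [hg, hc.orderOf_mul_eq_mul_orderOf_of_coprime (by rw [hk, hq]; norm_num), hk, hq]
  have hk2 : k ^ 2 = 1 := hk ▸ pow_orderOf_eq_one k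
  have hq3 : q ^ 3 = 1 := hq ▸ pow_orderOf_eq_one q
  have hg3 : g ^ 3 = k := by
    rw [hg, hc.mul_pow, hq3, mul_one, show (3 : ℕ) = 2 + 1 by rfl, pow_succ, hk2, one_mul]
  have hg4 : g ^ 4 = q := by
    rw [hg, hc.mul_pow, show (4 : ℕ) = 2 * 2 by rfl, pow_mul k, hk2, one_pow, one_mul,
      show (2 * 2 : ℕ) = 3 + 1 by rfl, pow_succ, hq3, one_mul]
  have hle : ∀ j : ℕ, Subgroup.centralizer ({g} : Set G) ≤
      Subgroup.centralizer ({g ^ j} : Set G) := fun j a ha => by
    rw [Subgroup.mem_centralizer_singleton_iff] at ha ⊢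
    exact Commute.pow_right ha j
  set c' := Nat.card (Subgroup.centralizer ({g} : Set G)) with hc'
  set c := Nat.card (Subgroup.centralizer ({q} : Set G)) with hcq
  have h1 : c' ∣ c := by
    have h := Subgroup.card_dvd_of_le (hle 4)
    rwa [hg4] at h
  have h2 : c' ∣ 192 := by
    have h := Subgroup.card_dvd_of_le (hle 3)
    rwa [hg3, hk192] at h
  have h6 : 6 ∣ c' := hgo ▸ Subgroup.orderOf_dvd_natCard _
    (Subgroup.mem_centralizer_singleton_iff.2 rfl)
  have hq1 : q ≠ 1 := C.ne_one_of_order hq (by norm_num)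
  have hqr : ¬ 11 ∣ orderOf q := by rw [hq]; norm_num
  have hgr : ¬ 11 ∣ orderOf g := by rw [hgo]; norm_num
  have hc1728 : c ∣ 1728 := by
    have h := C.cent_dvd hq1 hqr
    rw [← hcq, show (8640 : ℕ) = 5 * 1728 by norm_num] at h
    exact (Nat.Coprime.dvd_of_dvd_mul_left
      ((Nat.Prime.coprime_iff_not_dvd (by norm_num)).2 (C.no_fifteen hq)).symm h)
  by_contra hne
  obtain ⟨qq, rq, hrq, hqq, hmapq, hYq⟩ := C.setup.exists_pairVec C.cent (p := 3) (b := 42)
    (by norm_num) hq (le_trans (Nat.le_of_dvd (by norm_num) (hcq ▸ hc1728)) (by norm_num))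
    fun φ hφ j hj => C.fixed hqr hj hφ
  have hVq := C.vals_of_vec (List.mem_filter.1 hrq).1 hqq hmapq hYq
  have hVk := C.vals_192 hk hk192
  obtain ⟨qg, r, hr, hqg, hmapg, hYg⟩ := C.setup.exists_vec hgr (atSix c' rq) fun φ hφ hφ1 => by
    have hfix : ∀ i : ℕ, i.Coprime (Nat.card G) → (φ : G → ℂ) (g ^ i) = (φ : G → ℂ) g :=
      fun i hi => C.fixed hgr hi hφ
    have hodd : ∀ i : ℕ, i.Coprime (Nat.card G) → ¬ 2 ∣ i ∧ ¬ 3 ∣ i := fun i hi => by
      constructor <;> intro h
      · have := Nat.dvd_gcd h (show 2 ∣ Nat.card G by rw [C.card_G]; norm_num)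
        rw [hi] at this; norm_num at this
      · have := Nat.dvd_gcd h (show 3 ∣ Nat.card G by rw [C.card_G]; norm_num)
        rw [hi] at this; norm_num at this
    obtain ⟨v, hv⟩ := exists_int_value (Char.irr_isCharacter φ.2) hfix
    have hmem := Finset.mem_union.1 hφ
    refine ⟨v, List.mem_filter.2 ⟨mem_around ?_, ?_⟩, hv⟩
    · have := Fintype.ofFinite (IrrCharacter G)
      have h := sum_sq_le g {φ} (fun _ => v) fun ψ hψ => by rw [Finset.mem_singleton.1 hψ]; exact hv
      simp only [Finset.sum_singleton, ← hc'] at h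
      nlinarith
    rw [Bool.and_eq_true, decide_eq_true_eq, decide_eq_true_eq]
    constructor
    · have h := dvd_sub_of_commute (p := 3) (Char.irr_isCharacter φ.2) hc hq (by rw [hk]; norm_num)
        (a := tv (charDegree (φ : G → ℂ))) (b := v) (hVk φ hφ1 hmem) fun j hj => by
        obtain ⟨i, hi, hij⟩ := exists_coprime_modEq (n := Nat.card G) Nat.card_pos.ne' hj
        rw [← hv, ← hfix i hi, hg, hc.mul_pow,
          pow_eq_pow_iff_modEq.2 (show i ≡ j [MOD orderOf q] by rw [hq]; exact hij),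
          pow_eq_pow_iff_modEq.2 (show i ≡ 1 [MOD orderOf k] by
            rw [hk]; have := (hodd i hi).1; unfold Nat.ModEq; omega), pow_one]
      omega
    · have h := dvd_sub_of_commute (p := 2) (Char.irr_isCharacter φ.2) hc.symm hk
        (by rw [hq]; norm_num) (a := valOf rq (charDegree (φ : G → ℂ))) (b := v) (hVq φ hφ1 hmem)
        fun j hj => by
          rw [pow_eq_pow_iff_modEq.2 (show j ≡ 1 [MOD orderOf k] by
            rw [hk]; unfold Nat.ModEq; omega), pow_one, ← hc.eq, ← hg, hv]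
      omega
  obtain ⟨x, hx, hx1⟩ := C.setup.exists_x
  obtain ⟨m, -, hE⟩ := C.setup.selfE_eq C.cent (g := g) hx hx1 hqg hmapg hYg
  have hempty := List.all_eq_true.1 (List.all_eq_true.1 (List.all_eq_true.1 check_six c
    (List.mem_filter.2 ⟨mem_divs (C.cent_dvd hq1 hqr), by
      rw [Bool.and_eq_true, decide_eq_true_eq, decide_eq_true_eq]
      exact ⟨Nat.mod_eq_zero_of_dvd hc1728, Nat.mod_eq_zero_of_dvd (h6.trans h1)⟩⟩)) rq hrq) c'
    (List.mem_filter.2 ⟨mem_divs (h1.trans (C.cent_dvd hq1 hqr)), by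
      simp only [Bool.and_eq_true, decide_eq_true_eq]
      exact ⟨⟨⟨Nat.mod_eq_zero_of_dvd h1, Nat.mod_eq_zero_of_dvd h2⟩,
        Nat.mod_eq_zero_of_dvd h6⟩, hne⟩⟩)
  have hmem : r ∈ pairVecs 95040 2 c' (atSix c' rq) mainL 16 1 := by
    refine List.mem_filter.2 ⟨hr, ?_⟩
    rw [hE, Bool.and_eq_true, decide_eq_true_eq, decide_eq_true_eq]
    exact ⟨by positivity, Int.mul_emod_right _ _⟩
  rw [List.isEmpty_iff.1 hempty] at hmem
  exact List.not_mem_nil hmem

end Conf

end CfsgLib.Recog.OrderM12
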