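import Cfsg.Agent.Lib.StructC.RowsTools

/-!
# Integral character values: congruences, divisibility, norms
-/

set_option autoImplicit false

namespace CfsgLib.Recog.OrderM12

open Cfsg CfsgLib
open scoped ComplexConjugate

universe u

variable {G : Type u} [Group G] [Finite G]

/-- A character value fixed by the Galois group is an integer. -/
theorem exists_int_value {χ : G → ℂ} (hχ : IsCharacter G χ) {g : G}
    (h : ∀ k : ℕ, k.Coprime (Nat.card G) → χ (g ^ k) = χ g) : ∃ m : ℤ, χ g = m := by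
  obtain ⟨m, hm⟩ := (BlockB.isCyclo_char hχ g).exists_int Nat.card_pos.ne' fun k hk => by
    simp only [pow_one]; exact h k hk
  exact ⟨m, by simpa using hm⟩

/-- An integer that is an algebraic-integral multiple of `p` is divisible by `p`. -/
theorem int_dvd_of_integral {p : ℕ} (hp : 0 < p) {a : ℤ} {A : ℂ} (hA : IsIntegral ℤ A)
    (h : (p : ℂ) * A = a) : (p : ℤ) ∣ a := by
  have hp' : (p : ℂ) ≠ 0 := Nat.cast_ne_zero.2 hp.ne'
  have hA' : A = (((a : ℚ) / (p : ℚ) : ℚ) : ℂ) := by
    push_cast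
    rw [eq_div_iff hp', mul_comm]
    exact h
  obtain ⟨k, hk⟩ := Char.exists_int_of_isIntegral_rat (hA' ▸ hA)
  refine ⟨k, ?_⟩
  rw [div_eq_iff (by exact_mod_cast hp.ne'), mul_comm] at hk
  exact_mod_cast hk

/-- Multiplying by a commuting element of prime order `p` changes an integral value by a multiple
of `p`, if the multiples share one value. -/
theorem dvd_sub_of_commute {χ : G → ℂ} (hχ : IsCharacter G χ) {g z : G} (hc : Commute g z)
    {p : ℕ} [hp : Fact p.Prime] (hz : orderOf z = p) (hco : ¬ p ∣ orderOf g) {a b : ℤ}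
    (ha : χ g = a) (hb : ∀ j : ℕ, ¬ p ∣ j → χ (g * z ^ j) = b) : (p : ℤ) ∣ a - b := by
  classical
  obtain ⟨d, ρ, rfl⟩ := hχ
  have hcop : (orderOf g).Coprime p := Nat.Coprime.symm (hp.out.coprime_iff_not_dvd.2 hco)
  have hord : orderOf (g * z) = orderOf g * p := by
    rw [hc.orderOf_mul_eq_mul_orderOf_of_coprime (by rwa [hz]), hz]
  obtain ⟨α, hα1, hα0⟩ := Nat.chineseRemainder hcop 1 0
  obtain ⟨β, hβ0, hβ1⟩ := Nat.chineseRemainder hcop 0 1
  have hgα : (g * z) ^ α = g := by
    rw [hc.mul_pow, pow_eq_pow_iff_modEq.2 hα1, pow_one,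
      pow_eq_pow_iff_modEq.2 (show α ≡ 0 [MOD orderOf z] by rw [hz]; exact hα0), pow_zero, mul_one]
  have hzβ : (g * z) ^ β = z := by
    rw [hc.mul_pow, pow_eq_pow_iff_modEq.2 hβ0, pow_zero,
      pow_eq_pow_iff_modEq.2 (show β ≡ 1 [MOD orderOf z] by rw [hz]; exact hβ1), pow_one, one_mul]
  obtain ⟨ι, hι, e, μ, -, hμ, hsum, -⟩ := Char.exists_char_eigen ρ (g * z)
  have hval : ∀ j : ℕ, ρ.character (g * z ^ j) = ∑ i, μ i ^ α * (μ i ^ β) ^ j := fun j => by
    have e : g * z ^ j = (g * z) ^ (α + β * j) := by rw [pow_add, pow_mul, hgα, hzβ]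
    rw [e, hsum]
    exact Finset.sum_congr rfl fun i _ => by rw [pow_add, pow_mul]
  have hr : ∀ i, (μ i ^ β) ^ p = 1 := fun i => by
    obtain ⟨m, hm⟩ := (Nat.modEq_zero_iff_dvd).1 hβ0
    rw [← pow_mul, hm, show orderOf g * m * p = orderOf (g * z) * m by rw [hord]; ring, pow_mul,
      hμ, one_pow]
  have hint : ∀ i, IsIntegral ℤ (μ i) := fun i =>
    IsIntegral.of_pow (orderOf_pos (g * z)) (by rw [hμ]; exact isIntegral_one)
  set A : ℂ := ∑ i ∈ Finset.univ.filter (fun i => μ i ^ β = 1), μ i ^ α with hAdef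
  have hA : IsIntegral ℤ A := IsIntegral.sum _ fun i _ => (hint i).pow _
  have htot : ∑ j ∈ Finset.range p, ρ.character (g * z ^ j) = (p : ℂ) * A := by
    simp only [hval, hAdef]
    rw [Finset.sum_comm, Finset.mul_sum, Finset.sum_filter]
    refine Finset.sum_congr rfl fun i _ => ?_
    rw [← Finset.mul_sum]
    split_ifs with h
    · simp [h, mul_comm]
    · rw [ClassK.RowDegree.sum_range_pow (hr i) h, mul_zero]
  have hother : ∑ j ∈ (Finset.range p).erase 0, ρ.character (g * z ^ j) =
      ((p - 1 : ℕ) : ℂ) * (b : ℂ) := by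
    rw [Finset.sum_congr rfl (g := fun _ => (b : ℂ)) fun j hj => hb j fun hd => by
      obtain ⟨h1, h2⟩ := Finset.mem_erase.1 hj
      exact absurd (Nat.le_of_dvd (Nat.pos_of_ne_zero h1) hd) (by
        have := Finset.mem_range.1 h2; omega),
      Finset.sum_const, nsmul_eq_mul, Finset.card_erase_of_mem (Finset.mem_range.2 hp.out.pos),
      Finset.card_range]
  rw [← Finset.add_sum_erase _ _ (Finset.mem_range.2 hp.out.pos), hother, pow_zero, mul_one, ha,
    Nat.cast_sub hp.out.one_le] at htot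
  have hd := int_dvd_of_integral hp.out.pos (a := a + ((p : ℤ) - 1) * b) hA (by
    rw [← htot]; push_cast; ring)
  have e : a - b = a + ((p : ℤ) - 1) * b - (p : ℤ) * b := by ring
  rw [e]
  exact dvd_sub hd (dvd_mul_right _ _)

/-- An integral value at an element of prime order is congruent to the degree. -/
theorem dvd_degree_sub {χ : IrrCharacter G} {z : G} {p : ℕ} [hp : Fact p.Prime]
    (hz : orderOf z = p) {b : ℤ} (hb : ∀ j : ℕ, ¬ p ∣ j → (χ : G → ℂ) (z ^ j) = b) :
    (p : ℤ) ∣ (charDegree (χ : G → ℂ) : ℤ) - b := by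
  refine dvd_sub_of_commute (Char.irr_isCharacter χ.2) (Commute.one_left z) hz ?_ ?_ ?_
  · rw [orderOf_one]; exact hp.out.not_dvd_one
  · rw [← BlockB.irr_degree_cast]; norm_cast
  · intro j hj; rw [one_mul]; exact hb j hj

/-- The degree divides the class length times an integral value. -/
theorem dvd_index_mul (χ : IrrCharacter G) {g : G} {a : ℤ} (ha : (χ : G → ℂ) g = a) :
    (charDegree (χ : G → ℂ) : ℤ) ∣
      ((Subgroup.centralizer ({g} : Set G)).index : ℤ) * a := by
  have h := Block.irr_centralChar_isIntegral χ.2 g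
  rw [centralChar, ha] at h
  refine int_dvd_of_integral (BlockB.irr_degree_pos χ) h ?_
  have hd : (χ : G → ℂ) 1 ≠ 0 := Char.irr_apply_one_ne_zero χ.2
  rw [BlockB.irr_degree_cast]
  push_cast
  field_simp

/-- Squares of values in a set of characters are bounded by the centraliser. -/
theorem sum_normSq_le [Fintype (IrrCharacter G)] (g : G) (T : Finset (IrrCharacter G)) :
    ∑ φ ∈ T, Complex.normSq ((φ : G → ℂ) g) ≤
      (Nat.card (Subgroup.centralizer ({g} : Set G)) : ℝ) := by
  classical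
  have := Fintype.ofFinite G
  have hcol := Char.column_orthogonality g g
  rw [if_pos (IsConj.refl g)] at hcol
  have hre := congrArg Complex.re hcol
  simp only [Complex.re_sum, Complex.mul_conj, Complex.ofReal_re, Complex.natCast_re] at hre
  rw [← hre]
  exact Finset.sum_le_univ_sum_of_nonneg fun φ => Complex.normSq_nonneg _

/-- The same for integral values. -/
theorem sum_sq_le [Fintype (IrrCharacter G)] (g : G) (T : Finset (IrrCharacter G))
    (v : IrrCharacter G → ℤ) (hv : ∀ φ ∈ T, (φ : G → ℂ) g = v φ) :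
    ∑ φ ∈ T, v φ * v φ ≤ (Nat.card (Subgroup.centralizer ({g} : Set G)) : ℤ) := by
  have h := sum_normSq_le g T
  rw [Finset.sum_congr rfl (g := fun φ => ((v φ * v φ : ℤ) : ℝ)) fun φ hφ => by
    rw [hv φ hφ, ← Complex.ofReal_intCast, Complex.normSq_ofReal]; push_cast; ring,
    ← Int.cast_sum] at h
  exact_mod_cast h

/-- The sum of a character over a subgroup is a natural multiple of its order. -/
theorem exists_sum_subgroup {χ : G → ℂ} (hχ : IsCharacter G χ) (H : Subgroup G) [Fintype H] :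
    ∃ m : ℕ, ∑ x : H, χ x = (Nat.card H : ℂ) * m := by
  classical
  obtain ⟨d, hd⟩ := Char.classInner_isCharacter_nat (Char.isCharacter_comp hχ H.subtype)
    (Char.irr_isCharacter (Char.isIrrCharacter_one (G := H)))
  refine ⟨d, ?_⟩
  rw [Char.classInner_def] at hd
  simp only [map_one, mul_one, Function.comp_apply, Subgroup.coe_subtype] at hd
  have hH : (Nat.card H : ℂ) ≠ 0 := Nat.cast_ne_zero.2 Nat.card_pos.ne'
  rw [← hd, ← mul_assoc, mul_inv_cancel₀ hH, one_mul]

end CfsgLib.Recog.OrderM12
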