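import Cfsg.Agent.Lib.Recog.OrderM12.Sieve

/-!
# Simple groups of order 95040: the rows of the principal 11-block

Values on the rows at an 11-regular element give a vector found by the finite search.
-/

set_option autoImplicit false
set_option synthInstance.maxSize 2000

namespace CfsgLib.Recog.OrderM12

open Cfsg CfsgLib CfsgLib.Block CfsgLib.ClassK CfsgLib.ClassK.RowSieve CfsgLib.ClassK.RowInvolution
open scoped ComplexConjugate

universe u

variable {G : Type u} [Group G] [Finite G]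

/-- The trivial character. -/
noncomputable def trivChar : IrrCharacter G := ⟨fun _ => 1, Char.isIrrCharacter_one⟩

@[simp] theorem trivChar_apply (g : G) : ((trivChar : IrrCharacter G) : G → ℂ) g = 1 := rfl

theorem deg_trivChar : charDegree ((trivChar : IrrCharacter G) : G → ℂ) = 1 := by
  have h := BlockB.irr_degree_cast (trivChar : IrrCharacter G)
  rw [trivChar_apply] at h
  exact_mod_cast h

theorem not_comm [IsSimpleGroup G] (h : Nat.card G = 95040) : ¬ IsMulCommutative G := fun hc => by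
  let : CommGroup G := { (inferInstance : Group G) with mul_comm := hc.is_comm.comm }
  have := IsSimpleGroup.prime_card (α := G)
  rw [h] at this
  norm_num at this

/-- The degree and the sign of a row. -/
noncomputable def rowKey (ε : IrrCharacter G → ℤ) (φ : IrrCharacter G) : ℕ × Bool :=
  (charDegree (φ : G → ℂ), decide (ε φ = 1))

/-- The sign of a degree candidate is its residue. -/
theorem sign_of_deg : ∀ l : List (ℕ × Bool),
    (l.all fun a => decide (a.2 = decide (a.1 % 11 = 1))) = true →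
      l = (l.map Prod.fst).map fun d => (d, decide (d % 11 = 1)) := by
  intro l hl
  induction l with
  | nil => rfl
  | cons a as ih =>
    simp only [List.all_cons, Bool.and_eq_true, decide_eq_true_eq] at hl
    rw [List.map_cons, List.map_cons, ← ih hl.2, ← hl.1]

open scoped Classical in
/-- The nonexceptional rows other than the trivial one. -/
noncomputable def others (CF : Finset (IrrCharacter G)) : Finset (IrrCharacter G) :=
  CF.erase trivChar

theorem mem_others {CF : Finset (IrrCharacter G)} {φ : IrrCharacter G} :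
    φ ∈ others CF ↔ φ ≠ trivChar ∧ φ ∈ CF := by
  classical
  exact Finset.mem_erase

theorem sum_others {α : Type*} [AddCommMonoid α] {CF : Finset (IrrCharacter G)}
    (h : (trivChar : IrrCharacter G) ∈ CF) (f : IrrCharacter G → α) :
    ∑ φ ∈ CF, f φ = f trivChar + ∑ φ ∈ others CF, f φ := by
  classical
  exact (Finset.add_sum_erase _ _ h).symm

/-- The rows with their degrees. -/
structure Setup [Fact (Nat.Prime 11)] (P : Sylow 11 G) (l : List (ℕ × Bool)) (d : ℕ) (σ : ℤ)
    (M : Ideal AlgInt) (CF YF : Finset (IrrCharacter G)) (ε : IrrCharacter G → ℤ) : Prop where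
  simple : IsSimpleGroup G
  card : Nat.card G = 95040
  card_P : Nat.card P = 11
  modular : IsPModular 11 M
  rows : Rows M P 5 2 d σ CF YF ε
  map : (others CF).val.map (rowKey ε) = ↑l

theorem exists_setup [Fact (Nat.Prime 11)] [IsSimpleGroup G] (h : Nat.card G = 95040)
    (P : Sylow 11 G) {np : ℕ} (hnp : Nat.card (Sylow 11 G) = np)
    (he : (Subgroup.centralizer ((P : Subgroup G) : Set G)).relIndex
      (Subgroup.normalizer ((P : Subgroup G) : Set G)) = 5) :
    ∃ (l : List (ℕ × Bool)) (d : ℕ) (σ : ℤ) (M : Ideal AlgInt)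
      (CF YF : Finset (IrrCharacter G)) (ε : IrrCharacter G → ℤ),
      l ∈ RowInvolution.sols 95040 (cands 95040 (np * 5) 11 309 false fun _ => true) 4 0 ∧
      (d, σ) ∈ excData 95040 (np * 5) 11 309 5 2 l ∧ Setup P l d σ M CF YF ε := by
  classical
  have := Fintype.ofFinite (IrrCharacter G)
  obtain ⟨l, d, σ, M, CF, YF, ε, hl, hd, hM, D, hmap⟩ :=
    StructC.OrdersBelow.exists_rows_sol (B := 309) (t := 2) (not_comm h) h (by norm_num)
      (by norm_num) (by norm_num) P hnp he (by norm_num) (by norm_num)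
  refine ⟨l, d, σ, M, CF, YF, ε, hl, hd, ⟨inferInstance, h,
    CfsgLib.Transfer.card_sylow_eq_prime P (by rw [h]; norm_num) (by rw [h]; norm_num), hM, D, ?_⟩⟩
  have hsign : ∀ φ ∈ CF, rowKey ε φ =
      (fun k : ℕ => (k, decide (k % 11 = 1))) (charDegree (φ : G → ℂ)) := fun φ hφ => by
    have hm := D.CF_mod φ hφ
    refine Prod.ext rfl ?_
    simp only [rowKey, decide_eq_decide]
    rcases D.eps_pm φ hφ with e | e <;> rw [e] at hm ⊢ <;> simp only [Nat.cast_ofNat] at hm <;> omega
  have hlb : (l.all fun a => decide (a.2 = decide (a.1 % 11 = 1))) = true := by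
    rw [List.all_eq_true]
    intro a ha
    have hsub : ∀ (L : List (ℕ × Bool)) (k S : ℕ), ∀ l ∈ RowInvolution.sols 95040 L k S,
        ∀ a ∈ l, a ∈ L := by
      intro L
      induction L with
      | nil =>
        intro k S l hl a ha
        simp only [RowInvolution.sols] at hl
        split_ifs at hl <;> simp_all
      | cons c cs ih =>
        intro k S l hl a ha
        simp only [RowInvolution.sols, List.mem_flatMap] at hl
        obtain ⟨j, -, hj⟩ := hl
        split_ifs at hj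
        · obtain ⟨l', hl', rfl⟩ := List.mem_map.1 hj
          rcases List.mem_append.1 ha with ha | ha
          · exact List.mem_cons.2 (Or.inl (List.eq_of_mem_replicate ha))
          · exact List.mem_cons.2 (Or.inr (ih _ _ l' hl' a ha))
        · simp at hj
    have hc := List.mem_filter.1 (hsub _ _ _ l hl a ha)
    obtain ⟨k, b⟩ := a
    cases b <;> simp [candOK] at hc ⊢ <;> omega
  unfold others
  rw [sign_of_deg l hlb, ← Multiset.map_coe, show (trivChar : IrrCharacter G) =
    ⟨fun _ => 1, Char.isIrrCharacter_one⟩ from rfl]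
  refine (Multiset.map_congr rfl fun φ hφ => hsign φ ((mem_others.1 hφ).2)).trans ?_
  rw [← hmap, Multiset.map_map]
  rfl

namespace Setup

variable [Fact (Nat.Prime 11)] {P : Sylow 11 G} {l : List (ℕ × Bool)} {d : ℕ} {σ : ℤ}
  {M : Ideal AlgInt} {CF YF : Finset (IrrCharacter G)} {ε : IrrCharacter G → ℤ}
  (S : Setup P l d σ M CF YF ε)
include S

theorem exists_x : ∃ x ∈ (P : Subgroup G), x ≠ 1 := by
  refine Subgroup.bot_or_exists_ne_one _ |>.resolve_left fun h => ?_
  have := S.card_P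
  rw [h, Subgroup.card_bot] at this
  norm_num at this

theorem orderOf_x {x : G} (hx : x ∈ (P : Subgroup G)) (hx1 : x ≠ 1) : orderOf x = 11 := by
  have hd := Subgroup.orderOf_dvd_natCard (P : Subgroup G) hx
  rw [S.card_P] at hd
  exact ((Nat.dvd_prime Fact.out).1 hd).resolve_left fun h' => hx1 (orderOf_eq_one_iff.1 h')

theorem perfect : commutator G = ⊤ := by
  haveI := S.simple
  exact CfsgLib.Transfer.commutator_eq_top_of_simple (not_comm S.card)

theorem not_triv {η : IrrCharacter G} (hη : η ∈ YF) : η ≠ trivChar := fun h =>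
  Finset.disjoint_left.1 S.rows.disj S.rows.one_mem (h ▸ hη : (trivChar : IrrCharacter G) ∈ YF)

theorem mem_l {φ : IrrCharacter G} (hφ : φ ∈ CF) (hne : φ ≠ trivChar) : rowKey ε φ ∈ l := by
  classical
  have h : rowKey ε φ ∈ (others CF).val.map (rowKey ε) :=
    Multiset.mem_map.2 ⟨φ, mem_others.2 ⟨hne, hφ⟩, rfl⟩
  rwa [S.map] at h

theorem sgn_eq {φ : IrrCharacter G} (hφ : φ ∈ CF) : sgn (rowKey ε φ) = ε φ := by
  rcases S.rows.eps_pm φ hφ with h | h <;> simp [sgn, rowKey, h]

open scoped Classical in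
/-- Integral values on all the rows give a vector of the search. -/
theorem exists_vec {g : G} (hg : ¬ 11 ∣ orderOf g) (R : ℕ → List ℤ)
    (hR : ∀ φ ∈ CF ∪ YF, φ ≠ trivChar →
      ∃ v ∈ R (charDegree (φ : G → ℂ)), (φ : G → ℂ) g = v) :
    ∃ (q : IrrCharacter G → ℤ), ∃ r ∈ vecs 95040 2 (Nat.card (Subgroup.centralizer ({g} : Set G)))
        R l d σ,
      (∀ φ ∈ others CF, (φ : G → ℂ) g = q φ) ∧
      (others CF).val.map (fun φ => (rowKey ε φ, q φ)) = ↑r ∧
      ∀ η ∈ YF, (η : G → ℂ) g = excVal σ r := by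
  have := Fintype.ofFinite (IrrCharacter G)
  set c := Nat.card (Subgroup.centralizer ({g} : Set G)) with hc
  have hq : ∀ φ : IrrCharacter G, ∃ a : ℤ, φ ∈ CF ∪ YF → φ ≠ trivChar →
      (φ : G → ℂ) g = a ∧ a ∈ candV 95040 c R (charDegree (φ : G → ℂ)) := fun φ => by
    by_cases h : φ ∈ CF ∪ YF ∧ φ ≠ trivChar
    · obtain ⟨v, hv, hval⟩ := hR φ h.1 h.2
      refine ⟨v, fun _ _ => ⟨hval, List.mem_filter.2 ⟨hv, ?_⟩⟩⟩
      rw [admissible, Bool.and_eq_true, decide_eq_true_eq, decide_eq_true_eq]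
      refine ⟨?_, Int.emod_eq_zero_of_dvd ?_⟩
      · have := sum_sq_le g {φ} (fun _ => v) (fun ψ hψ => by
          rw [Finset.mem_singleton.1 hψ]; exact hval)
        simpa using this
      · have hi : (Subgroup.centralizer ({g} : Set G)).index = 95040 / c := by
          have h2 := (Subgroup.centralizer ({g} : Set G)).index_mul_card
          rw [← hc, S.card] at h2
          rw [← h2, Nat.mul_div_cancel _ Nat.card_pos]
        rw [← hi]
        exact dvd_index_mul φ hval
    · exact ⟨0, fun h1 h2 => absurd ⟨h1, h2⟩ h⟩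
  choose q hq using hq
  have hqC : ∀ φ ∈ others CF, (φ : G → ℂ) g = q φ ∧
      q φ ∈ candV 95040 c R (charDegree (φ : G → ℂ)) := fun φ hφ =>
    hq φ (Finset.mem_union_left _ ((mem_others.1 hφ).2)) ((mem_others.1 hφ).1)
  obtain ⟨r, hr, hmap⟩ := assignV_sound (rowKey ε) q (candV 95040 c R) l (others CF).val
    (fun φ hφ => (hqC φ hφ).2) S.map
  have hrsum : ∀ w : (ℕ × Bool) × ℤ → ℤ,
      (r.map w).sum = ∑ φ ∈ others CF, w (rowKey ε φ, q φ) := fun w => by
    rw [← Multiset.sum_coe, ← Multiset.map_coe, ← hmap, Multiset.map_map]; rfl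
  have hσ : (σ : ℂ) * (σ : ℂ) = 1 := by rcases S.rows.sign with h | h <;> simp [h]
  have hexc : ∀ η ∈ YF, (η : G → ℂ) g = excVal σ r := fun η hη => by
    have h := S.rows.relation (by norm_num) η hη g hg
    have hsum : ∑ φ ∈ CF, (ε φ : ℂ) * (φ : G → ℂ) g =
        ((1 + (r.map fun a => sgn a.1 * a.2).sum : ℤ) : ℂ) := by
      rw [sum_others S.rows.one_mem, hrsum, Int.cast_add, Int.cast_one, Int.cast_sum,
        show ε trivChar = 1 from S.rows.eps_one]
      simp only [trivChar_apply, Int.cast_one, one_mul]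
      refine congrArg _ (Finset.sum_congr rfl fun φ hφ => ?_)
      rw [(hqC φ hφ).1, S.sgn_eq ((mem_others.1 hφ).2), Int.cast_mul]
    rw [hsum] at h
    rw [excVal, Int.cast_mul, h, ← mul_assoc, hσ, one_mul]
  refine ⟨q, r, ?_, fun φ hφ => (hqC φ hφ).1, hmap, hexc⟩
  simp only [vecs, List.mem_filter, Bool.and_eq_true, decide_eq_true_eq, List.contains_iff_mem]
  obtain ⟨η, hη⟩ : YF.Nonempty := Finset.card_pos.1 (by rw [S.rows.card_YF]; norm_num)
  have hηq := hq η (Finset.mem_union_right _ hη) (S.not_triv hη)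
  have he : q η = excVal σ r := by
    have := hηq.1.symm.trans (hexc η hη)
    exact_mod_cast this
  refine ⟨hr, ?_, ?_⟩
  · have hle := sum_sq_le g (CF ∪ YF) (fun φ => if φ = trivChar then 1 else q φ) fun φ hφ => by
      by_cases h : φ = trivChar
      · simp [h]
      · rw [if_neg h]; exact (hq φ hφ h).1
    rw [Finset.sum_union S.rows.disj,
      sum_others S.rows.one_mem] at hle
    rw [hrsum]
    have e1 : ∑ φ ∈ YF, (if φ = trivChar then (1 : ℤ) else q φ) *
        (if φ = trivChar then (1 : ℤ) else q φ) = ((2 : ℕ) : ℤ) * (excVal σ r * excVal σ r) := by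
      rw [Finset.sum_congr rfl (g := fun _ => excVal σ r * excVal σ r) fun φ hφ => by
        rw [if_neg (S.not_triv hφ)]
        have h1 := ((hq φ (Finset.mem_union_right _ hφ) (S.not_triv hφ)).1.symm.trans (hexc φ hφ))
        rw [show q φ = excVal σ r by exact_mod_cast h1],
        Finset.sum_const, S.rows.card_YF, if_neg (by norm_num), nsmul_eq_mul]
    rw [e1, Finset.sum_congr rfl (g := fun φ => q φ * q φ) (s₁ := others CF) fun φ hφ => by
      rw [if_neg ((mem_others.1 hφ).1)]] at hle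
    simpa [trivChar] using hle
  · rw [← he, ← S.rows.YF_deg η hη]
    exact hηq.2

open scoped Classical in
/-- The scaled sum over pairs counts products of conjugates lying in the class of `x`. -/
theorem exists_pairs [Fintype G] (hC : Nat.card (Subgroup.centralizer ((P : Subgroup G) : Set G)) = 11)
    {g x : G} (hx : x ∈ (P : Subgroup G)) (hx1 : x ≠ 1) :
    ∃ m : ℕ,
      (∀ _ : ∀ s : G, ¬ IsConj (g * (s * g * s⁻¹)) x, m = 0) ∧
      ∑ φ ∈ CF, (95040 : ℂ) * (φ : G → ℂ) g * (φ : G → ℂ) g / (φ : G → ℂ) 1 * (ε φ : ℂ) +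
          ∑ η ∈ YF, (95040 : ℂ) * (η : G → ℂ) g * (η : G → ℂ) g / (η : G → ℂ) 1 *
            conj ((η : G → ℂ) x) =
        ((Nat.card (Subgroup.centralizer ({g} : Set G)) : ℕ) : ℂ) *
          (Nat.card (Subgroup.centralizer ({g} : Set G)) : ℂ) * m := by
  haveI := S.simple
  have := Fintype.ofFinite (IrrCharacter G)
  set c := Nat.card (Subgroup.centralizer ({g} : Set G)) with hc
  set T := (Finset.univ : Finset (G × G)).filter fun z =>
    (z.1 * g * z.1⁻¹) * (z.2 * g * z.2⁻¹) = x with hT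
  set I := T.image fun z => (z.1 * g * z.1⁻¹, z.2 * g * z.2⁻¹) with hI
  refine ⟨I.card, fun hno => Finset.card_eq_zero.2 (Finset.image_eq_empty.2
    (Finset.filter_eq_empty_iff.2 fun z _ hz => hno (z.1⁻¹ * z.2)
      (isConj_iff.2 ⟨z.1, by rw [← hz]; group⟩))), ?_⟩
  have hTI : T.card = c * c * I.card := by
    rw [mul_comm, hI, Finset.card_eq_sum_card_image (fun z => (z.1 * g * z.1⁻¹, z.2 * g * z.2⁻¹)) T,
      Finset.sum_congr rfl (g := fun _ => c * c) fun w hw => ?_, Finset.sum_const, smul_eq_mul]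
    obtain ⟨z, hz, rfl⟩ := Finset.mem_image.1 hw
    have e : T.filter (fun y => (y.1 * g * y.1⁻¹, y.2 * g * y.2⁻¹) =
          (z.1 * g * z.1⁻¹, z.2 * g * z.2⁻¹)) =
        (Finset.univ.filter fun a : G => a * g * a⁻¹ = z.1 * g * z.1⁻¹) ×ˢ
          (Finset.univ.filter fun a : G => a * g * a⁻¹ = z.2 * g * z.2⁻¹) := by
      ext y
      simp only [Finset.mem_filter, Finset.mem_product, Finset.mem_univ, true_and, Prod.mk.injEq, hT]
      exact ⟨fun h => h.2, fun h => ⟨by rw [h.1, h.2]; exact (Finset.mem_filter.1 hz).2, h⟩⟩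
    rw [e, Finset.card_product, CfsgLib.Transfer.card_conj_filter, CfsgLib.Transfer.card_conj_filter,
      if_pos (isConj_iff.2 ⟨z.1, rfl⟩), if_pos (isConj_iff.2 ⟨z.2, rfl⟩)]
  have e1 : T.card = ∑ s : G,
      (Finset.univ.filter fun a : G => a * (g * (s * g * s⁻¹)) * a⁻¹ = x).card := by
    rw [← Finset.card_sigma]
    refine Finset.card_bij' (fun q _ => ⟨q.1⁻¹ * q.2, q.1⟩) (fun q _ => (q.2, q.2 * q.1))
      (fun q hq => ?_) (fun q hq => ?_) (fun q _ => by simp) (fun q _ => by simp)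
    · refine Finset.mem_sigma.2 ⟨Finset.mem_univ _, Finset.mem_filter.2 ⟨Finset.mem_univ _, ?_⟩⟩
      rw [← (Finset.mem_filter.1 hq).2]; group
    · refine Finset.mem_filter.2 ⟨Finset.mem_univ _, ?_⟩
      rw [← (Finset.mem_filter.1 (Finset.mem_sigma.1 hq).2).2]; group
  have hS : ∑ s : G, ∑ φ : IrrCharacter G, (φ : G → ℂ) (g * (s * g * s⁻¹)) *
      conj ((φ : G → ℂ) x) = (T.card : ℂ) := by
    rw [e1, Nat.cast_sum]
    refine Finset.sum_congr rfl fun s _ => ?_
    rw [Char.column_orthogonality, CfsgLib.Transfer.card_conj_filter]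
    split_ifs with h
    · rfl
    · simp
  rw [Finset.sum_comm, ← Finset.sum_subset (Finset.subset_univ (CF ∪ YF)) fun φ _ hφ => by
    rw [Finset.mem_union, not_or] at hφ
    rw [StructC.RowsTools.apply_eq_zero S.modular S.rows S.card_P hC hφ.1 hφ.2 hx hx1, map_zero]
    simp] at hS
  simp only [← Finset.sum_mul, BlockB.sum_irr_mul_conj] at hS
  rw [Finset.sum_union S.rows.disj, hTI, Nat.cast_mul, Nat.cast_mul, S.card] at hS
  rw [← hS]
  push_cast
  refine congrArg₂ (· + ·) (Finset.sum_congr rfl fun φ hφ => ?_) rfl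
  rw [S.rows.CF_val φ hφ x hx hx1, map_intCast]

open scoped Classical in
/-- The scaled sum over pairs, for an integral vector. -/
theorem selfE_eq (hC : Nat.card (Subgroup.centralizer ((P : Subgroup G) : Set G)) = 11)
    {g x : G} (hx : x ∈ (P : Subgroup G)) (hx1 : x ≠ 1) {q : IrrCharacter G → ℤ}
    {r : List ((ℕ × Bool) × ℤ)} (hq : ∀ φ ∈ others CF, (φ : G → ℂ) g = q φ)
    (hr : (others CF).val.map (fun φ => (rowKey ε φ, q φ)) = ↑r)
    (hY : ∀ η ∈ YF, (η : G → ℂ) g = excVal σ r) :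
    ∃ m : ℕ, (∀ _ : ∀ s : G, ¬ IsConj (g * (s * g * s⁻¹)) x, m = 0) ∧
      selfE 95040 d σ r = (Nat.card (Subgroup.centralizer ({g} : Set G)) : ℤ) *
        (Nat.card (Subgroup.centralizer ({g} : Set G)) : ℤ) * m := by
  have := Fintype.ofFinite G
  have := Fintype.ofFinite (IrrCharacter G)
  obtain ⟨m, hm0, hm⟩ := S.exists_pairs hC (g := g) hx hx1
  refine ⟨m, hm0, ?_⟩
  have hdiv : ∀ φ : IrrCharacter G, ((95040 / charDegree (φ : G → ℂ) : ℕ) : ℂ) =
      (95040 : ℂ) / (φ : G → ℂ) 1 := fun φ => by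
    rw [Nat.cast_div (S.card ▸ BlockB.irr_degree_dvd_card φ)
      (Nat.cast_ne_zero.2 (BlockB.irr_degree_pos φ).ne'), BlockB.irr_degree_cast]
    norm_num
  have hrsum : ∀ w : (ℕ × Bool) × ℤ → ℤ,
      (r.map w).sum = ∑ φ ∈ others CF, w (rowKey ε φ, q φ) := fun w => by
    rw [← Multiset.sum_coe, ← Multiset.map_coe, ← hr, Multiset.map_map]; rfl
  have hCF : ∑ φ ∈ CF, (95040 : ℂ) * (φ : G → ℂ) g * (φ : G → ℂ) g / (φ : G → ℂ) 1 * (ε φ : ℂ) =
      ((((95040 : ℕ) : ℤ) + (r.map fun a => sgn a.1 * a.2 * a.2 * ((95040 / a.1.1 : ℕ) : ℤ)).sum :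
        ℤ) : ℂ) := by
    rw [sum_others S.rows.one_mem, hrsum, Int.cast_add,
      Int.cast_sum, show ε trivChar = 1 from S.rows.eps_one]
    simp only [trivChar_apply]
    refine congrArg₂ (· + ·) (by norm_num) (Finset.sum_congr rfl fun φ hφ => ?_)
    rw [hq φ hφ, S.sgn_eq ((mem_others.1 hφ).2)]
    simp only [Int.cast_mul, Int.cast_natCast, rowKey, hdiv]
    ring
  have hYF : ∑ η ∈ YF, (95040 : ℂ) * (η : G → ℂ) g * (η : G → ℂ) g / (η : G → ℂ) 1 *
      conj ((η : G → ℂ) x) =
      ((-(σ * (excVal σ r * excVal σ r) * ((95040 / d : ℕ) : ℤ)) : ℤ) : ℂ) := by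
    obtain ⟨η₀, hη₀⟩ : YF.Nonempty := Finset.card_pos.1 (by rw [S.rows.card_YF]; norm_num)
    rw [Finset.sum_congr rfl (g := fun η : IrrCharacter G =>
      ((95040 / d : ℕ) : ℂ) * ((excVal σ r : ℂ) * (excVal σ r : ℂ)) * conj ((η : G → ℂ) x))
      fun η hη => by
        rw [hY η hη, ← S.rows.YF_deg η hη, hdiv]; ring,
      ← Finset.mul_sum, ← map_sum, S.rows.YF_sum (by norm_num) x hx hx1, map_intCast]
    simp only [Int.cast_neg, Int.cast_mul, Int.cast_natCast]
    ring
  rw [hCF, hYF, ← Int.cast_add] at hm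
  rw [selfE, sub_eq_add_neg]
  exact_mod_cast hm

end Setup

end CfsgLib.Recog.OrderM12
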