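import Cfsg.Agent.Lib.Recog.OrderM12.Block

/-!
# Simple groups of order 95040: an element of order eleven is self-centralising
-/

set_option autoImplicit false
set_option linter.style.haveILetI false
set_option synthInstance.maxSize 2000
set_option maxHeartbeats 1000000

namespace CfsgLib.Recog.OrderM12

open Cfsg CfsgLib CfsgLib.Block CfsgLib.ClassK CfsgLib.ClassK.RowSieve CfsgLib.ClassK.RowInvolution
open scoped ComplexConjugate

universe u

variable {G : Type u} [Group G] [Finite G]

/-- The constant rows at products with regular elements of the centraliser. -/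
theorem row_mul_eq [Fact (Nat.Prime 11)] {M : Ideal AlgInt} (hM : IsPModular 11 M) (P : Sylow 11 G)
    (hP : Nat.card P = 11) {e t d : ℕ} {σ : ℤ} {CF YF : Finset (IrrCharacter G)}
    {ε : IrrCharacter G → ℤ} (D : Rows M P e t d σ CF YF ε) (φ : IrrCharacter G) (hφ : φ ∈ CF)
    {x z : G} (hx : x ∈ (P : Subgroup G)) (hx1 : x ≠ 1)
    (hz : z ∈ Subgroup.centralizer ((P : Subgroup G) : Set G)) (hzr : ¬ 11 ∣ orderOf z) :
    (φ : G → ℂ) (x * z) = (ε φ : ℂ) := by
  classical
  obtain ⟨E, a, hE, -, hshape, -, hval, -, -, hPsum⟩ :=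
    PrimeRows.exists_rows_sum 11 M hM P hP e D.e_eq
  have hB : φ ∈ principalBlock M G := (D.mem φ).2 (Or.inl hφ)
  have := Fintype.ofFinite (P : Subgroup G)
  have h := hPsum φ hB
  rw [finsum_eq_sum_of_fintype] at h
  have hsum : ∑ y : (P : Subgroup G), (φ : G → ℂ) y = (φ : G → ℂ) 1 + ((10 * ε φ : ℤ) : ℂ) := by
    rw [← Finset.add_sum_erase _ _ (Finset.mem_univ (1 : (P : Subgroup G))),
      Finset.sum_congr rfl (g := fun _ => (ε φ : ℂ)) fun (y : (P : Subgroup G)) hy =>
        D.CF_val φ hφ y y.2 fun h' => (Finset.mem_erase.1 hy).1 (Subtype.ext h'),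
      Finset.sum_const, Finset.card_erase_of_mem (Finset.mem_univ _), Finset.card_univ,
      ← Nat.card_eq_fintype_card, show Nat.card (P : Subgroup G) = 11 from hP, Subgroup.coe_one,
      nsmul_eq_mul]
    push_cast
    ring
  rw [hsum] at h
  have htot : ∑ v, a φ v = -(10 * ε φ) := by
    have h' : ((∑ v, a φ v : ℤ) : ℂ) = ((-(10 * ε φ) : ℤ) : ℂ) := by
      push_cast at h ⊢; linear_combination h
    exact_mod_cast h'
  obtain ⟨c, hc, hca | ⟨w, hw⟩⟩ := hshape φ hB
  · rw [Finset.sum_congr rfl fun v _ => hca v, Finset.sum_const, Finset.card_univ, ZMod.card_units,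
      nsmul_eq_mul] at htot
    rw [hval φ hB c hca x hx hx1 z hz hzr]
    have : c = -ε φ := by push_cast at htot; omega
    rw [this]
    push_cast
    ring
  · by_cases htop : E = ⊤
    · have hca : ∀ v, a φ v = c := fun v => (hw v).1 (htop ▸ Subgroup.mem_top _)
      rw [Finset.sum_congr rfl fun v _ => hca v, Finset.sum_const, Finset.card_univ, ZMod.card_units,
        nsmul_eq_mul] at htot
      rw [hval φ hB c hca x hx hx1 z hz hzr]
      have : c = -ε φ := by push_cast at htot; omega
      rw [this]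
      push_cast
      ring
    · exfalso
      have hlt : Nat.card E < 10 := by
        have h1 := Nat.le_of_dvd Nat.card_pos (Subgroup.card_subgroup_dvd_card E)
        have h2 : Nat.card (ZMod 11)ˣ = 10 := by rw [Nat.card_eq_fintype_card, ZMod.card_units]
        rcases lt_or_eq_of_le (h2 ▸ h1) with h3 | h3
        · exact h3
        · exact absurd (Subgroup.eq_top_of_card_eq _ (h3.trans h2.symm)) htop
      rw [← Finset.sum_filter_add_sum_filter_not Finset.univ (fun v => w⁻¹ * v ∈ E),
        Finset.sum_congr rfl (g := fun _ => c) fun v hv => (hw v).1 (Finset.mem_filter.1 hv).2,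
        Finset.sum_congr rfl (g := fun _ => (0 : ℤ)) (s₁ := Finset.univ.filter fun v => ¬ w⁻¹ * v ∈ E)
          fun v hv => (hw v).2 (Finset.mem_filter.1 hv).2,
        Finset.sum_const_zero, add_zero, Finset.sum_const, nsmul_eq_mul] at htot
      have hcard : (Finset.univ.filter fun v => w⁻¹ * v ∈ E).card = Nat.card E := by
        rw [Nat.card_eq_fintype_card, ← Finset.card_univ]
        exact Finset.card_bij' (fun v hv => ⟨w⁻¹ * v, (Finset.mem_filter.1 hv).2⟩)
          (fun v _ => w * v) (fun v hv => Finset.mem_univ _)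
          (fun v _ => Finset.mem_filter.2 ⟨Finset.mem_univ _, by simp⟩) (fun v hv => by simp)
          (fun v _ => Subtype.ext (by simp))
      rw [hcard] at htot
      push_cast at htot
      rcases hc with rfl | rfl <;> rcases D.eps_pm φ hφ with h1 | h1 <;> rw [h1] at htot <;> omega

variable [IsSimpleGroup G]

theorem faithful (φ : IrrCharacter G) (hne : φ ≠ trivChar) {g : G} (hg : g ≠ 1) :
    (φ : G → ℂ) g ≠ (φ : G → ℂ) 1 :=
  CfsgLib.Transfer.irr_apply_ne_apply_one φ (fun h => hne (Subtype.ext h)) hg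

theorem not_mem_center (h : Nat.card G = 95040) {g : G} (hg : g ≠ 1) : g ∉ Subgroup.center G := by
  intro hcen
  rcases IsSimpleGroup.eq_bot_or_eq_top_of_normal (Subgroup.center G) inferInstance with hc | hc
  · rw [hc, Subgroup.mem_bot] at hcen; exact hg hcen
  · exact not_comm h ⟨⟨fun a b => Subgroup.mem_center_iff.1 (hc.ge (Subgroup.mem_top b)) a⟩⟩

/-- The value at an involution. -/
theorem invol_value (h : Nat.card G = 95040) (φ : IrrCharacter G) (hne : φ ≠ trivChar) {k : G}
    (hk : orderOf k = 2) : ∃ a ∈ qRange (charDegree (φ : G → ℂ)), (φ : G → ℂ) k = (a : ℂ) := by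
  have hk1 : k ≠ 1 := fun e => by rw [e, orderOf_one] at hk; norm_num at hk
  exact exists_mem_qRange (CfsgLib.Transfer.commutator_eq_top_of_simple (not_comm h)) φ hk
    (fun g hg => faithful φ hne hg) (not_mem_center h hk1)

/-- The value at an involution centralising `x`, modulo eleven. -/
theorem value_mod [Fact (Nat.Prime 11)] {M : Ideal AlgInt} (hM : IsPModular 11 M) (P : Sylow 11 G)
    (hP : Nat.card P = 11) {e t d : ℕ} {σ : ℤ} {CF YF : Finset (IrrCharacter G)}
    {ε : IrrCharacter G → ℤ} (D : Rows M P e t d σ CF YF ε) (φ : IrrCharacter G) (hφ : φ ∈ CF)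
    {x k : G} (hx : x ∈ (P : Subgroup G)) (hx1 : x ≠ 1)
    (hkC : k ∈ Subgroup.centralizer ((P : Subgroup G) : Set G)) (hk : orderOf k = 2) {a : ℤ}
    (ha : (φ : G → ℂ) k = (a : ℂ)) : (11 : ℤ) ∣ a - (charDegree (φ : G → ℂ) : ℤ) := by
  have hkr : ¬ 11 ∣ orderOf k := by rw [hk]; norm_num
  have hxo : orderOf x = 11 := by
    have hd := Subgroup.orderOf_dvd_natCard (P : Subgroup G) hx
    rw [hP] at hd
    exact ((Nat.dvd_prime Fact.out).1 hd).resolve_left fun h' => hx1 (orderOf_eq_one_iff.1 h')
  have hc : Commute k x := (Subgroup.mem_centralizer_iff.1 hkC x hx).symm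
  have h1 : (11 : ℤ) ∣ a - ε φ := by
    refine dvd_sub_of_commute (p := 11) (Char.irr_isCharacter φ.2) hc hxo hkr ha fun j hj => ?_
    rw [(hc.pow_right j).eq]
    exact row_mul_eq hM P hP D φ hφ (Subgroup.pow_mem _ hx j) (fun h => hj (by
      rw [← hxo]; exact orderOf_dvd_of_pow_eq_one h)) hkC hkr
  have h2 := D.CF_mod φ hφ
  have e : a - (charDegree (φ : G → ℂ) : ℤ) = (a - ε φ) + (ε φ - (charDegree (φ : G → ℂ) : ℤ)) := by
    ring
  rw [e]
  exact dvd_add h1 h2

/-- The candidate values at an involution centralising `x`. -/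
def atCentral (d₀ d : ℕ) : List ℤ :=
  if d = d₀ then qRange d else (qRange d).filter fun v => decide ((v - (d : ℤ)) % 11 = 0)

theorem check_half : ((RowInvolution.sols 95040 (cands 95040 (144 * 5) 11 309 false fun _ => true) 4 0).all
    fun l => (excData 95040 (144 * 5) 11 309 5 2 l).all fun ds =>
      (l.all fun a => !decide (a.1 = ds.1)) &&
        ((List.range 8641).filter fun c => decide (95040 % c = 0)).all fun c =>
          (vecs 95040 2 c (atCentral ds.1) l ds.1 ds.2).isEmpty) = true := by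
  decide +kernel

/-- The configuration at the prime eleven. -/
theorem config [Fact (Nat.Prime 11)] (h : Nat.card G = 95040) (P : Sylow 11 G) :
    Nat.card (Sylow 11 G) = 1728 ∧
      (Subgroup.centralizer ((P : Subgroup G) : Set G)).relIndex
        (Subgroup.normalizer ((P : Subgroup G) : Set G)) = 5 ∧
      Nat.card (Subgroup.centralizer ((P : Subgroup G) : Set G)) = 11 := by
  classical
  have hG := not_comm h
  have hP : Nat.card P = 11 :=
    CfsgLib.Transfer.card_sylow_eq_prime P (by rw [h]; norm_num) (by rw [h]; norm_num)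
  set np := Nat.card (Sylow 11 G) with hnp
  set e := (Subgroup.centralizer ((P : Subgroup G) : Set G)).relIndex
    (Subgroup.normalizer ((P : Subgroup G) : Set G)) with he
  set C := Subgroup.centralizer ((P : Subgroup G) : Set G) with hC
  have hcfg : np * (e * Nat.card C) = 95040 := by rw [← h]; exact card_config P
  have hPconj : ∀ Q : Sylow 11 G, (Subgroup.centralizer ((Q : Subgroup G) : Set G)).relIndex
      (Subgroup.normalizer ((Q : Subgroup G) : Set G)) *
      Nat.card (Subgroup.centralizer ((Q : Subgroup G) : Set G)) =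
      e * Nat.card C := fun Q => by
    have h1 : np * (_ * _) = Nat.card G := card_config Q
    rw [h] at h1
    exact Nat.eq_of_mul_eq_mul_left Nat.card_pos (h1.trans hcfg.symm)
  obtain ⟨M, hM⟩ := BlockB.exists_isPModular (p := 11) Fact.out
  have := isPrime_of_pmodular hM
  obtain ⟨e', t, d₀, σ, CF, YF, ε, D⟩ :=
    exists_rows (CfsgLib.Transfer.commutator_eq_top_of_simple hG) hM P hP
  have hee : e' = e := D.e_eq.symm
  rw [hee] at D
  have hsel : (np = 1728 ∧ e = 5) ∨ (np = 144 ∧ (e = 5 ∨ e = 10)) := by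
    by_contra hno
    refine false_of_rowPossible' (p := 11) hG h (B := 309) (by norm_num) (by norm_num) (by norm_num)
      (fun a b => !((decide (a = 1728) && decide (b = 5)) ||
        (decide (a = 144) && (decide (b = 5) || decide (b = 10)))))
      (fun Q => ?_) (fun _ => true) (fun _ _ => rfl) (by decide +kernel)
    have hQ : (Subgroup.centralizer ((Q : Subgroup G) : Set G)).relIndex
        (Subgroup.normalizer ((Q : Subgroup G) : Set G)) = e := by
      obtain ⟨g, rfl⟩ := MulAction.exists_smul_eq G P Q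
      have := Fintype.ofFinite G
      have hc : Nat.card (Subgroup.centralizer (((g • P : Sylow 11 G) : Subgroup G) : Set G)) =
          Nat.card C := by
        obtain ⟨x, hx, hx1⟩ : ∃ x ∈ (P : Subgroup G), x ≠ 1 := by
          refine Subgroup.bot_or_exists_ne_one _ |>.resolve_left fun h' => ?_
          rw [h', Subgroup.card_bot] at hP
          norm_num at hP
        have hgx : g * x * g⁻¹ ∈ ((g • P : Sylow 11 G) : Subgroup G) := by
          rw [Sylow.coe_subgroup_smul]; exact ⟨x, hx, rfl⟩
        rw [← BrauerReynolds.centralizer_mem_eq (g • P) (by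
            rw [CfsgLib.Transfer.card_sylow_eq_prime (g • P) (by rw [h]; norm_num)
              (by rw [h]; norm_num)]) hgx (fun h' => hx1 (by simpa using h')),
          CfsgLib.Transfer.card_centralizer_conj, BrauerReynolds.centralizer_mem_eq P hP hx hx1]
      have h1 := hPconj (g • P)
      rw [hc] at h1
      exact Nat.eq_of_mul_eq_mul_right Nat.card_pos h1
    rw [hQ]
    simp only [Bool.not_eq_true', Bool.or_eq_false_iff, Bool.and_eq_false_iff,
      decide_eq_false_iff_not]
    by_contra hh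
    exact hno (by omega)
  rcases hsel with ⟨h1, h2⟩ | ⟨h1, h2⟩
  · refine ⟨h1, h2, ?_⟩
    rw [h1, h2] at hcfg
    omega
  exfalso
  -- an involution centralising the Sylow subgroup
  have hCeven : 2 ∣ Nat.card C := by
    rcases h2 with h2 | h2 <;> rw [h1, h2] at hcfg <;> omega
  haveI : Fact (Nat.Prime 2) := ⟨Nat.prime_two⟩
  obtain ⟨⟨k, hkC⟩, hk⟩ := exists_prime_orderOf_dvd_card' (G := C) 2 hCeven
  rw [Subgroup.orderOf_mk] at hk
  obtain ⟨x, hx, hx1⟩ : ∃ x ∈ (P : Subgroup G), x ≠ 1 := by
    refine Subgroup.bot_or_exists_ne_one _ |>.resolve_left fun h' => ?_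
    rw [h', Subgroup.card_bot] at hP
    norm_num at hP
  have hkr : ¬ 11 ∣ orderOf k := by rw [hk]; norm_num
  rcases h2 with h2 | h2
  · obtain ⟨l, d, σ', M', CF', YF', ε', hl, hds, S⟩ := exists_setup h P h1 h2
    have hchk := List.all_eq_true.1 (List.all_eq_true.1 check_half l hl) _ hds
    simp only [Bool.and_eq_true, List.all_eq_true] at hchk
    obtain ⟨hne, hemp⟩ := hchk
    obtain ⟨q, r, hr, -⟩ := S.exists_vec hkr (atCentral d) fun φ hφ hφ1 => by
      obtain ⟨a, ha, hav⟩ := invol_value h φ hφ1 hk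
      refine ⟨a, ?_, hav⟩
      unfold atCentral
      split_ifs with hd
      · exact ha
      · refine List.mem_filter.2 ⟨ha, decide_eq_true (Int.emod_eq_zero_of_dvd ?_)⟩
        rcases Finset.mem_union.1 hφ with hC' | hY
        · exact value_mod S.modular P hP S.rows φ hC' hx hx1 hkC hk hav
        · exact absurd (S.rows.YF_deg φ hY) hd
    have hc : Nat.card (Subgroup.centralizer ({k} : Set G)) ∈
        (List.range 8641).filter fun c => decide (95040 % c = 0) := by
      have hdvd := Subgroup.card_subgroup_dvd_card (Subgroup.centralizer ({k} : Set G))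
      rw [h] at hdvd
      refine List.mem_filter.2 ⟨List.mem_range.2 ?_, decide_eq_true (Nat.mod_eq_zero_of_dvd hdvd)⟩
      have hi := (Subgroup.centralizer ({k} : Set G)).index_mul_card
      rw [h] at hi
      have hne' : Subgroup.centralizer ({k} : Set G) ≠ ⊤ := fun htop =>
        not_mem_center h (fun e => by rw [e, orderOf_one] at hk; norm_num at hk)
          (Subgroup.mem_center_iff.2 fun g =>
            Subgroup.mem_centralizer_singleton_iff.1 (htop.ge (Subgroup.mem_top g)))
      have h11 : 11 ≤ (Subgroup.centralizer ({k} : Set G)).index := by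
        by_contra hlt
        have h2 := CfsgLib.Transfer.two_mul_card_dvd_factorial hG hne'
        rw [h] at h2
        have h11 : 11 ∣ (Subgroup.centralizer ({k} : Set G)).index.factorial :=
          (show 11 ∣ 2 * 95040 by norm_num).trans h2
        rw [(Fact.out : Nat.Prime 11).dvd_factorial] at h11
        omega
      nlinarith
    rw [List.isEmpty_iff.1 (hemp _ hc)] at hr
    exact List.not_mem_nil hr
  · -- the automiser of order ten
    rw [h1, h2] at hcfg
    have ht : t = 1 := by have := D.hte; rw [h2] at this; omega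
    set c := Nat.card (Subgroup.centralizer ({k} : Set G)) with hc
    have hidx : (Subgroup.centralizer ({x} : Set G)).index = 1440 := by
      rw [BrauerReynolds.centralizer_mem_eq P hP hx hx1, BrauerReynolds.index_centralizer,
        D.e_eq, ← hnp, h1, h2]
    have hdeg : ∀ φ ∈ CF, φ ≠ trivChar → ∃ a : ℤ, (φ : G → ℂ) k = a ∧
        ((charDegree (φ : G → ℂ) = 45 ∧ ε φ = 1 ∧ (a = 1 ∨ a = -43)) ∨
          (charDegree (φ : G → ℂ) = 144 ∧ ε φ = 1) ∨
          (charDegree (φ : G → ℂ) = 120 ∧ ε φ = -1) ∨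
          (charDegree (φ : G → ℂ) = 32 ∧ ε φ = -1 ∧ a = -12)) := by
      intro φ hφ hne
      obtain ⟨a, ha, hav⟩ := invol_value h φ hne hk
      have hmod := value_mod hM P hP D φ hφ hx hx1 hkC hk hav
      have hd1 : charDegree (φ : G → ℂ) ∣ 1440 := hidx ▸
        BrauerReynolds.dvd_of_omega_sum {φ} id x (BlockB.irr_degree_pos φ)
          (fun j hj => by rw [Finset.mem_singleton.1 hj]; exact (BlockB.irr_degree_cast φ).symm)
          (D.eps_pm φ hφ) (by rw [Finset.sum_singleton]; exact D.CF_val φ hφ x hx hx1)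
      have hd2 : charDegree (φ : G → ℂ) ∣ 95040 := h ▸ BlockB.irr_degree_dvd_card φ
      have hd309 : charDegree (φ : G → ℂ) < 309 := by
        have := Fintype.ofFinite G
        have := Fintype.ofFinite (IrrCharacter G)
        have h' := CfsgLib.Char.sum_irr_sq (G := G)
        simp only [← BlockB.irr_degree_cast, pow_two, h] at h'
        have h'' : ∑ ψ : IrrCharacter G,
            charDegree (ψ : G → ℂ) * charDegree (ψ : G → ℂ) = 95040 := by exact_mod_cast h'
        have h3 := Finset.single_le_sum (f := fun ψ : IrrCharacter G =>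
          charDegree (ψ : G → ℂ) * charDegree (ψ : G → ℂ)) (fun _ _ => Nat.zero_le _)
          (Finset.mem_univ φ)
        simp only [h''] at h3
        nlinarith
      have key : ∀ d < 309, 1440 % d = 0 → 95040 % d = 0 → (d % 11 = 1 ∨ d % 11 = 10) →
          ∀ a ∈ qRange d, (a - (d : ℤ)) % 11 = 0 →
          (d = 45 ∧ d % 11 = 1 ∧ (a = 1 ∨ a = -43)) ∨ (d = 144 ∧ d % 11 = 1) ∨
            (d = 120 ∧ d % 11 = 10) ∨ (d = 32 ∧ d % 11 = 10 ∧ a = -12) := by decide +kernel
      have hm := D.CF_mod φ hφ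
      have hdm : charDegree (φ : G → ℂ) % 11 = 1 ∨ charDegree (φ : G → ℂ) % 11 = 10 := by
        rcases D.eps_pm φ hφ with he | he <;> rw [he] at hm <;> simp only [Nat.cast_ofNat] at hm <;>
          omega
      refine ⟨a, hav, ?_⟩
      rcases key _ hd309 (Nat.mod_eq_zero_of_dvd hd1) (Nat.mod_eq_zero_of_dvd hd2) hdm a ha
        (Int.emod_eq_zero_of_dvd hmod) with
        ⟨hd, -, hq⟩ | ⟨hd, -⟩ | ⟨hd, -⟩ | ⟨hd, -, hq⟩ <;>
        rcases D.eps_pm φ hφ with he | he <;> rw [he, hd] at hm <;>
        simp only [Nat.cast_ofNat] at hm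
      all_goals first
        | omega
        | exact Or.inl ⟨hd, he, hq⟩
        | exact Or.inr (Or.inl ⟨hd, he⟩)
        | exact Or.inr (Or.inr (Or.inl ⟨hd, he⟩))
        | exact Or.inr (Or.inr (Or.inr ⟨hd, he, hq⟩))
    choose! a hav hcase using hdeg
    have hdsum : 1 + ∑ φ ∈ others CF, ε φ * (charDegree (φ : G → ℂ) : ℤ) = 0 := by
      have h' := D.deg_eq
      rw [if_pos ht, sum_others D.one_mem, show ε trivChar = 1 from D.eps_one, deg_trivChar] at h'
      simpa using h'
    -- a row of degree 45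
    obtain ⟨φ₀, hφ₀, hd₀⟩ : ∃ φ ∈ others CF, charDegree (φ : G → ℂ) = 45 := by
      by_contra hno
      push Not at hno
      have h2' : (2 : ℤ) ∣ ∑ φ ∈ others CF, ε φ * (charDegree (φ : G → ℂ) : ℤ) :=
        Finset.dvd_sum fun φ hφ => by
          obtain ⟨hne, hφC⟩ := mem_others.1 hφ
          rcases hcase φ hφC hne with ⟨hd, -⟩ | ⟨hd, he⟩ | ⟨hd, he⟩ | ⟨hd, he, -⟩
          · exact absurd hd (hno φ hφ)
          all_goals rw [hd, he]; norm_num
      omega
    -- two rows of degree 32
    have h32 : 2 ≤ ((others CF).filter fun φ : IrrCharacter G => charDegree (φ : G → ℂ) = 32).card := by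
      rw [← Finset.sum_filter_add_sum_filter_not (others CF)
        (fun φ : IrrCharacter G => charDegree (φ : G → ℂ) = 32),
        Finset.sum_congr rfl (g := fun _ => (-32 : ℤ))
          (s₁ := (others CF).filter fun φ : IrrCharacter G => charDegree (φ : G → ℂ) = 32) fun φ hφ => by
          obtain ⟨hφo, hd⟩ := Finset.mem_filter.1 hφ
          obtain ⟨hne, hφC⟩ := mem_others.1 hφo
          rcases hcase φ hφC hne with ⟨hd', -⟩ | ⟨hd', -⟩ | ⟨hd', -⟩ | ⟨-, he, -⟩
          · omega
          · omega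
          · omega
          · rw [hd, he]; norm_num,
        Finset.sum_const, nsmul_eq_mul] at hdsum
      have h3' : (3 : ℤ) ∣ ∑ φ ∈ (others CF).filter
          (fun φ : IrrCharacter G => ¬ charDegree (φ : G → ℂ) = 32),
          ε φ * (charDegree (φ : G → ℂ) : ℤ) := Finset.dvd_sum fun φ hφ => by
        obtain ⟨hφo, hd32⟩ := Finset.mem_filter.1 hφ
        obtain ⟨hne, hφC⟩ := mem_others.1 hφo
        rcases hcase φ hφC hne with ⟨hd, he, -⟩ | ⟨hd, he⟩ | ⟨hd, he⟩ | ⟨hd, -, -⟩
        all_goals first | exact absurd hd hd32 | (rw [hd, he]; norm_num)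
      omega
    obtain ⟨φ₁, hφ₁, φ₂, hφ₂, hne12⟩ := Finset.one_lt_card.1 h32
    obtain ⟨hφ₁o, hd₁⟩ := Finset.mem_filter.1 hφ₁
    obtain ⟨hφ₂o, hd₂⟩ := Finset.mem_filter.1 hφ₂
    have hval : ∀ φ ∈ others CF, charDegree (φ : G → ℂ) = 32 → (φ : G → ℂ) k = ((-12 : ℤ) : ℂ) :=
      fun φ hφ hd => by
        obtain ⟨hne, hφC⟩ := mem_others.1 hφ
        rcases hcase φ hφC hne with ⟨hd', -⟩ | ⟨hd', -⟩ | ⟨hd', -⟩ | ⟨-, -, hq⟩
        · omega
        · omega
        · omega
        · rw [hav φ hφC hne, hq]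
    have := Fintype.ofFinite (IrrCharacter G)
    have hle := sum_sq_le k {φ₁, φ₂} (fun _ => -12) fun φ hφ => by
      simp only [Finset.mem_insert, Finset.mem_singleton] at hφ
      rcases hφ with rfl | rfl
      exacts [hval _ hφ₁o hd₁, hval _ hφ₂o hd₂]
    rw [Finset.sum_pair hne12, ← hc] at hle
    set i := (Subgroup.centralizer ({k} : Set G)).index with hi
    have hic : i * c = 95040 := by
      rw [← h]; exact (Subgroup.centralizer ({k} : Set G)).index_mul_card
    obtain ⟨hne₀, hφ₀C⟩ := mem_others.1 hφ₀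
    have h45 : (45 : ℤ) ∣ (i : ℤ) := by
      have h' := dvd_index_mul φ₀ (hav φ₀ hφ₀C hne₀)
      rw [hd₀, ← hi] at h'
      rcases hcase φ₀ hφ₀C hne₀ with ⟨-, -, hq | hq⟩ | ⟨hd', -⟩ | ⟨hd', -⟩ | ⟨hd', -⟩
      · rw [hq, mul_one] at h'; exact h'
      · rw [hq] at h'
        exact Int.dvd_of_dvd_mul_left_of_gcd_one h' (by norm_num)
      all_goals omega
    have h8 : (8 : ℤ) ∣ (i : ℤ) := by
      have h' := dvd_index_mul φ₁ (hval φ₁ hφ₁o hd₁)
      rw [hd₁, ← hi] at h'
      simp only [Nat.cast_ofNat] at h'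
      omega
    obtain ⟨j, hj⟩ : 360 ∣ i := by omega
    have hj0 : 1 ≤ j := Nat.one_le_iff_ne_zero.2 fun e => by rw [e, mul_zero] at hj; rw [hj] at hic; omega
    have : 360 * c ≤ 95040 := by
      calc 360 * c ≤ 360 * j * c := Nat.mul_le_mul_right _ (by omega)
        _ = 95040 := by rw [← hj, hic]
    have hc288 : (288 : ℤ) ≤ (c : ℤ) := by linarith
    omega

end CfsgLib.Recog.OrderM12
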