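import Cfsg.Agent.Lib.Recog.OrderM12.Local
import Cfsg.Agent.Lib.Recog.QSThree.Frame
import Cfsg.Agent.Lib.Recog.QSThree.M12Leg
import Cfsg.Agent.Lib.Recog.QSThree.AltNorm
import Cfsg.Agent.Lib.Recog.QSThree.NoOuter
import Cfsg.Agent.Lib.Recog.QSThree.ClosedLeg

/-!
# Simple groups of order 95040 are M12

The centraliser of a 2-central involution is numbered by one of four tables; the sum of the
character of degree 16 over the normal subgroup of order 32 gives an involution there conjugate to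
the central one, and the recognition of M12 from that configuration applies.
-/

set_option autoImplicit false
set_option linter.style.haveILetI false
set_option synthInstance.maxSize 2000
set_option maxHeartbeats 1000000

namespace CfsgLib.Recog.OrderM12

open Cfsg CfsgLib CfsgLib.Block CfsgLib.ClassK CfsgLib.ClassK.RowSieve CfsgLib.ClassK.RowInvolution
open scoped ComplexConjugate

universe u

/-- The number of elements of a class among the first 32 numbers. -/
noncomputable def tsize (T : QSThree.Tab) (c : ℕ) : ℕ :=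
  ((List.range 32).filter fun i => Nat.beq (T.cls i) c).length

/-- The checks on the classes among the first 32 numbers. -/
noncomputable def tchk (T : QSThree.Tab) : Bool :=
  ((List.range 32).all fun i => Nat.ble (T.cls i) 4 && (!Nat.beq (T.cls i) 1 || Nat.beq i 16) &&
    (Nat.beq (T.cls i) 0 || Nat.blt (T.rep (T.cls i)) 32)) && Nat.beq (T.cls 16) 1 &&
  decide (7 < ((Finset.range 32).filter fun i => i ≠ 0 ∧ T.mul i i = 0).card)

theorem tabM_chk : tchk QSThree.tabM = true ∧ tsize QSThree.tabM 2 = 6 ∧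
    tsize QSThree.tabM 3 = 12 ∧ tsize QSThree.tabM 4 = 0 := by decide +kernel

theorem tabA_chk : tchk QSThree.tabA = true ∧ tsize QSThree.tabA 2 = 6 ∧
    tsize QSThree.tabA 3 = 6 ∧ tsize QSThree.tabA 4 = 6 := by decide +kernel

theorem tabP_chk : tchk QSThree.tabP = true ∧ tsize QSThree.tabP 2 = 6 ∧
    tsize QSThree.tabP 3 = 12 ∧ tsize QSThree.tabP 4 = 0 := by decide +kernel

theorem tabS_chk : tchk QSThree.tabS = true ∧ tsize QSThree.tabS 2 = 6 ∧
    tsize QSThree.tabS 3 = 6 ∧ tsize QSThree.tabS 4 = 6 := by decide +kernel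

theorem tabA_reps : QSThree.tabA.rep 2 < 32 ∧ QSThree.tabA.rep 3 < 32 ∧ QSThree.tabA.rep 4 < 32 := by
  decide +kernel

/-- A table of this type: one of the three six-element classes only is of the first kind. -/
theorem three_classes : ∀ a ∈ [(0 : ℤ), 4, -4, -8], ∀ b ∈ [(0 : ℤ), 4, -4, -8],
    ∀ c ∈ [(0 : ℤ), 4, -4, -8], 0 ≤ 16 + 6 * a + 6 * b + 6 * c →
      (16 + 6 * a + 6 * b + 6 * c) % 32 = 0 →
      (a = 0 ∧ b ≠ 0 ∧ c ≠ 0) ∨ (a ≠ 0 ∧ b = 0 ∧ c ≠ 0) ∨ (a ≠ 0 ∧ b ≠ 0 ∧ c = 0) := by
  decide +kernel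

/-- Two classes: one of them is of the first kind. -/
theorem two_classes : ∀ a ∈ [(0 : ℤ), 4, -4, -8], ∀ b ∈ [(0 : ℤ), 4, -4, -8],
    0 ≤ 16 + 6 * a + 12 * b → (16 + 6 * a + 12 * b) % 32 = 0 → a = 0 ∨ b = 0 := by
  decide +kernel

variable {G : Type u} [Group G] [Finite G]

/-- The numbering covers exactly the normal subgroup. -/
theorem el_mem {T : QSThree.Tab} {k : G} (D : QSThree.Data T k) {Q : Subgroup G}
    (hQ : Nat.card Q = 32) (hcov : ∀ q ∈ Q, ∃ i < 32, D.el i = q) {i : ℕ} (hi : i < 32) :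
    D.el i ∈ Q := by
  classical
  have := Fintype.ofFinite G
  have hsub : Finset.univ.filter (fun g : G => g ∈ Q) ⊆ (Finset.range 32).image D.el := fun g hg => by
    obtain ⟨j, hj, e⟩ := hcov g (Finset.mem_filter.1 hg).2
    exact Finset.mem_image.2 ⟨j, Finset.mem_range.2 hj, e⟩
  have heq := Finset.eq_of_subset_of_card_le hsub (by
    rw [← Fintype.card_subtype, ← Nat.card_eq_fintype_card]
    exact (Finset.card_image_le.trans (Finset.card_range 32).le).trans hQ.symm.le)
  have hmem : D.el i ∈ (Finset.range 32).image D.el :=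
    Finset.mem_image.2 ⟨i, Finset.mem_range.2 hi, rfl⟩
  rw [← heq] at hmem
  exact (Finset.mem_filter.1 hmem).2

/-- An element of the centraliser centralising the normal subgroup lies in its centre. -/
theorem centralizer_trivial {k : G} {Q : Subgroup G} {c n : G} (S : QSThree.Setup k Q c n) {g : G}
    (hg : g * k = k * g) (hgQ : ∀ q ∈ Q, g * q = q * g) : g = 1 ∨ g = k := by
  have hcQ : ∀ q ∈ Q, c⁻¹ * q * c ∈ Q := fun q hq => by
    have := S.norm (c * c) (show c * c * k = k * (c * c) from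
      (Commute.mul_left (show Commute c k from S.cs) S.cs).eq) q hq
    rwa [show (c * c)⁻¹ = c from inv_eq_of_mul_eq_one_right S.c3,
      show c * c = c⁻¹ from (inv_eq_of_mul_eq_one_right (by rw [← mul_assoc, S.c3])).symm] at this
  -- no element of `Q c` centralises `Q`
  have key : ∀ q ∈ Q, ∀ i < 3, (∀ a ∈ Q, q * c ^ i * a = a * (q * c ^ i)) → i = 0 := by
    intro q hq i hi h
    by_contra h0
    have hcq : Commute (c ^ i) q := mul_left_cancel (a := q) (by
      rw [← mul_assoc, h q hq])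
    have hcomm : c * q = q * c := by
      rcases (show i = 1 ∨ i = 2 by omega) with rfl | rfl
      · simpa using hcq.eq
      · have := (hcq.pow_left 2).eq
        rwa [← pow_mul, show (2 * 2 : ℕ) = 3 + 1 from rfl, pow_succ, pow_succ, pow_two, S.c3,
          one_mul] at this
    have hq' : ∀ a ∈ Q, q * a = a * q := fun a ha => by
      rcases S.fixc q hq hcomm with rfl | rfl
      · simp
      · exact (S.cen a ha).symm
    have hall : ∀ a ∈ Q, a = 1 ∨ a = k := fun a ha => by
      refine S.fixc a ha ?_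
      have h1 : c ^ i * a = a * c ^ i := by
        refine mul_left_cancel (a := q) ?_
        rw [← mul_assoc, h a ha, ← mul_assoc, ← hq' a ha, mul_assoc]
      rcases (show i = 1 ∨ i = 2 by omega) with rfl | rfl
      · simpa using h1
      · have := ((show Commute (c ^ 2) a from h1).pow_left 2).eq
        rwa [← pow_mul, show (2 * 2 : ℕ) = 3 + 1 from rfl, pow_succ, pow_succ, pow_two, S.c3,
          one_mul] at this
    classical
    have := Fintype.ofFinite G
    have hle : (Finset.univ.filter fun a : G => a ∈ Q).card ≤ ({1, k} : Finset G).card :=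
      Finset.card_le_card fun a ha => by
        rcases hall a (Finset.mem_filter.1 ha).2 with rfl | rfl <;> simp
    rw [← Fintype.card_subtype, ← Nat.card_eq_fintype_card] at hle
    have h2 : ({1, k} : Finset G).card ≤ 2 := Finset.card_le_two
    change Nat.card Q ≤ _ at hle
    rw [S.card] at hle
    omega
  obtain ⟨q, hq, i, hi, j, hj, rfl⟩ := S.cover g hg
  rcases (show j = 0 ∨ j = 1 by omega) with rfl | rfl
  · rw [pow_zero, mul_one] at hgQ ⊢
    obtain rfl := key q hq i hi hgQ
    rw [pow_zero, mul_one] at hgQ ⊢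
    exact S.center q hq hgQ
  · exfalso
    -- the commutator with `c`
    set g := q * c ^ i * n ^ 1 with hgdef
    set w := g * c * g⁻¹ * c⁻¹ with hwdef
    have hwQ : ∀ a ∈ Q, w * a = a * w := fun a ha => by
      have h1 : g⁻¹ * (c⁻¹ * a * c) = c⁻¹ * a * c * g⁻¹ := by
        rw [eq_mul_inv_iff_mul_eq, mul_assoc, ← hgQ _ (hcQ a ha), inv_mul_cancel_left]
      calc w * a = g * c * (g⁻¹ * (c⁻¹ * a * c)) * c⁻¹ := by rw [hwdef]; group
        _ = g * a * c * g⁻¹ * c⁻¹ := by rw [h1]; group
        _ = a * w := by rw [hgQ a ha, hwdef]; group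
    have e1 : g * c * g⁻¹ = q * (c * c) * q⁻¹ := by
      rw [hgdef, pow_one, show q * c ^ i * n * c * (q * c ^ i * n)⁻¹ =
        q * (c ^ i * (n * c * n⁻¹) * (c ^ i)⁻¹) * q⁻¹ by group, S.tc,
        show c ^ i * (c * c) = c * c * c ^ i from
          ((Commute.self_pow c i).mul_left (Commute.self_pow c i)).eq.symm, mul_inv_cancel_right]
    have hcc : c * c = c⁻¹ := (inv_eq_of_mul_eq_one_right (by rw [← mul_assoc, S.c3])).symm
    have e2 : w = q * (c⁻¹ * q * c)⁻¹ * c ^ 1 := by
      rw [hwdef, e1, pow_one, hcc, mul_inv_rev, mul_inv_rev, inv_inv]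
      calc q * c⁻¹ * q⁻¹ * c⁻¹ = q * c⁻¹ * q⁻¹ * (c * c) := by rw [hcc]
        _ = q * (c⁻¹ * (q⁻¹ * c)) * c := by group
    have hq2 : q * (c⁻¹ * q * c)⁻¹ ∈ Q := Q.mul_mem hq (Q.inv_mem (hcQ q hq))
    have := key _ hq2 1 (by norm_num) (fun a ha => by rw [← e2]; exact hwQ a ha)
    norm_num at this

namespace Conf

variable [Fact (Nat.Prime 11)] {P : Sylow 11 G}
  {M : Ideal AlgInt} {CF YF : Finset (IrrCharacter G)} {ε : IrrCharacter G → ℤ}
  (C : Conf P mainL 16 1 M CF YF ε)
include C

/-- Involutions with centralisers of order 192 are conjugate. -/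
theorem isConj_192 {k t : G} {Q : Subgroup G} {c n : G} (S : QSThree.Setup k Q c n)
    (ht : orderOf t = 2) (ht192 : Nat.card (Subgroup.centralizer ({t} : Set G)) = 192) :
    IsConj k t := by
  haveI : Fact (Nat.Prime 2) := ⟨Nat.prime_two⟩
  have hcard : ∀ T : Sylow 2 G, Nat.card T = 64 := fun T => by
    rw [Sylow.card_eq_multiplicity, C.card_G,
      show (95040 : ℕ) = 2 ^ 6 * 1485 by norm_num,
      Nat.factorization_mul (by norm_num) (by norm_num), Finsupp.add_apply,
      Nat.factorization_eq_zero_of_not_dvd (show ¬ 2 ∣ 1485 by norm_num), add_zero,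
      Nat.factorization_pow_self Nat.prime_two]
    rfl
  have hsyl : ∀ a : G, Nat.card (Subgroup.centralizer ({a} : Set G)) = 192 →
      ∃ T : Sylow 2 G, (T : Subgroup G) ≤ Subgroup.centralizer ({a} : Set G) := fun a ha => by
    obtain ⟨A⟩ := (inferInstance : Nonempty (Sylow 2 (Subgroup.centralizer ({a} : Set G))))
    obtain ⟨T, hT⟩ := (A.isPGroup'.map (Subgroup.centralizer ({a} : Set G)).subtype).exists_le_sylow
    have hA : Nat.card A = 64 := by
      rw [Sylow.card_eq_multiplicity, ha, show (192 : ℕ) = 2 ^ 6 * 3 by norm_num,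
        Nat.factorization_mul (by norm_num) (by norm_num), Finsupp.add_apply,
        Nat.factorization_eq_zero_of_not_dvd (show ¬ 2 ∣ 3 by norm_num), add_zero,
        Nat.factorization_pow_self Nat.prime_two]
      rfl
    refine ⟨T, ?_⟩
    rw [← Subgroup.eq_of_le_of_card_ge hT (by
      rw [Subgroup.card_map_of_injective (Subgroup.centralizer ({a} : Set G)).subtype_injective]
      exact le_of_eq ((hcard T).trans hA.symm))]
    exact Subgroup.map_subtype_le _
  obtain ⟨T, hT⟩ := hsyl k S.card192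
  obtain ⟨T', hT'⟩ := hsyl t ht192
  obtain ⟨g, hg⟩ := MulAction.exists_smul_eq G T' T
  have hQT : Q ≤ (T : Subgroup G) := by
    have hTn : (T : Subgroup G) ≤ Subgroup.normalizer (Q : Set G) := fun a ha => by
      have hak := Subgroup.mem_centralizer_singleton_iff.1 (hT ha)
      rw [Subgroup.mem_normalizer_iff]
      refine fun q => ⟨fun hq => S.norm a hak q hq, fun hq => ?_⟩
      have := S.norm a⁻¹ (Commute.inv_left hak).eq _ hq
      rwa [show a⁻¹ * (a * q * a⁻¹) * a⁻¹⁻¹ = q by group] at this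
    have hp := IsPGroup.to_sup_of_normal_right' T.isPGroup'
      (IsPGroup.of_card (p := 2) (n := 5) (show Nat.card Q = 2 ^ 5 from S.card)) hTn
    exact (le_sup_right).trans (T.is_maximal' hp le_sup_left).le
  set t' := g * t * g⁻¹ with ht'
  have hcen : ∀ a ∈ (T : Subgroup G), t' * a = a * t' := fun a ha => by
    rw [← hg, Sylow.coe_subgroup_smul] at ha
    obtain ⟨b, hb, rfl⟩ := ha
    have hbt := Subgroup.mem_centralizer_singleton_iff.1 (hT' hb)
    show g * t * g⁻¹ * (g * b * g⁻¹) = g * b * g⁻¹ * (g * t * g⁻¹)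
    calc g * t * g⁻¹ * (g * b * g⁻¹) = g * (t * b) * g⁻¹ := by group
      _ = g * (b * t) * g⁻¹ := by rw [hbt]
      _ = g * b * g⁻¹ * (g * t * g⁻¹) := by group
  rcases centralizer_trivial S (hcen k (hQT S.sQ)) (fun q hq => hcen q (hQT hq)) with e | e
  · exfalso
    have : t = 1 := conj_eq_one_iff.1 e
    rw [this, orderOf_one] at ht
    norm_num at ht
  · exact (isConj_iff.2 ⟨g, e⟩).symm

/-- The element of order four has value zero. -/
theorem zero_of_sq {k : G} (hk : orderOf k = 2) {Q : Subgroup G} {c n : G}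
    (S : QSThree.Setup k Q c n) {η : IrrCharacter G} (hη : η ∈ YF) {x : G} (hx : x ∈ Q)
    (hxx : x * x = k) {v : ℤ} (hv : (η : G → ℂ) x = v) : v = 0 := by
  classical
  haveI := C.setup.simple
  haveI : Fact (Nat.Prime 2) := ⟨Nat.prime_two⟩
  set cx := Nat.card (Subgroup.centralizer ({x} : Set G)) with hcx
  have hd192 : cx ∣ 192 := S.card192 ▸ Subgroup.card_dvd_of_le fun a ha => by
    rw [Subgroup.mem_centralizer_singleton_iff] at ha ⊢
    rw [← hxx]
    exact (Commute.mul_right ha ha).eq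
  have h16 : 16 ∣ cx := by
    -- `y ↦ y x y⁻¹ x⁻¹` takes two values on `Q`
    set H := (Subgroup.centralizer ({x} : Set G)).subgroupOf Q with hH
    have hidx : H.index ≤ 2 := by
      have := Fintype.ofFinite G
      have hinj : ∀ a b : Q, (x * (a : G) = a * x ↔ x * (b : G) = b * x) →
          (QuotientGroup.mk a : Q ⧸ H) = QuotientGroup.mk b := fun a b hab => by
        refine QuotientGroup.eq.2 (Subgroup.mem_subgroupOf.2
          (Subgroup.mem_centralizer_singleton_iff.2 ?_))
        simp only [Subgroup.coe_mul, Subgroup.coe_inv]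
        rcases S.comm x hx a a.2 with ea | ea <;> rcases S.comm x hx b b.2 with eb | eb
        · exact ((Commute.inv_right (show Commute x (a : G) from ea)).mul_right eb).eq.symm
        · exact ((Commute.inv_right (show Commute x (a : G) from ea)).mul_right
            (hab.1 ea)).eq.symm
        · exact ((Commute.inv_right (show Commute x (a : G) from hab.2 eb)).mul_right eb).eq.symm
        · have ea' : x * (a : G) * x⁻¹ = a * k := by
            rw [ea, mul_assoc, ← S.cen x⁻¹ (Q.inv_mem hx)]; group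
          have eb' : x * (b : G) * x⁻¹ = b * k := by
            rw [eb, mul_assoc, ← S.cen x⁻¹ (Q.inv_mem hx)]; group
          have : x * ((a : G)⁻¹ * b) * x⁻¹ = (a : G)⁻¹ * b := by
            calc x * ((a : G)⁻¹ * b) * x⁻¹ = (x * (a : G) * x⁻¹)⁻¹ * (x * b * x⁻¹) := by group
              _ = k⁻¹ * ((a : G)⁻¹ * b) * k := by rw [ea', eb']; group
              _ = (a : G)⁻¹ * b := by
                rw [mul_assoc, S.cen _ (Q.mul_mem (Q.inv_mem a.2) b.2), inv_mul_cancel_left]
          exact (mul_inv_eq_iff_eq_mul.1 this).symm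
      have := Fintype.ofFinite (Q ⧸ H)
      rw [Subgroup.index_eq_card, Nat.card_eq_fintype_card]
      refine (Fintype.card_le_of_injective
        (fun X : Q ⧸ H => decide (x * ((X.out : Q) : G) = (X.out : Q) * x)) fun X Y h => ?_).trans
        (le_of_eq Fintype.card_bool)
      simp only [decide_eq_decide] at h
      rw [← X.out_eq, ← Y.out_eq]
      exact hinj _ _ h
    have h1 := H.index_mul_card
    rw [S.card] at h1
    have h2 : Nat.card H ∣ cx := by
      rw [← Subgroup.card_map_of_injective Q.subtype_injective]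
      exact Subgroup.card_dvd_of_le (by rintro _ ⟨y, hy, rfl⟩; exact hy)
    refine Dvd.dvd.trans ?_ h2
    have hpos : H.index ≠ 0 := Subgroup.index_ne_zero_of_finite
    interval_cases H.index <;> omega
  have hxk : x ≠ 1 ∧ x ≠ k := by
    constructor <;> intro e <;> rw [e] at hxx
    · rw [← hxx, one_mul, orderOf_one] at hk; norm_num at hk
    · rw [mul_eq_left.1 hxx, orderOf_one] at hk; norm_num at hk
  have hx64 : x ^ 64 = 1 := by
    have h := congrArg Subtype.val (pow_card_eq_one' (x := (⟨x, hx⟩ : Q)))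
    rw [S.card] at h
    simp only [Subgroup.coe_pow, Subgroup.coe_one] at h
    rw [show (64 : ℕ) = 32 * 2 from rfl, pow_mul, h, one_pow]
  have hd3 : ¬ 3 ∣ cx := by
    intro h3
    haveI : Fact (Nat.Prime 3) := ⟨Nat.prime_three⟩
    obtain ⟨⟨q, hqC⟩, hq⟩ :=
      exists_prime_orderOf_dvd_card' (G := Subgroup.centralizer ({x} : Set G)) 3 h3
    rw [Subgroup.orderOf_mk] at hq
    have hqx : Commute q x := Subgroup.mem_centralizer_singleton_iff.1 hqC
    have hkq : Commute k q := hxx ▸ (hqx.mul_right hqx).symm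
    rcases C.two_six hk S.card192 hq hkq (S.cen x hx) hqx.symm hx64 with e | e
    exacts [hxk.1 e, hxk.2 e]
  have hcases : cx = 16 ∨ cx = 32 ∨ cx = 64 := by
    have hle := Nat.le_of_dvd (by norm_num) hd192
    obtain ⟨m, hm⟩ := h16
    have : m ≤ 12 := by omega
    rw [hm] at hd192
    interval_cases m <;> norm_num at hd192 <;> omega
  have hidx := dvd_index_mul η hv
  have hi : (Subgroup.centralizer ({x} : Set G)).index * cx = 95040 := by
    rw [← C.card_G]; exact (Subgroup.centralizer ({x} : Set G)).index_mul_card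
  rw [C.setup.rows.YF_deg η hη] at hidx
  have := Fintype.ofFinite (IrrCharacter G)
  have hreg : ¬ 11 ∣ orderOf x := fun h => by
    have := h.trans (orderOf_dvd_of_pow_eq_one hx64); norm_num at this
  obtain ⟨η', hη', hne'⟩ : ∃ η' ∈ YF, η' ≠ η :=
    Finset.exists_mem_ne (by rw [C.setup.rows.card_YF]; norm_num) η
  have heq : (η' : G → ℂ) x = v := by
    have h1 := C.setup.rows.relation (by norm_num) η hη x hreg
    have h2 := C.setup.rows.relation (by norm_num) η' hη' x hreg
    rw [h1, hv] at h2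
    simpa using h2.symm
  have hbound := sum_sq_le x {trivChar, η, η'} (fun φ' => if φ' = trivChar then 1 else v)
    fun φ' hφ' => by
      simp only [Finset.mem_insert, Finset.mem_singleton] at hφ'
      rcases hφ' with rfl | rfl | rfl
      · simp
      · rw [if_neg (C.setup.not_triv hη)]; exact hv
      · rw [if_neg (C.setup.not_triv hη')]; exact heq
  rw [Finset.sum_insert (by
      simp only [Finset.mem_insert, Finset.mem_singleton, not_or]
      exact ⟨(C.setup.not_triv hη).symm, (C.setup.not_triv hη').symm⟩),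
    Finset.sum_pair hne'.symm, if_pos rfl, if_neg (C.setup.not_triv hη),
    if_neg (C.setup.not_triv hη'), ← hcx] at hbound
  by_contra hv0
  have hc64 : cx ≤ 64 := by omega
  have hb1 : -6 < v ∧ v < 6 := by
    constructor <;> by_contra hh <;> push Not at hh <;> nlinarith
  obtain ⟨hb1, hb2⟩ := hb1
  rcases hcases with e | e | e <;> rw [e] at hi hbound
  · rw [show (Subgroup.centralizer ({x} : Set G)).index = 5940 by omega] at hidx
    interval_cases v <;> omega
  · rw [show (Subgroup.centralizer ({x} : Set G)).index = 2970 by omega] at hidx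
    interval_cases v <;> omega
  · rw [show (Subgroup.centralizer ({x} : Set G)).index = 1485 by omega] at hidx
    interval_cases v <;> omega

/-- The sum of the character of degree 16 over the classes in the normal subgroup. -/
theorem class_sum {k : G} (hk : orderOf k = 2) {Q : Subgroup G} {c n : G}
    (S : QSThree.Setup k Q c n) {T : QSThree.Tab} (hT : T.Ok) (hchk : tchk T = true)
    (D : QSThree.Data T k) (hcov : ∀ q ∈ Q, ∃ i < 32, D.el i = q) :
    ∃ W : ℕ → ℤ, (∀ j, 2 ≤ j → j ≤ 4 → tsize T j ≠ 0 →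
        W j ∈ [(0 : ℤ), 4, -4, -8] ∧ T.rep j < 32 ∧ D.el (T.rep j) ≠ k ∧
          (W j = 0 ↔ IsConj k (D.el (T.rep j)))) ∧
      0 ≤ 16 + (tsize T 2 : ℤ) * W 2 + (tsize T 3 : ℤ) * W 3 + (tsize T 4 : ℤ) * W 4 ∧
      (16 + (tsize T 2 : ℤ) * W 2 + (tsize T 3 : ℤ) * W 3 + (tsize T 4 : ℤ) * W 4) % 32 = 0 := by
  classical
  simp only [tchk, Bool.and_eq_true, List.all_eq_true, List.mem_range, decide_eq_true_eq] at hchk
  obtain ⟨⟨hall, h16c⟩, -⟩ := hchk
  have hcls : ∀ i < 32, T.cls i ≤ 4 ∧ (T.cls i = 1 → i = 16) ∧ (T.cls i ≠ 0 → T.rep (T.cls i) < 32) :=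
    fun i hi => by
      have h := hall i hi
      simp only [Bool.or_eq_true, Bool.not_eq_true'] at h
      refine ⟨Nat.le_of_ble_eq_true h.1.1, fun e => ?_, fun e => ?_⟩
      · rcases h.1.2 with h' | h'
        · simp [e] at h'
        · exact Nat.eq_of_beq_eq_true h'
      · rcases h.2 with h' | h'
        · exact absurd (Nat.eq_of_beq_eq_true h') e
        · simpa [Nat.blt] using h'
  obtain ⟨η, hη⟩ : YF.Nonempty := Finset.card_pos.1 (by rw [C.setup.rows.card_YF]; norm_num)
  have hηne : η ≠ trivChar := C.setup.not_triv hη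
  have hηd : charDegree (η : G → ℂ) = 16 := C.setup.rows.YF_deg η hη
  have hmemQ : ∀ i < 32, D.el i ∈ Q := fun i hi => el_mem D S.card hcov hi
  have hreg : ∀ g ∈ Q, ¬ 11 ∣ orderOf g := fun g hg h => by
    have := h.trans (Subgroup.orderOf_dvd_natCard _ hg)
    rw [S.card] at this
    norm_num at this
  have hint : ∀ i : ℕ, ∃ v : ℤ, i < 32 → (η : G → ℂ) (D.el i) = v := fun i => by
    by_cases hi : i < 32
    · obtain ⟨v, hv⟩ := exists_int_value (Char.irr_isCharacter η.2) fun j hj =>
        C.fixed (hreg _ (hmemQ i hi)) hj (Finset.mem_union_right _ hη)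
      exact ⟨v, fun _ => hv⟩
    · exact ⟨0, fun h => absurd h hi⟩
  choose v hv using hint
  have hvk : (η : G → ℂ) k = 0 := by
    have h := C.vals_192 hk S.card192 η hηne (Or.inr hη)
    rw [hηd] at h
    rw [h, show tv 16 = 0 from rfl, Int.cast_zero]
  -- the value on a class is that of its representative
  have hrep : ∀ i < 32, T.cls i ≠ 0 → v i = v (T.rep (T.cls i)) ∧ orderOf (D.el i) = 2 ∧
      IsConj (D.el (T.rep (T.cls i))) (D.el i) ∧ (D.el (T.rep (T.cls i)) = k → i = 16) := by
    intro i hi hne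
    have hi' : i < 192 := by omega
    have h3 := QSThree.Tab.all192_get hT.2.2 hi'
    have hb : Nat.beq (T.cls i) 0 = false := by
      cases hb : Nat.beq (T.cls i) 0 with
      | false => rfl
      | true => exact absurd (Nat.eq_of_beq_eq_true hb) hne
    simp only [hb, cond_false, Bool.and_eq_true] at h3
    obtain ⟨⟨⟨⟨h20, h00⟩, -⟩, -⟩, -⟩ := h3
    have h0 : i ≠ 0 := fun e => by simp [e] at h00
    have h2 : T.mul i i = 0 := Nat.eq_of_beq_eq_true h20
    obtain ⟨-, -, hr, hw⟩ := hT.cls_facts hi' h0 h2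
    have hwlt := (hT.inv_facts hi').2.2.2.2.2.1
    have e : D.el (T.wit i) * D.el (T.rep (T.cls i)) * (D.el (T.wit i))⁻¹ = D.el i := by
      rw [D.el_conj hT hwlt hr, hw]
    refine ⟨?_, D.orderOf_el hT hi' h0 h2, isConj_iff.2 ⟨_, e⟩, fun ek => ?_⟩
    · have h1 : ((v i : ℤ) : ℂ) = (v (T.rep (T.cls i)) : ℂ) := by
        rw [← hv i hi, ← hv _ ((hcls i hi).2.2 hne), ← e, Char.irr_isClassFunction η.2]
      exact_mod_cast h1
    · rw [ek, D.el_comm_s hwlt, mul_inv_cancel_right] at e
      exact D.el_inj hi' (by norm_num) (e.symm.trans D.el_zi.symm)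
  have hzero : ∀ i < 32, i ≠ 0 → T.cls i = 0 → v i = 0 := by
    intro i hi h0 hc
    have hi' : i < 192 := by omega
    rcases S.sq _ (hmemQ i hi) with e | e
    · exfalso
      have h2 : T.mul i i = 0 := (D.el_sq hT hi').1 (by rw [pow_two, e])
      have := (hT.cls_facts hi' h0 h2).1
      omega
    · exact C.zero_of_sq hk S hη (hmemQ i hi) e (hv i hi)
  have hone : ∀ i < 32, T.cls i = 1 → v i = 0 := fun i hi hc => by
    obtain rfl := (hcls i hi).2.1 hc
    have := hv 16 hi
    rw [D.el_zi, hvk] at this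
    exact_mod_cast this.symm
  have hfac : ∀ j, 2 ≤ j → j ≤ 4 → tsize T j ≠ 0 →
      v (T.rep j) ∈ [(0 : ℤ), 4, -4, -8] ∧ T.rep j < 32 ∧ D.el (T.rep j) ≠ k ∧
        (v (T.rep j) = 0 ↔ IsConj k (D.el (T.rep j))) := by
    intro j hj2 _ hne
    obtain ⟨i, hi⟩ := List.exists_mem_of_ne_nil
      ((List.range 32).filter fun i => Nat.beq (T.cls i) j) fun e => hne (by
        rw [tsize, e, List.length_nil])
    obtain ⟨hir, hij⟩ := List.mem_filter.1 hi
    rw [List.mem_range] at hir
    have hij' := Nat.eq_of_beq_eq_true hij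
    obtain ⟨-, hio, hconj, hek⟩ := hrep i hir (by omega)
    have hrj := (hcls i hir).2.2 (by omega)
    rw [hij'] at hconj hek hrj
    have hne_k : D.el (T.rep j) ≠ k := fun e => by
      have h16 := hek e
      rw [h16] at hij'
      have := Nat.eq_of_beq_eq_true h16c
      omega
    have ho : orderOf (D.el (T.rep j)) = 2 := by
      obtain ⟨g, hg⟩ := isConj_iff.1 hconj
      rw [← hio, ← hg]
      exact (orderOf_injective (MulAut.conj g).toMonoidHom (MulAut.conj g).injective _).symm
    obtain ⟨V, hV, hcases⟩ := C.invol_types ho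
    have hval : v (T.rep j) = V 16 := by
      have h := hV η hηne (Or.inr hη)
      rw [hv _ hrj, hηd] at h
      exact_mod_cast h
    refine ⟨?_, hrj, hne_k, fun h0 => ?_, fun hc => ?_⟩
    · rw [hval]
      rcases hcases with ⟨-, -, h⟩ | ⟨-, -, h | h⟩ | ⟨-, -, h⟩ <;> rw [h] <;> simp
    · rw [hval] at h0
      rcases hcases with ⟨h192, -, -⟩ | ⟨-, -, h | h⟩ | ⟨-, -, h⟩
      · exact C.isConj_192 S ho h192
      all_goals omega
    · obtain ⟨g, hg⟩ := isConj_iff.1 hc
      have h := hv _ hrj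
      rw [← hg, Char.irr_isClassFunction η.2, hvk] at h
      exact_mod_cast h.symm
  refine ⟨fun j => v (T.rep j), hfac, ?_⟩
  -- the sum over the subgroup
  have := Fintype.ofFinite Q
  obtain ⟨m, hm⟩ := exists_sum_subgroup (Char.irr_isCharacter η.2) Q
  rw [S.card] at hm
  have hsum : ∑ i ∈ Finset.range 32, v i = 32 * (m : ℤ) := by
    have h : ((∑ i ∈ Finset.range 32, v i : ℤ) : ℂ) = ((32 * (m : ℤ) : ℤ) : ℂ) := by
      push_cast at hm ⊢
      rw [← hm]
      refine Finset.sum_bij (fun i hi => (⟨D.el i, hmemQ i (Finset.mem_range.1 hi)⟩ : Q))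
        (fun i hi => Finset.mem_univ _) (fun i hi j hj e => ?_) (fun q _ => ?_) fun i hi => ?_
      · have := Finset.mem_range.1 hi
        have := Finset.mem_range.1 hj
        exact D.el_inj (by omega) (by omega) (congrArg Subtype.val e)
      · obtain ⟨i, hi, e⟩ := hcov q q.2
        exact ⟨i, Finset.mem_range.2 hi, Subtype.ext e⟩
      · exact (hv i (Finset.mem_range.1 hi)).symm
    exact_mod_cast h
  rw [← Finset.sum_fiberwise_of_maps_to (t := Finset.range 5) (g := T.cls)
    (fun i hi => Finset.mem_range.2 (Nat.lt_succ_of_le (hcls i (Finset.mem_range.1 hi)).1)),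
    Finset.sum_range_succ, Finset.sum_range_succ, Finset.sum_range_succ, Finset.sum_range_succ,
    Finset.sum_range_one] at hsum
  have hsz : ∀ j, ((Finset.range 32).filter fun i => T.cls i = j).card = tsize T j := fun j => by
    rw [tsize, ← List.toFinset_card_of_nodup (List.nodup_range.filter _)]
    congr 1
    ext i
    simp
  have hj : ∀ j, j ≠ 0 → ∑ i ∈ (Finset.range 32).filter (fun i => T.cls i = j), v i =
      (tsize T j : ℤ) * v (T.rep j) := fun j hj => by
    rw [← hsz j, ← nsmul_eq_mul, ← Finset.sum_const]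
    refine Finset.sum_congr rfl fun i hi => ?_
    obtain ⟨h1, h2⟩ := Finset.mem_filter.1 hi
    rw [(hrep i (Finset.mem_range.1 h1) (by omega)).1, h2]
  have h1z : ∑ i ∈ (Finset.range 32).filter (fun i => T.cls i = 1), v i = 0 :=
    Finset.sum_eq_zero fun i hi =>
      hone i (Finset.mem_range.1 (Finset.mem_filter.1 hi).1) (Finset.mem_filter.1 hi).2
  have hv0 : v 0 = 16 := by
    have h := hv 0 (by norm_num)
    rw [D.el_zero, ← BlockB.irr_degree_cast, hηd] at h
    exact_mod_cast h.symm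
  have h0z : ∑ i ∈ (Finset.range 32).filter (fun i => T.cls i = 0), v i = 16 := by
    rw [Finset.sum_eq_single_of_mem 0 ?_ fun i hi hne =>
      hzero i (Finset.mem_range.1 (Finset.mem_filter.1 hi).1) hne (Finset.mem_filter.1 hi).2, hv0]
    refine Finset.mem_filter.2 ⟨Finset.mem_range.2 (by norm_num), ?_⟩
    by_contra hne
    have := (hrep 0 (by norm_num) hne).2.1
    rw [D.el_zero, orderOf_one] at this
    norm_num at this
  rw [h0z, h1z, hj 2 (by norm_num), hj 3 (by norm_num), hj 4 (by norm_num)] at hsum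
  have hm0 : (0 : ℤ) ≤ 32 * (m : ℤ) := by positivity
  show 0 ≤ 16 + (tsize T 2 : ℤ) * v (T.rep 2) + (tsize T 3 : ℤ) * v (T.rep 3) +
      (tsize T 4 : ℤ) * v (T.rep 4) ∧ _
  constructor
  · linarith
  · show (16 + (tsize T 2 : ℤ) * v (T.rep 2) + (tsize T 3 : ℤ) * v (T.rep 3) +
      (tsize T 4 : ℤ) * v (T.rep 4)) % 32 = 0
    rw [show 16 + (tsize T 2 : ℤ) * v (T.rep 2) + (tsize T 3 : ℤ) * v (T.rep 3) +
      (tsize T 4 : ℤ) * v (T.rep 4) = 32 * (m : ℤ) by linarith]
    exact Int.mul_emod_right _ _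

/-- `Closed` contradicts simplicity. -/
theorem false_of_closed {k : G} (hk : orderOf k = 2) {Q : Subgroup G} {c n : G}
    (S : QSThree.Setup k Q c n) {T : QSThree.Tab} (hT : T.Ok) (hchk : tchk T = true)
    (D : QSThree.Data T k) (h : QSThree.Closed k) : False := by
  classical
  haveI := C.setup.simple
  simp only [tchk, Bool.and_eq_true, decide_eq_true_eq] at hchk
  set F := (Finset.range 32).filter fun i => i ≠ 0 ∧ T.mul i i = 0
  obtain ⟨N, hN, -, -, hN8, -⟩ := QSThree.psl_of_closed hk h S.card192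
    ⟨F.image D.el, by
      rw [Finset.card_image_of_injOn fun i hi j hj e => ?_]
      · exact hchk.2
      · have := Finset.mem_range.1 (Finset.mem_filter.1 hi).1
        have := Finset.mem_range.1 (Finset.mem_filter.1 hj).1
        exact D.el_inj (by omega) (by omega) e,
    fun g hg => by
      obtain ⟨i, hi, rfl⟩ := Finset.mem_image.1 hg
      obtain ⟨hir, h0, h2⟩ := Finset.mem_filter.1 hi
      have hi' : i < 192 := by have := Finset.mem_range.1 hir; omega
      exact ⟨D.orderOf_el hT hi' h0 h2, D.el_comm_s hi'⟩⟩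
  rcases IsSimpleGroup.eq_bot_or_eq_top_of_normal N hN with e | e
  · rw [e, Subgroup.card_bot] at hN8; norm_num at hN8
  · rw [e, Subgroup.card_top, C.card_G] at hN8; norm_num at hN8

/-- The group is M12. -/
theorem isoM12 : Spor.IsoM12 G := by
  obtain ⟨k, hk, h64⟩ := C.exists_central
  obtain ⟨Q, c, n, S⟩ := C.exists_setup_local hk (C.card_of_central hk h64)
  have hnwc : ∀ {T : QSThree.Tab} (D : QSThree.Data T k) (j : ℕ), T.rep j < 32 →
      D.el (T.rep j) ≠ k → IsConj k (D.el (T.rep j)) →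
      ∃ g : G, (∃ i < 32, D.el i = g * k * g⁻¹) ∧ g * k * g⁻¹ ≠ k := fun D j hr hne hc => by
    obtain ⟨g, hg⟩ := isConj_iff.1 hc
    exact ⟨g, ⟨_, hr, hg.symm⟩, hg ▸ hne⟩
  have htwo : ∀ {T : QSThree.Tab}, T.Ok → tchk T = true ∧ tsize T 2 = 6 ∧ tsize T 3 = 12 ∧ tsize T 4 = 0 →
      ∀ D : QSThree.Data T k, (∀ q ∈ Q, ∃ i < 32, D.el i = q) →
      ∃ g : G, (∃ i < 32, D.el i = g * k * g⁻¹) ∧ g * k * g⁻¹ ≠ k := fun hT hchk D hcov => by
    obtain ⟨hchk, n2, n3, n4⟩ := hchk
    obtain ⟨W, hW, h0, h32⟩ := C.class_sum hk S hT hchk D hcov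
    obtain ⟨a1, a2, a3, a4⟩ := hW 2 (by norm_num) (by norm_num) (by omega)
    obtain ⟨b1, b2, b3, b4⟩ := hW 3 (by norm_num) (by norm_num) (by omega)
    rw [n2, n3, n4] at h0 h32
    simp only [Nat.cast_ofNat, Nat.cast_zero, zero_mul, add_zero] at h0 h32
    rcases two_classes _ a1 _ b1 h0 h32 with e | e
    exacts [hnwc D 2 a2 a3 (a4.1 e), hnwc D 3 b2 b3 (b4.1 e)]
  rcases S.exists_data with ⟨D, hcov⟩ | ⟨D, hcov⟩ | ⟨D, hcov⟩ | ⟨D, hcov⟩
  · exact (QSThree.M12Leg.closed_or_m12 D (htwo QSThree.tabM_ok tabM_chk D hcov)).resolve_left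
      (C.false_of_closed hk S QSThree.tabM_ok tabM_chk.1 D)
  · exfalso
    obtain ⟨hchk, n2, n3, n4⟩ := tabA_chk
    obtain ⟨W, hW, h0, h32⟩ := C.class_sum hk S QSThree.tabA_ok hchk D hcov
    obtain ⟨a1, -, -, a4⟩ := hW 2 (by norm_num) (by norm_num) (by omega)
    obtain ⟨b1, -, -, b4⟩ := hW 3 (by norm_num) (by norm_num) (by omega)
    obtain ⟨c1, -, -, c4⟩ := hW 4 (by norm_num) (by norm_num) (by omega)
    rw [n2, n3, n4] at h0 h32
    simp only [Nat.cast_ofNat] at h0 h32
    refine C.false_of_closed hk S QSThree.tabA_ok hchk D ?_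
    have hF : ∀ j, QSThree.Alt.Fus D j ↔ IsConj k (D.el (QSThree.tabA.rep j)) := fun j => Iff.rfl
    rcases three_classes _ a1 _ b1 _ c1 h0 h32 with ⟨e, e', e''⟩ | ⟨e, e', e''⟩ | ⟨e, e', e''⟩
    · exact QSThree.Alt.closed_of_one D hk (c := 2) (Or.inl rfl) (a4.1 e) fun j hj hf => by
        rcases hj with rfl | rfl | rfl
        exacts [rfl, absurd (b4.2 ((hF _).1 hf)) e', absurd (c4.2 ((hF _).1 hf)) e'']
    · exact QSThree.Alt.closed_of_one D hk (c := 3) (Or.inr (Or.inl rfl)) (b4.1 e') fun j hj hf => by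
        rcases hj with rfl | rfl | rfl
        exacts [absurd (a4.2 ((hF _).1 hf)) e, rfl, absurd (c4.2 ((hF _).1 hf)) e'']
    · exact QSThree.Alt.closed_of_one D hk (c := 4) (Or.inr (Or.inr rfl)) (c4.1 e'') fun j hj hf => by
        rcases hj with rfl | rfl | rfl
        exacts [absurd (a4.2 ((hF _).1 hf)) e, absurd (b4.2 ((hF _).1 hf)) e', rfl]
  · exact (QSThree.no_tabP D (htwo QSThree.tabP_ok tabP_chk D hcov)).elim
  · refine (QSThree.no_tabS D ?_).elim
    obtain ⟨hchk, n2, n3, n4⟩ := tabS_chk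
    obtain ⟨W, hW, h0, h32⟩ := C.class_sum hk S QSThree.tabS_ok hchk D hcov
    obtain ⟨a1, a2, a3, a4⟩ := hW 2 (by norm_num) (by norm_num) (by omega)
    obtain ⟨b1, b2, b3, b4⟩ := hW 3 (by norm_num) (by norm_num) (by omega)
    obtain ⟨c1, c2, c3, c4⟩ := hW 4 (by norm_num) (by norm_num) (by omega)
    rw [n2, n3, n4] at h0 h32
    simp only [Nat.cast_ofNat] at h0 h32
    rcases three_classes _ a1 _ b1 _ c1 h0 h32 with ⟨e, -, -⟩ | ⟨-, e, -⟩ | ⟨-, -, e⟩
    exacts [hnwc D 2 a2 a3 (a4.1 e), hnwc D 3 b2 b3 (b4.1 e), hnwc D 4 c2 c3 (c4.1 e)]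

end Conf

/-- **A simple group of order 95040 is M12.** -/
theorem isoM12_of_card [IsSimpleGroup G] (h : Nat.card G = 95040) : Spor.IsoM12 G := by
  haveI : Fact (Nat.Prime 11) := ⟨by norm_num⟩
  obtain ⟨P⟩ := (inferInstance : Nonempty (Sylow 11 G))
  obtain ⟨M, CF, YF, ε, C⟩ := exists_main h P
  exact C.isoM12

end CfsgLib.Recog.OrderM12
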