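import Cfsg.Agent.Lib.Recog.OrderM12.Galois

/-!
# Simple groups of order 95040: only the degrees of M12 survive at the prime five
-/

set_option autoImplicit false
set_option linter.style.haveILetI false
set_option synthInstance.maxSize 2000
set_option maxHeartbeats 1000000

namespace CfsgLib.Recog.OrderM12

open Cfsg CfsgLib CfsgLib.Block CfsgLib.ClassK CfsgLib.ClassK.RowSieve CfsgLib.ClassK.RowInvolution
open scoped ComplexConjugate

universe u

/-- A fixed configuration at the prime five. -/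
def selFive (np e a b : ℕ) : Bool := decide (a = np) && decide (b = e)

/-- The degrees of the nontrivial rows. -/
def degsOf (b : List (ℕ × Bool) × ℕ × ℤ) (k : ℕ) : Bool := (b.2.1 :: b.1.map Prod.fst).contains k

/-- The two configurations with a repeated degree twelve. -/
def twelveConfs : List (List (ℕ × Bool) × ℕ × ℤ) :=
  [([(12, true), (12, true), (10, false), (10, false)], 5, 1),
   ([(12, true), (12, true), (45, true), (10, false)], 60, 1)]

theorem check_odd : rowPossible 95040 5 309 (fun a b => decide (95040 / (a * b) % 2 = 1) &&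
    !(selFive 176 4 a b || selFive 1056 2 a b)) (fun _ => true) (fun _ => true) = false := by
  decide +kernel

theorem check_135 : (badConfs.all fun b =>
    !rowPossible 95040 5 309 (selFive 176 4) (fun _ => true) (degsOf b) ||
      (pairVecs 95040 2 135 (atPrime 5 12) b.1 b.2.1 b.2.2).isEmpty) = true := by
  decide +kernel

theorem check_45 : (badConfs.all fun b =>
    !rowPossible 95040 5 309 (selFive 1056 2) (fun _ => true) (degsOf b) ||
      decide (b ∈ twelveConfs) ||
        (decide (b.1.map Prod.fst).Nodup && !(b.1.map Prod.fst).contains b.2.1 &&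
          (pairVecs 95040 2 45 (atPrime 5 12) b.1 b.2.1 b.2.2).isEmpty)) = true := by
  decide +kernel

theorem check_twelve : (twelveConfs.all fun b =>
    (divs.filter fun c => decide (c % 64 = 0)).all fun c =>
      (invVecs 95040 2 c b.1 b.2.1 b.2.2).all fun r =>
        decide (((r.filter fun a => decide (a.1.1 ≠ 12)).map fun a => (a.1.1, a.2)).Nodup)) = true := by
  decide +kernel

theorem check_five_rows :
    ((RowInvolution.sols 95040 (cands 95040 (1056 * 2) 5 309 false fun _ => true) (2 - 1) 0).all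
      fun l => (excData 95040 (1056 * 2) 5 309 2 2 l).all fun ds =>
        (decide (l.map Prod.fst = [11] ∧ ds.1 = 12) || !(ds.1 :: l.map Prod.fst).contains 12) &&
          (ds.1 :: l.map Prod.fst).all fun k => decide (k ∉ [5, 10, 45, 60])) = true := by
  decide +kernel

variable {G : Type u} [Group G] [Finite G]

open scoped Classical in
/-- The signed sum over the common members of two principal blocks. -/
theorem common_sum {p q : ℕ} [Fact p.Prime] [Fact q.Prime] [Fintype (IrrCharacter G)]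
    {M₁ M₂ : Ideal AlgInt} (hM₁ : IsPModular p M₁) (hM₂ : IsPModular q M₂) {x y : G}
    (hx : orderOf x = p) (hy : orderOf y = q)
    (hno : ∀ g : G, p ∣ orderOf g → ¬ q ∣ orderOf g) :
    ∑ χ ∈ Finset.univ.filter (fun χ : IrrCharacter G =>
      χ ∈ principalBlock M₁ G ∧ χ ∈ principalBlock M₂ G),
      conj ((χ : G → ℂ) x) * (χ : G → ℂ) y = 0 := by
  have := isPrime_of_pmodular hM₁
  have := isPrime_of_pmodular hM₂
  have := Fintype.ofFinite G
  let B : Finset (IrrCharacter G) := Finset.univ.filter fun χ => χ ∈ principalBlock M₁ G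
  let B' : Finset (IrrCharacter G) := Finset.univ.filter fun χ => χ ∈ principalBlock M₂ G
  let F : G → ℂ := fun g => ∑ χ ∈ B, (χ : G → ℂ) x * conj ((χ : G → ℂ) g)
  let F' : G → ℂ := fun g => ∑ χ ∈ B', (χ : G → ℂ) y * conj ((χ : G → ℂ) g)
  have hF : ∀ (r : ℕ) (M : Ideal AlgInt) [Fact r.Prime], IsPModular r M → ∀ z : G,
      orderOf z = r → ∀ g : G, ¬ r ∣ orderOf g →
      ∑ χ ∈ (Finset.univ.filter fun χ => χ ∈ principalBlock M G),
        (χ : G → ℂ) z * conj ((χ : G → ℂ) g) = 0 := by
    intro r M _ hM z hz g hg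
    have := isPrime_of_pmodular hM
    have h := sum_block_eq_zero hM isPBlock_principalBlock
      (isPPart_self (p := r) (g := z) ⟨1, by rw [pow_one, hz]⟩ Fact.out)
      (isPPart_one_of_regular hg) (fun hc => by
        have h1 : z = 1 := by
          obtain ⟨c, hc⟩ := isConj_iff.1 hc
          calc z = c⁻¹ * (c * z * c⁻¹) * c := by group
            _ = 1 := by rw [hc]; group
        rw [h1, orderOf_one] at hz
        exact (Fact.out : r.Prime).ne_one hz.symm)
    rw [finsum_mem_eq_finite_toFinset_sum _ (Set.toFinite _)] at h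
    rw [← h]
    exact Finset.sum_congr (by ext; simp) fun _ _ => rfl
  have h0 : ∑ g : G, conj (F g) * F' g = 0 := by
    refine Finset.sum_eq_zero fun g _ => ?_
    by_cases hg : p ∣ orderOf g
    · rw [show F' g = 0 from hF q M₂ hM₂ y hy g (hno g hg), mul_zero]
    · rw [show F g = 0 from hF p M₁ hM₁ x hx g hg, map_zero, zero_mul]
  have h1 : ∑ g : G, conj (F g) * F' g = (Nat.card G : ℂ) *
      ∑ χ ∈ B, ∑ ψ ∈ B', conj ((χ : G → ℂ) x) * (ψ : G → ℂ) y *
        classInner (χ : G → ℂ) (ψ : G → ℂ) := by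
    simp only [F, F', map_sum, map_mul, Complex.conj_conj, Finset.sum_mul, Finset.mul_sum,
      Char.classInner_def]
    refine Eq.trans (Finset.sum_congr rfl fun g _ => Finset.sum_comm) ?_
    rw [Finset.sum_comm]
    refine Finset.sum_congr rfl fun χ _ => ?_
    rw [Finset.sum_comm]
    refine Finset.sum_congr rfl fun ψ _ => Finset.sum_congr rfl fun g _ => ?_
    have hn : (Nat.card G : ℂ) ≠ 0 := Nat.cast_ne_zero.2 Nat.card_pos.ne'
    field_simp
  rw [h0, eq_comm, mul_eq_zero, or_iff_right (Nat.cast_ne_zero.2 Nat.card_pos.ne')] at h1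
  refine Eq.trans ?_ h1
  rw [← Finset.filter_filter, Finset.sum_filter]
  refine Finset.sum_congr rfl fun χ _ => ?_
  have hterm : ∀ ψ ∈ B', conj ((χ : G → ℂ) x) * (ψ : G → ℂ) y *
      classInner (χ : G → ℂ) (ψ : G → ℂ) =
      if ψ = χ then conj ((χ : G → ℂ) x) * (χ : G → ℂ) y else 0 := fun ψ _ => by
    split_ifs with h
    · rw [h, Char.irr_classInner_self χ.2, mul_one]
    · rw [Char.irr_classInner_ne χ.2 ψ.2 fun e => h (Subtype.ext e).symm, mul_zero]
  rw [Finset.sum_congr rfl hterm, Finset.sum_ite_eq']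
  simp only [B', Finset.mem_filter, Finset.mem_univ, true_and]

/-- The automisers of the Sylow subgroups of prime order agree. -/
theorem relIndex_eq {p : ℕ} [Fact p.Prime] (Q Q' : Sylow p G) (hQ : Nat.card Q = p) :
    (Subgroup.centralizer ((Q' : Subgroup G) : Set G)).relIndex
        (Subgroup.normalizer ((Q' : Subgroup G) : Set G)) =
      (Subgroup.centralizer ((Q : Subgroup G) : Set G)).relIndex
        (Subgroup.normalizer ((Q : Subgroup G) : Set G)) := by
  obtain ⟨g, rfl⟩ := MulAction.exists_smul_eq G Q Q'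
  have := Fintype.ofFinite G
  obtain ⟨x, hx, hx1⟩ : ∃ x ∈ (Q : Subgroup G), x ≠ 1 := by
    refine Subgroup.bot_or_exists_ne_one _ |>.resolve_left fun h' => ?_
    rw [h', Subgroup.card_bot] at hQ
    exact (Fact.out : p.Prime).ne_one hQ.symm
  have hgQ : Nat.card ((g • Q : Sylow p G) : Subgroup G) = p :=
    (Sylow.card_eq_multiplicity (g • Q)).trans ((Sylow.card_eq_multiplicity Q).symm.trans hQ)
  have hgx : g * x * g⁻¹ ∈ ((g • Q : Sylow p G) : Subgroup G) := by
    rw [Sylow.coe_subgroup_smul]; exact ⟨x, hx, rfl⟩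
  have hc : Nat.card (Subgroup.centralizer (((g • Q : Sylow p G) : Subgroup G) : Set G)) =
      Nat.card (Subgroup.centralizer ((Q : Subgroup G) : Set G)) := by
    have h1 := congrArg (fun H : Subgroup G => Nat.card H) (BrauerReynolds.centralizer_mem_eq
      (g • Q) hgQ hgx (fun h' => hx1 (by simpa using h')))
    have h2 := congrArg (fun H : Subgroup G => Nat.card H)
      (BrauerReynolds.centralizer_mem_eq Q hQ hx hx1)
    exact (h1.symm.trans (CfsgLib.Transfer.card_centralizer_conj g x)).trans h2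
  have h1 := (card_config (g • Q)).trans (card_config Q).symm
  rw [hc] at h1
  exact Nat.eq_of_mul_eq_mul_right Nat.card_pos (Nat.eq_of_mul_eq_mul_left Nat.card_pos h1)

namespace Conf

variable [Fact (Nat.Prime 11)] {P : Sylow 11 G} {l : List (ℕ × Bool)} {d : ℕ} {σ : ℤ}
  {M : Ideal AlgInt} {CF YF : Finset (IrrCharacter G)} {ε : IrrCharacter G → ℤ}
  (C : Conf P l d σ M CF YF ε)
include C

/-- The degree of a nontrivial member of the block. -/
theorem block_degree {χ : IrrCharacter G} (hχ : χ ∈ principalBlock M G) (hne : χ ≠ trivChar) :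
    degsOf (l, d, σ) (charDegree (χ : G → ℂ)) = true := by
  simp only [degsOf, List.contains_iff_mem, List.mem_cons]
  rcases (C.setup.rows.mem χ).1 hχ with h | h
  · exact Or.inr (C.setup.deg_mem (mem_others.2 ⟨hne, h⟩))
  · exact Or.inl (C.setup.rows.YF_deg χ h)

/-- No element of order fifty-five. -/
theorem no_fifty_five (g : G) (h11 : 11 ∣ orderOf g) : ¬ 5 ∣ orderOf g := by
  intro h5
  set z := g ^ (orderOf g / 5) with hz
  have hzo : orderOf z = 5 := orderOf_pow_orderOf_div (orderOf_pos g).ne' h5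
  refine C.not_eleven_dvd (C.ne_one_of_order hzo (by norm_num)) (by rw [hzo]; norm_num) ?_
  exact h11.trans (Subgroup.orderOf_dvd_natCard _ (Subgroup.mem_centralizer_singleton_iff.2
    ((Commute.self_pow g _).eq)))

open scoped Classical in
/-- The configurations with a double degree twelve are impossible. -/
theorem false_twelve [Fact (Nat.Prime 5)] (hb : (l, d, σ) ∈ twelveConfs) (Q : Sylow 5 G)
    (hQ : Nat.card Q = 5) (hnp : Nat.card (Sylow 5 G) = 1056)
    (he : (Subgroup.centralizer ((Q : Subgroup G) : Set G)).relIndex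
      (Subgroup.normalizer ((Q : Subgroup G) : Set G)) = 2)
    {y : G} (hy : y ∈ (Q : Subgroup G)) (hy1 : y ≠ 1)
    (hcy : Nat.card (Subgroup.centralizer ({y} : Set G)) = 45) : False := by
  haveI := C.setup.simple
  have := Fintype.ofFinite (IrrCharacter G)
  have hQord : ∀ z ∈ (Q : Subgroup G), z ≠ 1 → orderOf z = 5 := fun z hz hz1 => by
    have hd := Subgroup.orderOf_dvd_natCard (Q : Subgroup G) hz
    rw [hQ] at hd
    exact ((Nat.dvd_prime Fact.out).1 hd).resolve_left fun h' => hz1 (orderOf_eq_one_iff.1 h')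
  obtain ⟨x, hx, hx1⟩ := C.setup.exists_x
  obtain ⟨l₅, d₅, σ₅, M₅, CF₅, YF₅, ε₅, hl₅, hds₅, hM₅, D₅, hmap₅⟩ :=
    StructC.OrdersBelow.exists_rows_sol (p := 5) (B := 309) (e := 2) (t := 2) (not_comm C.card_G)
      C.card_G (by norm_num) (by norm_num) (by norm_num) Q hnp he (by norm_num) (by norm_num)
  -- the degrees at five
  have hdeg₅ : ∀ χ : IrrCharacter G, χ ∈ principalBlock M₅ G → χ ≠ trivChar →
      charDegree (χ : G → ℂ) ∈ d₅ :: l₅.map Prod.fst := fun χ hχ hne => by
    rcases (D₅.mem χ).1 hχ with h | h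
    · refine List.mem_cons_of_mem _ ?_
      have h' : charDegree (χ : G → ℂ) ∈ (CF₅.erase
          (⟨fun _ => 1, Char.isIrrCharacter_one⟩ : IrrCharacter G)).val.map
            fun φ : IrrCharacter G => charDegree (φ : G → ℂ) :=
        Multiset.mem_map.2 ⟨χ, Finset.mem_erase.2 ⟨hne, h⟩, rfl⟩
      rwa [hmap₅] at h'
    · rw [D₅.YF_deg χ h]; exact List.mem_cons_self ..
  set A := (others CF).filter fun φ : IrrCharacter G => charDegree (φ : G → ℂ) = 12 with hA
  set R := (others CF).filter fun φ : IrrCharacter G => ¬ charDegree (φ : G → ℂ) = 12 with hR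
  have hfacts : ∀ b ∈ twelveConfs, (b.1.filter fun a => decide (a.1 = 12)).length = 2 ∧
      (b.1.filter fun a => !decide (a.1 = 12)).length = 2 ∧ b.2.2 = 1 ∧ b.2.1 ≠ 12 ∧ b.2.1 ≠ 11 ∧
      ∀ a ∈ b.1, a.1 ≠ 11 ∧ (a.1 = 12 → a.2 = true) ∧
        (a.1 ≠ 12 → a.1 ≠ b.2.1 ∧ a.1 % 5 = 0) := by decide +kernel
  obtain ⟨hA2, hR2, hσ, hd12, hd11, hl⟩ := hfacts _ hb
  simp only at hA2 hR2 hσ hd12 hd11 hl
  have hcards : A.card = 2 ∧ R.card = 2 := by
    have h : ∀ (p : ℕ → Bool), ((others CF).filter fun φ : IrrCharacter G =>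
        p (charDegree (φ : G → ℂ)) = true).card = (l.filter fun a => p a.1).length := fun p => by
      have e := congrArg (fun m : Multiset (ℕ × Bool) => (m.filter fun a => p a.1 = true).card)
        C.setup.map
      simp only [Multiset.filter_map, Multiset.card_map, Multiset.filter_coe, Multiset.coe_card] at e
      simp only [Finset.card_def, Finset.filter_val]
      convert e using 2
      all_goals first | rfl | simp [rowKey] | congr
    refine ⟨?_, ?_⟩
    · rw [hA, ← hA2, ← h fun k => decide (k = 12)]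
      simp
    · rw [hR, ← hR2, ← h fun k => !decide (k = 12)]
      simp
  -- the common characters
  have hcheck := List.all_eq_true.1 (List.all_eq_true.1 check_five_rows l₅ hl₅) _ hds₅
  simp only [Bool.and_eq_true, Bool.or_eq_true, decide_eq_true_eq, Bool.not_eq_true',
    List.contains_eq_mem, decide_eq_false_iff_not, List.all_eq_true] at hcheck
  obtain ⟨hcheck, havoid⟩ := hcheck
  have hsmall : ∀ b ∈ twelveConfs, b.2.1 ∈ [5, 10, 45, 60] ∧
      ∀ k ∈ b.1.map Prod.fst, k ≠ 12 → k ∈ [5, 10, 45, 60] := by decide +kernel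
  have hcommon : ∀ χ : IrrCharacter G, χ ∈ principalBlock M G → χ ∈ principalBlock M₅ G →
      χ ≠ trivChar → χ ∈ A ∧ charDegree (χ : G → ℂ) ∈ d₅ :: l₅.map Prod.fst := fun χ h1 h2 hne => by
    have h5 := hdeg₅ χ h2 hne
    rcases (C.setup.rows.mem χ).1 h1 with hc | hc
    · refine ⟨Finset.mem_filter.2 ⟨mem_others.2 ⟨hne, hc⟩, ?_⟩, h5⟩
      by_contra hne12
      exact havoid _ h5 ((hsmall _ hb).2 _ (C.setup.deg_mem (mem_others.2 ⟨hne, hc⟩)) hne12)
    · rw [C.setup.rows.YF_deg χ hc] at h5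
      exact absurd (hsmall _ hb).1 (havoid _ h5)
  obtain ⟨χ₀, hχ₁, hχ₂, hχne⟩ := RowDegree.exists_common C.setup.modular hM₅
    (C.setup.orderOf_x hx hx1) (hQord y hy hy1) C.no_fifty_five
  obtain ⟨hχA, hχd⟩ := hcommon χ₀ hχ₁ hχ₂ fun h => hχne (by rw [h]; rfl)
  obtain ⟨hl11, rfl⟩ : l₅.map Prod.fst = [11] ∧ d₅ = 12 := by
    rw [(Finset.mem_filter.1 hχA).2] at hχd
    exact hcheck.resolve_right fun h => h hχd
  rw [hl11] at hmap₅
  obtain ⟨φ₁, hφ₁, hφ₁d⟩ := Multiset.map_eq_singleton.1 hmap₅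
  have hmem₅ : ∀ φ ∈ CF₅, φ = trivChar ∨ φ = φ₁ := fun φ hφ => by
    by_cases h : φ = trivChar
    · exact Or.inl h
    · have : φ ∈ (CF₅.erase (⟨fun _ => 1, Char.isIrrCharacter_one⟩ : IrrCharacter G)).val :=
        Finset.mem_erase.2 ⟨h, hφ⟩
      rw [hφ₁] at this
      exact Or.inr (Multiset.mem_singleton.1 this)
  have hAdeg : ∀ φ ∈ A, φ ∈ others CF ∧ ε φ = 1 ∧ charDegree (φ : G → ℂ) = 12 := fun φ hφ => by
    obtain ⟨ho, hd⟩ := Finset.mem_filter.1 hφ
    have h := (hl _ (C.setup.mem_l (mem_others.1 ho).2 (mem_others.1 ho).1)).2.1 hd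
    simp only [rowKey, decide_eq_true_eq] at h
    exact ⟨ho, h, hd⟩
  set T := Finset.univ.filter (fun χ : IrrCharacter G =>
    χ ∈ principalBlock M G ∧ χ ∈ principalBlock M₅ G) with hT
  have hTe : T = insert trivChar (A ∩ YF₅) := by
    ext χ
    simp only [hT, Finset.mem_filter, Finset.mem_univ, true_and, Finset.mem_insert, Finset.mem_inter]
    refine ⟨fun ⟨h1, h2⟩ => (em (χ = trivChar)).imp_right fun hne => ?_, ?_⟩
    · obtain ⟨hA', -⟩ := hcommon χ h1 h2 hne
      refine ⟨hA', ((D₅.mem χ).1 h2).resolve_left fun hc => ?_⟩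
      obtain rfl := (hmem₅ χ hc).resolve_left hne
      rw [(Finset.mem_filter.1 hA').2] at hφ₁d
      norm_num at hφ₁d
    · rintro (rfl | ⟨h1, h2⟩)
      · exact ⟨(C.setup.rows.mem _).2 (Or.inl C.setup.rows.one_mem), (D₅.mem _).2 (Or.inl D₅.one_mem)⟩
      · exact ⟨(C.setup.rows.mem _).2 (Or.inl (mem_others.1 (hAdeg χ h1).1).2),
          (D₅.mem _).2 (Or.inr h2)⟩
  have hsum0 : ∀ z ∈ (Q : Subgroup G), z ≠ 1 → ∑ φ ∈ A ∩ YF₅, (φ : G → ℂ) z = -1 := by
    intro z hz hz1
    have h := common_sum C.setup.modular hM₅ (C.setup.orderOf_x hx hx1) (hQord z hz hz1)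
      C.no_fifty_five
    rw [← hT, hTe, Finset.sum_insert (fun h => (mem_others.1 (hAdeg _ (Finset.mem_inter.1 h).1).1).1 rfl),
      Finset.sum_congr rfl (g := fun φ : IrrCharacter G => (φ : G → ℂ) z) fun φ hφ => by
        obtain ⟨ho, he1, -⟩ := hAdeg φ (Finset.mem_inter.1 hφ).1
        rw [C.setup.rows.CF_val φ (mem_others.1 ho).2 x hx hx1, he1]
        simp] at h
    simp only [trivChar_apply, map_one, mul_one] at h
    linear_combination h
  have hAY : A = YF₅ ∧ A ∩ YF₅ = A := by
    have hle : (A ∩ YF₅).card ≤ 2 := hcards.1 ▸ Finset.card_le_card Finset.inter_subset_left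
    have h2 : (A ∩ YF₅).card = 2 := by
      interval_cases hn : (A ∩ YF₅).card
      · have h := hsum0 y hy hy1
        rw [Finset.card_eq_zero.1 hn, Finset.sum_empty] at h
        norm_num at h
      · obtain ⟨η, hη⟩ := Finset.card_eq_one.1 hn
        have hd := dvd_degree_sub (χ := η) (p := 5) (hQord y hy hy1) (b := -1) fun j hj => by
          have h := hsum0 (y ^ j) (Subgroup.pow_mem _ hy j) fun h => hj (by
            rw [← hQord y hy hy1]; exact orderOf_dvd_of_pow_eq_one h)
          rw [hη, Finset.sum_singleton] at h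
          rw [h]; norm_num
        rw [(hAdeg η (Finset.mem_inter.1 (hη ▸ Finset.mem_singleton_self η)).1).2.2] at hd
        norm_num at hd
      · rfl
    have e1 : A ∩ YF₅ = A := Finset.eq_of_subset_of_card_le Finset.inter_subset_left (by omega)
    refine ⟨Finset.eq_of_subset_of_card_le (fun φ hφ => (Finset.mem_inter.1 (e1.symm ▸ hφ)).2) ?_, e1⟩
    rw [D₅.card_YF, hcards.1, if_neg (by norm_num)]
  have hη : ∑ φ ∈ A, (φ : G → ℂ) y = -1 := hAY.2 ▸ hsum0 y hy hy1
  -- the norm of the section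
  have hinv : IsConj y y⁻¹ := by
    have h4 : y⁻¹ = y ^ 4 := inv_eq_of_mul_eq_one_right (by
      rw [← pow_succ']
      have h5 := pow_orderOf_eq_one y
      rw [hQord y hy hy1] at h5
      exact h5)
    exact h4 ▸ isConj_pow_five Q hQ hy hy1 he (Or.inr ⟨rfl, rfl⟩)
  have hreal : ∀ φ : IrrCharacter G, conj ((φ : G → ℂ) y) = (φ : G → ℂ) y := fun φ => by
    rw [← Char.char_inv (Char.irr_isCharacter φ.2) y]
    obtain ⟨g, hg⟩ := isConj_iff.1 hinv
    rw [← hg, Char.irr_isClassFunction φ.2]
  have hsq : ∑ φ ∈ A, (φ : G → ℂ) y * (φ : G → ℂ) y = 3 := by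
    have h := (principal_section hM₅ ⟨1, by rw [pow_one, hQord y hy hy1]⟩
      (hasNormalPComplement_centralizer Q hQ hy hy1)).2
    rw [hcy, show (45 : ℕ) = 5 * 9 by norm_num, Nat.factorization_mul (by norm_num) (by norm_num),
      Finsupp.add_apply, Nat.Prime.factorization_self (by norm_num),
      Nat.factorization_eq_zero_of_not_dvd (show ¬ 5 ∣ 9 by norm_num),
      finsum_mem_eq_finite_toFinset_sum _ (Set.toFinite _),
      Finset.sum_congr (show (Set.toFinite (principalBlock M₅ G)).toFinset = CF₅ ∪ YF₅ by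
        ext ψ; simp [D₅.mem ψ]) fun _ _ => rfl,
      Finset.sum_union D₅.disj, ← hAY.1,
      ← Finset.add_sum_erase CF₅ _ D₅.one_mem,
      show CF₅.erase (⟨fun _ => 1, Char.isIrrCharacter_one⟩ : IrrCharacter G) = {φ₁} from
        Finset.val_inj.1 hφ₁,
      Finset.sum_singleton] at h
    have hφC : φ₁ ∈ CF₅ := Finset.mem_of_mem_erase (s := CF₅)
      (a := (⟨fun _ => 1, Char.isIrrCharacter_one⟩ : IrrCharacter G)) (by
        rw [← Finset.mem_val, hφ₁]; exact Multiset.mem_singleton_self _)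
    have hv := D₅.CF_val φ₁ hφC y hy hy1
    simp only [hreal] at h
    rw [hv] at h
    rcases D₅.eps_pm φ₁ hφC with e | e <;> rw [e] at h <;> push_cast [map_one] at h <;>
      linear_combination h
  -- the other rows are rational at `y`
  obtain ⟨t, ht, h64⟩ := C.exists_central
  obtain ⟨qt, rt, hrt, hqt, hmapt, -⟩ := C.exists_invVec ht
  have hnd : ((R.val.map fun φ : IrrCharacter G => (charDegree (φ : G → ℂ), qt φ))).Nodup := by
    have h := List.all_eq_true.1 (List.all_eq_true.1 (List.all_eq_true.1 check_twelve _ hb) _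
      (List.mem_filter.2 ⟨mem_divs (C.cent_dvd (C.invol_regular ht).1 (C.invol_regular ht).2),
        decide_eq_true (Nat.mod_eq_zero_of_dvd h64)⟩)) rt hrt
    rw [decide_eq_true_eq] at h
    have e : R.val.map (fun φ : IrrCharacter G => (charDegree (φ : G → ℂ), qt φ)) =
        ↑((rt.filter fun a => decide (a.1.1 ≠ 12)).map fun a => (a.1.1, a.2)) := by
      rw [← Multiset.map_coe, ← Multiset.filter_coe, ← hmapt, Multiset.filter_map,
        Multiset.map_map, hR, Finset.filter_val]
      simp only [Function.comp_def, rowKey, decide_eq_true_eq]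
      congr
    rw [e]
    exact Multiset.coe_nodup.2 h
  have hRfix : ∀ φ ∈ R, ∀ k : ℕ, k.Coprime (Nat.card G) → ∀ g : G,
      (φ : G → ℂ) (g ^ k) = (φ : G → ℂ) g := by
    intro φ hφ k hk g
    have := isPrime_of_pmodular C.setup.modular
    have := Fintype.ofFinite G
    obtain ⟨hφo, hd⟩ := Finset.mem_filter.1 hφ
    obtain ⟨hne, hφC⟩ := mem_others.1 hφo
    have hdeg : charDegree ((BlockB.galIrr hk φ : IrrCharacter G) : G → ℂ) =
        charDegree (φ : G → ℂ) := by
      have e : ((charDegree ((BlockB.galIrr hk φ : IrrCharacter G) : G → ℂ) : ℕ) : ℂ) =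
          (charDegree (φ : G → ℂ) : ℕ) := by
        rw [BlockB.irr_degree_cast, BlockB.irr_degree_cast]
        simp [BlockB.galIrr, one_pow]
      exact_mod_cast e
    have hψC : BlockB.galIrr hk φ ∈ CF := by
      refine ((C.setup.rows.mem _).1 (BlockB.galIrr_mem_principalBlock C.setup.modular hk
        ((C.setup.rows.mem φ).2 (Or.inl hφC)))).resolve_right fun hY => ?_
      exact ((hl _ (C.setup.mem_l hφC hne)).2.2 hd).1 (hdeg.symm.trans (C.setup.rows.YF_deg _ hY))
    have hψne : BlockB.galIrr hk φ ≠ trivChar := fun h => by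
      rw [h, deg_trivChar] at hdeg
      have := ((hl _ (C.setup.mem_l hφC hne)).2.2 hd).2
      simp only [rowKey] at this
      omega
    have hψR : BlockB.galIrr hk φ ∈ R :=
      Finset.mem_filter.2 ⟨mem_others.2 ⟨hψne, hψC⟩, hdeg.symm ▸ hd⟩
    have hk2 : ¬ 2 ∣ k := fun h => by
      have := Nat.dvd_gcd h (show 2 ∣ Nat.card G by rw [C.card_G]; norm_num)
      rw [hk] at this
      norm_num at this
    have htk : t ^ k = t := by
      rw [← pow_one t, ← pow_mul, one_mul, pow_eq_pow_iff_modEq, ht]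
      unfold Nat.ModEq; omega
    have heq : BlockB.galIrr hk φ = φ := by
      refine Multiset.inj_on_of_nodup_map hnd _ hψR _ hφ (Prod.ext hdeg ?_)
      have h1 : ((qt (BlockB.galIrr hk φ) : ℤ) : ℂ) = (qt φ : ℂ) := by
        rw [← hqt _ (Finset.mem_filter.1 hψR).1, ← hqt _ hφo]
        conv_rhs => rw [← htk]
        rfl
      exact_mod_cast h1
    exact congrArg (fun χ : IrrCharacter G => (χ : G → ℂ) g) heq
  have hRval : ∀ φ ∈ R, ∃ v : ℤ, (φ : G → ℂ) y = v ∧ (5 : ℤ) ∣ v := fun φ hφ => by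
    obtain ⟨v, hv, hd, -⟩ := exists_value_prime φ (p := 5) (hQord y hy hy1)
      fun k hk => hRfix φ hφ k hk y
    refine ⟨v, hv, ?_⟩
    obtain ⟨hφo, hd12'⟩ := Finset.mem_filter.1 hφ
    have := ((hl _ (C.setup.mem_l (mem_others.1 hφo).2 (mem_others.1 hφo).1)).2.2 hd12').2
    simp only [rowKey] at this
    omega
  choose! v hv hv5 using hRval
  obtain ⟨a, b, hab, hRab⟩ := Finset.card_eq_two.1 hcards.2
  have haR : a ∈ R := hRab ▸ Finset.mem_insert_self a _
  have hbR : b ∈ R := hRab ▸ Finset.mem_insert_of_mem (Finset.mem_singleton_self b)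
  have hyr : ¬ 11 ∣ orderOf y := by rw [hQord y hy hy1]; norm_num
  have hexc : ∀ η ∈ YF, (η : G → ℂ) y = ((ε a * v a + ε b * v b : ℤ) : ℂ) := fun η hη' => by
    have h := C.setup.rows.relation (by norm_num) η hη' y hyr
    rw [sum_others C.setup.rows.one_mem, show ε trivChar = 1 from C.setup.rows.eps_one,
      ← Finset.sum_filter_add_sum_filter_not (others CF)
        (fun φ : IrrCharacter G => charDegree (φ : G → ℂ) = 12), ← hA, ← hR, hRab,
      Finset.sum_pair hab, hσ,
      Finset.sum_congr rfl (g := fun φ : IrrCharacter G => (φ : G → ℂ) y) (s₁ := A)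
        fun φ hφ => by rw [(hAdeg φ hφ).2.1]; simp, hη, hv a haR, hv b hbR] at h
    simp only [trivChar_apply, Int.cast_one, one_mul] at h
    push_cast
    linear_combination -h
  have hzero : v a = 0 ∧ v b = 0 := by
    have hN := sum_normSq_le y (insert trivChar (others CF) ∪ YF)
    rw [hcy, Finset.sum_union (Finset.disjoint_left.2 fun φ h1 h2 => by
        rcases Finset.mem_insert.1 h1 with rfl | h1
        · exact C.setup.not_triv h2 rfl
        · exact Finset.disjoint_left.1 C.setup.rows.disj (mem_others.1 h1).2 h2),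
      Finset.sum_insert (fun h => (mem_others.1 h).1 rfl),
      ← Finset.sum_filter_add_sum_filter_not (others CF)
        (fun φ : IrrCharacter G => charDegree (φ : G → ℂ) = 12), ← hA, ← hR, hRab,
      Finset.sum_pair hab, hv a haR, hv b hbR,
      Finset.sum_congr rfl (g := fun _ => Complex.normSq ((ε a * v a + ε b * v b : ℤ) : ℂ))
        (s₁ := YF) fun η hη' => by rw [hexc η hη'],
      Finset.sum_const, C.setup.rows.card_YF, if_neg (by norm_num)] at hN
    have hA3 : ∑ φ ∈ A, Complex.normSq ((φ : G → ℂ) y) = 3 := by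
      have : ((∑ φ ∈ A, Complex.normSq ((φ : G → ℂ) y) : ℝ) : ℂ) = ((3 : ℝ) : ℂ) := by
        push_cast
        rw [← hsq]
        exact Finset.sum_congr rfl fun φ _ => by
          rw [Complex.normSq_eq_conj_mul_self, hreal φ]
      exact_mod_cast this
    rw [hA3] at hN
    simp only [trivChar_apply, map_one, ← Complex.ofReal_intCast, Complex.normSq_ofReal,
      nsmul_eq_mul, Nat.cast_ofNat] at hN
    have hN' : v a * v a + v b * v b + 2 * ((ε a * v a + ε b * v b) * (ε a * v a + ε b * v b)) ≤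
        41 := by
      have hN2 : ((v a * v a + v b * v b + 2 * ((ε a * v a + ε b * v b) * (ε a * v a + ε b * v b)) :
          ℤ) : ℝ) ≤ ((41 : ℤ) : ℝ) := by push_cast at hN ⊢; linarith
      exact_mod_cast hN2
    obtain ⟨i, hi⟩ := hv5 a haR
    obtain ⟨j, hj⟩ := hv5 b hbR
    have hea : ε a = 1 ∨ ε a = -1 :=
      C.setup.rows.eps_pm a (mem_others.1 (Finset.mem_filter.1 haR).1).2
    have heb : ε b = 1 ∨ ε b = -1 :=
      C.setup.rows.eps_pm b (mem_others.1 (Finset.mem_filter.1 hbR).1).2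
    rw [hi, hj] at hN' ⊢
    have h1 : i * i + j * j + 2 * ((ε a * i + ε b * j) * (ε a * i + ε b * j)) ≤ 1 := by nlinarith
    have hi1 : -1 ≤ i ∧ i ≤ 1 := by constructor <;> nlinarith
    have hj1 : -1 ≤ j ∧ j ≤ 1 := by constructor <;> nlinarith
    have hmem : ∀ k : ℤ, -1 ≤ k → k ≤ 1 → k ∈ [(-1 : ℤ), 0, 1] := fun k _ _ => by
      simp only [List.mem_cons, List.not_mem_nil, or_false]; omega
    have key : ∀ i ∈ [(-1 : ℤ), 0, 1], ∀ j ∈ [(-1 : ℤ), 0, 1], ∀ s ∈ [(1 : ℤ), -1],
        ∀ t ∈ [(1 : ℤ), -1], i * i + j * j + 2 * ((s * i + t * j) * (s * i + t * j)) ≤ 1 →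
          i = 0 ∧ j = 0 := by decide
    obtain ⟨rfl, rfl⟩ := key i (hmem i hi1.1 hi1.2) j (hmem j hj1.1 hj1.2) (ε a) (by simpa using hea)
      (ε b) (by simpa using heb) h1
    simp
  -- the contradiction
  obtain ⟨m, -, hm⟩ :=
    (letI := Fintype.ofFinite G; C.setup.exists_pairs C.cent (g := y) hx hx1)
  rw [hcy, sum_others C.setup.rows.one_mem,
    ← Finset.sum_filter_add_sum_filter_not (others CF)
      (fun φ : IrrCharacter G => charDegree (φ : G → ℂ) = 12), ← hA, ← hR, hRab,
    Finset.sum_pair hab, hv a haR, hv b hbR, hzero.1, hzero.2,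
    Finset.sum_congr rfl (g := fun φ : IrrCharacter G => (7920 : ℂ) *
      ((φ : G → ℂ) y * (φ : G → ℂ) y)) (s₁ := A) fun φ hφ => by
        rw [(hAdeg φ hφ).2.1, ← BlockB.irr_degree_cast, (hAdeg φ hφ).2.2]; push_cast; ring,
    ← Finset.mul_sum, hsq, show ε trivChar = 1 from C.setup.rows.eps_one,
    Finset.sum_eq_zero (s := YF) fun η hη' => by
      rw [hexc η hη', hzero.1, hzero.2]; simp] at hm
  simp only [trivChar_apply, Int.cast_zero, mul_zero, zero_div, zero_mul, add_zero, mul_one,
    div_one, Int.cast_one] at hm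
  have hm' : ((118800 : ℕ) : ℂ) = ((2025 * m : ℕ) : ℂ) := by push_cast; linear_combination hm
  have : 118800 = 2025 * m := by exact_mod_cast hm'
  omega

open scoped Classical in
/-- Only the degrees of M12 occur. -/
theorem main_case : (l, d, σ) = (mainL, 16, (1 : ℤ)) := by
  refine C.cases.resolve_right fun hb => ?_
  haveI := C.setup.simple
  haveI : Fact (Nat.Prime 5) := ⟨by norm_num⟩
  obtain ⟨Q⟩ := (inferInstance : Nonempty (Sylow 5 G))
  have hQ : Nat.card Q = 5 := CfsgLib.Transfer.card_sylow_eq_prime Q (by rw [C.card_G]; norm_num)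
    (by rw [C.card_G]; norm_num)
  have hne : ∀ Q' : Sylow 5 G, ∃ y ∈ (Q' : Subgroup G), y ≠ 1 ∧ orderOf y = 5 ∧
      Nat.card (Subgroup.centralizer ((Q' : Subgroup G) : Set G)) =
        Nat.card (Subgroup.centralizer ({y} : Set G)) := fun Q' => by
    have hQ' : Nat.card Q' = 5 := CfsgLib.Transfer.card_sylow_eq_prime Q'
      (by rw [C.card_G]; norm_num) (by rw [C.card_G]; norm_num)
    obtain ⟨y, hy, hy1⟩ : ∃ y ∈ (Q' : Subgroup G), y ≠ 1 := by
      refine Subgroup.bot_or_exists_ne_one _ |>.resolve_left fun h' => ?_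
      rw [h', Subgroup.card_bot] at hQ'
      norm_num at hQ'
    refine ⟨y, hy, hy1, ?_, (congrArg (fun H : Subgroup G => Nat.card H)
      (BrauerReynolds.centralizer_mem_eq Q' hQ' hy hy1)).symm⟩
    have hd := Subgroup.orderOf_dvd_natCard (Q' : Subgroup G) hy
    rw [hQ'] at hd
    exact ((Nat.dvd_prime Fact.out).1 hd).resolve_left fun h' => hy1 (orderOf_eq_one_iff.1 h')
  obtain ⟨y, hy, hy1, hyo, hcard⟩ := hne Q
  have hcfg := card_config Q
  rw [C.card_G] at hcfg
  set np := Nat.card (Sylow 5 G) with hnp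
  set e := (Subgroup.centralizer ((Q : Subgroup G) : Set G)).relIndex
    (Subgroup.normalizer ((Q : Subgroup G) : Set G)) with he
  have hsel : (np = 176 ∧ e = 4) ∨ (np = 1056 ∧ e = 2) := by
    by_contra hno
    refine false_of_rowPossible' (p := 5) (not_comm C.card_G) C.card_G (B := 309) (by norm_num)
      (by norm_num) (by norm_num) _ (fun Q' => ?_) (fun _ => true) (fun _ _ => rfl) check_odd
    obtain ⟨y', -, -, hy'o, hcard'⟩ := hne Q'
    have hodd := C.bad_five hb hy'o
    have hcfg' := card_config Q'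
    rw [C.card_G, hcard', ← hnp] at hcfg'
    have hrel : (Subgroup.centralizer ((Q' : Subgroup G) : Set G)).relIndex
        (Subgroup.normalizer ((Q' : Subgroup G) : Set G)) = e := relIndex_eq Q Q' hQ
    rw [← hnp, hrel]
    rw [hrel] at hcfg'
    have hdiv : 95040 / (np * e) = Nat.card (Subgroup.centralizer ({y'} : Set G)) := by
      rw [← hcfg', ← mul_assoc, Nat.mul_div_cancel_left]
      refine Nat.pos_of_ne_zero fun h0 => ?_
      rw [← mul_assoc, h0, zero_mul] at hcfg'
      norm_num at hcfg'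
    simp only [Bool.and_eq_true, decide_eq_true_eq, Bool.not_eq_true', Bool.or_eq_false_iff,
      selFive, Bool.and_eq_false_iff, decide_eq_false_iff_not]
    refine ⟨by rw [hdiv]; omega, ?_, ?_⟩ <;> by_contra hh <;> exact hno (by omega)
  obtain ⟨M₅, hM₅⟩ := BlockB.exists_isPModular (p := 5) (Fact.out : Nat.Prime 5)
  obtain ⟨x, hx, hx1⟩ := C.setup.exists_x
  obtain ⟨χ, hχ1, hχ2, hχne⟩ := RowDegree.exists_common C.setup.modular hM₅
    (C.setup.orderOf_x hx hx1) hyo C.no_fifty_five
  have hpos : rowPossible 95040 5 309 (selFive np e) (fun _ => true) (degsOf (l, d, σ)) = true :=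
    rowPossible_of_mem (not_comm C.card_G) C.card_G (by norm_num) (by norm_num) (by norm_num)
      hM₅ χ hχ2 hχne _ (fun Q' => by
        rw [relIndex_eq Q Q' hQ, ← he, ← hnp]
        simp [selFive]) _ (fun _ _ _ => rfl) _
      (C.block_degree hχ1 fun h => hχne (by rw [h]; rfl))
  have hpair : ∀ (b : ℕ), Nat.card (Subgroup.centralizer ({y} : Set G)) = b → b ≤ 144 →
      (∀ φ ∈ CF ∪ YF, ∀ k : ℕ, k.Coprime (Nat.card G) →
        (φ : G → ℂ) (y ^ k) = (φ : G → ℂ) y) →
      (pairVecs 95040 2 b (atPrime 5 12) l d σ).isEmpty = true → False := fun b hb' hle hfix hempty => by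
    obtain ⟨q, r, hr, -⟩ := C.setup.exists_pairVec C.cent (p := 5) (b := 12) (by norm_num) hyo
      (by omega) hfix
    rw [hb', List.isEmpty_iff.1 hempty] at hr
    exact List.not_mem_nil hr
  rcases hsel with ⟨h1, h2⟩ | ⟨h1, h2⟩ <;> rw [h1, h2] at hcfg hpos
  · have h := List.all_eq_true.1 check_135 _ hb
    rw [hpos, Bool.not_true, Bool.false_or] at h
    refine hpair 135 (by omega) (by norm_num) (fun φ _ k hk => ?_) h
    obtain ⟨g, hg⟩ := isConj_iff.1 (isConj_pow_five Q hQ hy hy1 (e := 4) (k := k) (by rw [← he, h2])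
      (Or.inl ⟨rfl, fun h5 => by
        have := Nat.dvd_gcd h5 (show 5 ∣ Nat.card G by rw [C.card_G]; norm_num)
        rw [hk] at this
        norm_num at this⟩))
    rw [← hg, Char.irr_isClassFunction φ.2]
  · have h := List.all_eq_true.1 check_45 _ hb
    rw [hpos, Bool.not_true, Bool.false_or] at h
    simp only [Bool.or_eq_true, decide_eq_true_eq, Bool.and_eq_true, Bool.not_eq_true',
      List.contains_eq_mem, decide_eq_false_iff_not] at h
    rcases h with h | ⟨⟨hnd, hd⟩, hempty⟩
    · exact C.false_twelve h Q hQ h1 (by rw [← he, h2]) hy hy1 (by omega)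
    · exact hpair 45 (by omega) (by norm_num) (fun φ hφ k hk =>
        C.setup.fixed_all hnd hd (by rw [hyo]; norm_num) hk hφ) hempty

end Conf

end CfsgLib.Recog.OrderM12
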