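import Cfsg.Agent.Lib.Recog.OrderM12.Invol
import Cfsg.Agent.Lib.Char.LinearSum

/-!
# Simple groups of order 95040: rational values at elements of prime order
-/

set_option autoImplicit false
set_option linter.style.haveILetI false
set_option synthInstance.maxSize 2000

namespace CfsgLib.Recog.OrderM12

open Cfsg CfsgLib CfsgLib.Block CfsgLib.ClassK CfsgLib.ClassK.RowSieve CfsgLib.ClassK.RowInvolution
open scoped ComplexConjugate

universe u

variable {G : Type u} [Group G] [Finite G]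

/-- A residue prime to `p` is that of a number prime to `n`. -/
theorem exists_coprime_modEq {n p j : ℕ} [hp : Fact p.Prime] (hn : n ≠ 0) (hj : ¬ p ∣ j) :
    ∃ k, k.Coprime n ∧ k ≡ j [MOD p] := by
  set m := n / p ^ n.factorization p with hm
  have hcop : p.Coprime m := Nat.coprime_ordCompl hp.out hn
  obtain ⟨k, hk1, hk2⟩ := Nat.chineseRemainder hcop j 1
  refine ⟨k, ?_, hk1⟩
  have h1 : k.Coprime m := by
    have := hk2.gcd_eq
    rwa [Nat.gcd_one_left] at this
  have h2 : k.Coprime p := ((hp.out.coprime_iff_not_dvd).2 fun h => hj (by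
    exact (hk1.dvd_iff dvd_rfl).1 h)).symm
  rw [show n = p ^ n.factorization p * m from (Nat.ordProj_mul_ordCompl_eq_self n p).symm]
  exact Nat.Coprime.mul_right (h2.pow_right _) h1

/-- An integral value at an element of prime order. -/
theorem exists_value_prime (χ : IrrCharacter G) {g : G} {p : ℕ} [hp : Fact p.Prime]
    (hg : orderOf g = p)
    (h : ∀ k : ℕ, k.Coprime (Nat.card G) → (χ : G → ℂ) (g ^ k) = (χ : G → ℂ) g) :
    ∃ v : ℤ, (χ : G → ℂ) g = v ∧ (p : ℤ) ∣ (charDegree (χ : G → ℂ) : ℤ) - v ∧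
      v * v ≤ (Nat.card (Subgroup.centralizer ({g} : Set G)) : ℤ) := by
  obtain ⟨v, hv⟩ := exists_int_value (Char.irr_isCharacter χ.2) h
  refine ⟨v, hv, dvd_degree_sub hg fun j hj => ?_, ?_⟩
  · obtain ⟨k, hk, hkj⟩ := exists_coprime_modEq (n := Nat.card G) Nat.card_pos.ne' hj
    rw [← pow_eq_pow_iff_modEq.2 (show k ≡ j [MOD orderOf g] by rw [hg]; exact hkj), h k hk, hv]
  · have := Fintype.ofFinite (IrrCharacter G)
    simpa using sum_sq_le g {χ} (fun _ => v) fun ψ hψ => by rw [Finset.mem_singleton.1 hψ]; exact hv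

/-- A congruent small value is among the candidates. -/
theorem mem_atPrime {p b d : ℕ} {v : ℤ} (h1 : (p : ℤ) ∣ (d : ℤ) - v) (h2 : v * v ≤ (b : ℤ) * b) :
    v ∈ atPrime p b d :=
  List.mem_filter.2 ⟨mem_around h2, decide_eq_true (Int.emod_eq_zero_of_dvd h1)⟩

namespace Setup

variable [Fact (Nat.Prime 11)] {P : Sylow 11 G} {l : List (ℕ × Bool)} {d : ℕ} {σ : ℤ}
  {M : Ideal AlgInt} {CF YF : Finset (IrrCharacter G)} {ε : IrrCharacter G → ℤ}
  (S : Setup P l d σ M CF YF ε)
include S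

theorem eq_of_deg (hnd : (l.map Prod.fst).Nodup) {φ ψ : IrrCharacter G} (hφ : φ ∈ others CF)
    (hψ : ψ ∈ others CF) (h : charDegree (ψ : G → ℂ) = charDegree (φ : G → ℂ)) : ψ = φ := by
  have hm : ((others CF).val.map fun χ : IrrCharacter G => charDegree (χ : G → ℂ)).Nodup := by
    have h' := congrArg (Multiset.map Prod.fst) S.map
    rw [Multiset.map_map, Multiset.map_coe] at h'
    rw [show (fun χ : IrrCharacter G => charDegree (χ : G → ℂ)) = Prod.fst ∘ rowKey ε from rfl, h']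
    exact Multiset.coe_nodup.2 hnd
  exact Multiset.inj_on_of_nodup_map hm ψ hψ φ hφ h

theorem deg_mem {φ : IrrCharacter G} (hφ : φ ∈ others CF) :
    charDegree (φ : G → ℂ) ∈ l.map Prod.fst :=
  List.mem_map.2 ⟨_, S.mem_l (mem_others.1 hφ).2 (mem_others.1 hφ).1, rfl⟩

theorem triv_or_others {φ : IrrCharacter G} (hφ : φ ∈ CF) : φ = trivChar ∨ φ ∈ others CF := by
  by_cases h : φ = trivChar
  · exact Or.inl h
  · exact Or.inr (mem_others.2 ⟨h, hφ⟩)

/-- The exceptional rows are fixed when the others are. -/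
theorem fixed_YF {g : G} (hg : ¬ 11 ∣ orderOf g) {k : ℕ} (hk : k.Coprime (Nat.card G))
    (h : ∀ φ ∈ others CF, (φ : G → ℂ) (g ^ k) = (φ : G → ℂ) g) {η : IrrCharacter G} (hη : η ∈ YF) :
    (η : G → ℂ) (g ^ k) = (η : G → ℂ) g := by
  have ho : ¬ 11 ∣ orderOf (g ^ k) := fun h' => hg (h'.trans (orderOf_pow_dvd k))
  have h1 := S.rows.relation (by norm_num) η hη g hg
  have h2 := S.rows.relation (by norm_num) η hη (g ^ k) ho
  have hσ : (σ : ℂ) ≠ 0 := by rcases S.rows.sign with e | e <;> simp [e]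
  refine mul_left_cancel₀ hσ ?_
  rw [← h1, ← h2]
  refine Finset.sum_congr rfl fun φ hφ => ?_
  rcases S.triv_or_others hφ with rfl | hφ'
  · simp
  · rw [h φ hφ']

/-- A row of its own degree is rational. -/
theorem fixed_of_unique {φ : IrrCharacter G} (hφ : φ ∈ others CF)
    (hd : charDegree (φ : G → ℂ) ≠ d)
    (huniq : ∀ ψ ∈ others CF, charDegree (ψ : G → ℂ) = charDegree (φ : G → ℂ) → ψ = φ)
    {k : ℕ} (hk : k.Coprime (Nat.card G)) (g : G) : (φ : G → ℂ) (g ^ k) = (φ : G → ℂ) g := by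
  refine StructC.RowsTools.apply_pow_eq S.modular S.rows (mem_others.1 hφ).2 hd
    (fun ψ hψ hdeg => ?_) hk g
  rcases S.triv_or_others hψ with rfl | hψ'
  · exfalso
    haveI := S.simple
    rw [deg_trivChar] at hdeg
    obtain ⟨lam, hlam⟩ := Char.exists_hom_of_degree_one (Char.irr_isCharacter φ.2)
      (show (φ : G → ℂ) 1 = 1 by rw [← BlockB.irr_degree_cast, ← hdeg, Nat.cast_one])
    refine (mem_others.1 hφ).1 (Subtype.ext (funext fun a => ?_))
    rw [hlam]
    simp only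
    rw [Char.linear_eq_one_of_mem_commutator lam (S.perfect ▸ Subgroup.mem_top a), Units.val_one]
    rfl
  · exact huniq ψ hψ' hdeg

open scoped Classical in
/-- With distinct degrees all the rows are rational. -/
theorem fixed_all (hnd : (l.map Prod.fst).Nodup) (hd : d ∉ l.map Prod.fst) {g : G}
    (hg : ¬ 11 ∣ orderOf g) {k : ℕ} (hk : k.Coprime (Nat.card G)) {φ : IrrCharacter G}
    (hφ : φ ∈ CF ∪ YF) : (φ : G → ℂ) (g ^ k) = (φ : G → ℂ) g := by
  classical
  have h0 : ∀ φ ∈ others CF, (φ : G → ℂ) (g ^ k) = (φ : G → ℂ) g := fun φ hφ =>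
    S.fixed_of_unique hφ (fun e => hd (e ▸ S.deg_mem hφ)) (fun ψ hψ h => S.eq_of_deg hnd hφ hψ h)
      hk g
  rcases Finset.mem_union.1 hφ with h | h
  · rcases S.triv_or_others h with rfl | h'
    · simp
    · exact h0 φ h'
  · exact S.fixed_YF hg hk h0 h

open scoped Classical in
/-- The vector at a rational element of prime order, with the test on pairs. -/
theorem exists_pairVec (hC : Nat.card (Subgroup.centralizer ((P : Subgroup G) : Set G)) = 11)
    {g : G} {p b : ℕ} [hp : Fact p.Prime] (hp11 : p ≠ 11) (hg : orderOf g = p)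
    (hb : Nat.card (Subgroup.centralizer ({g} : Set G)) ≤ b * b)
    (h : ∀ φ ∈ CF ∪ YF, ∀ k : ℕ, k.Coprime (Nat.card G) →
      (φ : G → ℂ) (g ^ k) = (φ : G → ℂ) g) :
    ∃ (q : IrrCharacter G → ℤ), ∃ r ∈ pairVecs 95040 2
        (Nat.card (Subgroup.centralizer ({g} : Set G))) (atPrime p b) l d σ,
      (∀ φ ∈ others CF, (φ : G → ℂ) g = q φ) ∧
      (others CF).val.map (fun φ => (rowKey ε φ, q φ)) = ↑r ∧
      ∀ η ∈ YF, (η : G → ℂ) g = excVal σ r := by
  have hgr : ¬ 11 ∣ orderOf g := by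
    rw [hg]
    exact fun h => hp11 ((Nat.prime_dvd_prime_iff_eq (by norm_num) hp.out).1 h).symm
  obtain ⟨q, r, hr, hq, hmap, hY⟩ := S.exists_vec hgr (atPrime p b) fun φ hφ _ => by
    obtain ⟨v, hv, hd, hle⟩ := exists_value_prime φ hg (h φ hφ)
    exact ⟨v, mem_atPrime hd (hle.trans (by exact_mod_cast hb)), hv⟩
  obtain ⟨x, hx, hx1⟩ := S.exists_x
  obtain ⟨m, -, hE⟩ := S.selfE_eq hC (g := g) hx hx1 hq hmap hY
  refine ⟨q, r, List.mem_filter.2 ⟨hr, ?_⟩, hq, hmap, hY⟩
  rw [hE, Bool.and_eq_true, decide_eq_true_eq, decide_eq_true_eq]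
  exact ⟨by positivity, Int.mul_emod_right _ _⟩

end Setup

/-- An element of order five of odd centraliser is conjugate to its inverse, and to all its
nontrivial powers if the automiser has order four. -/
theorem isConj_pow_five [Fact (Nat.Prime 5)] (Q : Sylow 5 G) (hQ : Nat.card Q = 5) {y : G}
    (hy : y ∈ (Q : Subgroup G)) (hy1 : y ≠ 1) {e k : ℕ}
    (he : (Subgroup.centralizer ((Q : Subgroup G) : Set G)).relIndex
      (Subgroup.normalizer ((Q : Subgroup G) : Set G)) = e)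
    (hek : (e = 4 ∧ ¬ 5 ∣ k) ∨ (e = 2 ∧ k % 5 = 4)) : IsConj y (y ^ k) := by
  classical
  have : IsCyclic (Q : Subgroup G) := isCyclic_of_prime_card hQ
  set φ := Subgroup.normalizerMonoidHom (Q : Subgroup G) with hφ
  have hrange : Nat.card φ.range = e := by
    rw [← Subgroup.index_ker, hφ, Subgroup.normalizerMonoidHom_ker]
    exact he
  have hy' : (⟨y, hy⟩ : (Q : Subgroup G)) ≠ 1 := fun h => hy1 (congrArg Subtype.val h)
  have hgen : Subgroup.zpowers (⟨y, hy⟩ : (Q : Subgroup G)) = ⊤ :=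
    zpowers_eq_top_of_prime_card hQ hy'
  have hyo : orderOf (⟨y, hy⟩ : (Q : Subgroup G)) = 5 := by
    rw [← Nat.card_zpowers, hgen, Subgroup.card_top]; exact hQ
  have hk5 : ¬ 5 ∣ k := by rcases hek with ⟨-, h⟩ | ⟨-, h⟩ <;> omega
  have hmem : ∃ f ∈ φ.range, f ⟨y, hy⟩ = (⟨y, hy⟩ : (Q : Subgroup G)) ^ k := by
    rcases hek with ⟨rfl, -⟩ | ⟨rfl, hk4⟩
    · have hcop : (Nat.card (Q : Subgroup G)).Coprime k := by
        rw [show Nat.card (Q : Subgroup G) = 5 from hQ]
        exact (Fact.out : Nat.Prime 5).coprime_iff_not_dvd.2 hk5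
      have htop : φ.range = ⊤ := by
        refine Subgroup.eq_top_of_card_eq _ (hrange.trans ?_)
        rw [IsCyclic.card_mulAut, show Nat.card (Q : Subgroup G) = 5 from hQ,
          Nat.totient_prime Fact.out]
      have hcomm : ∀ a b : (Q : Subgroup G), Commute a b := fun a b =>
        (IsCyclic.commGroup (α := (Q : Subgroup G))).mul_comm a b
      let f : MulAut (Q : Subgroup G) := { powCoprime hcop with
        map_mul' := fun a b => (hcomm a b).mul_pow k }
      exact ⟨f, htop ▸ Subgroup.mem_top f, rfl⟩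
    · obtain ⟨f, hf, hf1⟩ : ∃ f ∈ φ.range, f ≠ 1 := by
        refine Subgroup.bot_or_exists_ne_one _ |>.resolve_left fun h => ?_
        rw [h, Subgroup.card_bot] at hrange
        norm_num at hrange
      have hff : f ^ 2 = 1 := by
        have h := pow_card_eq_one' (x := (⟨f, hf⟩ : φ.range))
        rw [hrange] at h
        exact congrArg Subtype.val h
      obtain ⟨j, hj⟩ : ∃ j : ℕ, (⟨y, hy⟩ : (Q : Subgroup G)) ^ j = f ⟨y, hy⟩ := by
        have h : f ⟨y, hy⟩ ∈ Subgroup.zpowers (⟨y, hy⟩ : (Q : Subgroup G)) :=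
          hgen ▸ Subgroup.mem_top _
        exact (mem_powers_iff_mem_zpowers).2 h
      refine ⟨f, hf, hj ▸ ?_⟩
      rw [pow_eq_pow_iff_modEq, hyo]
      have h2 : (⟨y, hy⟩ : (Q : Subgroup G)) ^ (j * j) = (⟨y, hy⟩ : (Q : Subgroup G)) ^ 1 := by
        rw [pow_mul, hj, ← map_pow, hj, pow_one, ← MulAut.mul_apply, ← sq, hff, MulAut.one_apply]
      rw [pow_eq_pow_iff_modEq, hyo] at h2
      have hj1 : j % 5 ≠ 1 := fun h => by
        refine hf1 (MulEquiv.ext fun a => ?_)
        obtain ⟨i, rfl⟩ := Subgroup.mem_zpowers_iff.1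
          (hgen ▸ Subgroup.mem_top a : a ∈ Subgroup.zpowers (⟨y, hy⟩ : (Q : Subgroup G)))
        rw [map_zpow, MulAut.one_apply, ← hj, ← pow_mod_orderOf, hyo, h, pow_one]
      unfold Nat.ModEq at h2 ⊢
      rw [Nat.mul_mod] at h2
      have := Nat.mod_lt j (show 0 < 5 by norm_num)
      interval_cases hh : j % 5 <;> omega
  obtain ⟨f, ⟨g, rfl⟩, hg⟩ := hmem
  exact isConj_iff.2 ⟨g, congrArg Subtype.val hg⟩

end CfsgLib.Recog.OrderM12
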