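import Cfsg.Agent.Lib.Recog.OrderM12.Config

/-!
# Simple groups of order 95040: the degrees in the principal 11-block and the involutions
-/

set_option autoImplicit false
set_option linter.style.haveILetI false
set_option synthInstance.maxSize 2000
set_option maxHeartbeats 1000000

namespace CfsgLib.Recog.OrderM12

open Cfsg CfsgLib CfsgLib.Block CfsgLib.ClassK CfsgLib.ClassK.RowSieve CfsgLib.ClassK.RowInvolution
open scoped ComplexConjugate

universe u

/-- The degrees of the principal 11-block of M12. -/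
def mainL : List (ℕ × Bool) := [(45, true), (144, true), (54, false), (120, false)]

/-- The degree lists that pass the test at a 2-central involution, besides that of M12. -/
def badConfs : List (List (ℕ × Bool) × ℕ × ℤ) :=
  [([(144, true), (10, false), (10, false), (120, false)], 5, 1),
   ([(45, true), (32, false), (54, false), (120, false)], 160, -1),
   ([(45, true), (10, false), (10, false), (10, false)], 16, 1),
   ([(45, true), (144, true), (10, false), (120, false)], 60, 1),
   ([(45, true), (45, true), (32, false), (54, false)], 5, 1),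
   ([(45, true), (45, true), (10, false), (54, false)], 27, 1),
   ([(12, true), (144, true), (32, false), (120, false)], 5, 1),
   ([(12, true), (45, true), (10, false), (120, false)], 72, -1),
   ([(12, true), (12, true), (10, false), (10, false)], 5, 1),
   ([(12, true), (12, true), (45, true), (10, false)], 60, 1)]

/-- The divisors of 8640. -/
def divs : List ℕ := (List.range 8641).filter fun c => decide (8640 % c = 0)

theorem mem_divs {c : ℕ} (h : c ∣ 8640) : c ∈ divs :=
  List.mem_filter.2 ⟨List.mem_range.2 (Nat.lt_succ_of_le (Nat.le_of_dvd (by norm_num) h)),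
    decide_eq_true (Nat.mod_eq_zero_of_dvd h)⟩

theorem check_central :
    ((RowInvolution.sols 95040 (cands 95040 (1728 * 5) 11 309 false fun _ => true) 4 0).all fun l =>
      (excData 95040 (1728 * 5) 11 309 5 2 l).all fun ds =>
        decide ((l, ds.1, ds.2) = (mainL, 16, (1 : ℤ))) || decide ((l, ds.1, ds.2) ∈ badConfs) ||
          (divs.filter fun c => decide (c % 64 = 0)).all fun c =>
            (invVecs 95040 2 c l ds.1 ds.2).isEmpty) = true := by
  decide +kernel

theorem check_bad_five :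
    (badConfs.all fun b => (divs.filter fun c => decide (c % 10 = 0)).all fun c =>
      (invVecs 95040 2 c b.1 b.2.1 b.2.2).isEmpty) = true := by
  decide +kernel

variable {G : Type u} [Group G] [Finite G]

/-- The rows together with the normaliser of the Sylow subgroup. -/
structure Conf [Fact (Nat.Prime 11)] (P : Sylow 11 G) (l : List (ℕ × Bool)) (d : ℕ) (σ : ℤ)
    (M : Ideal AlgInt) (CF YF : Finset (IrrCharacter G)) (ε : IrrCharacter G → ℤ) : Prop where
  setup : Setup P l d σ M CF YF ε
  num : Nat.card (Sylow 11 G) = 1728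
  cent : Nat.card (Subgroup.centralizer ((P : Subgroup G) : Set G)) = 11
  mem : l ∈ RowInvolution.sols 95040 (cands 95040 (1728 * 5) 11 309 false fun _ => true) 4 0
  exc : (d, σ) ∈ excData 95040 (1728 * 5) 11 309 5 2 l

theorem exists_conf [Fact (Nat.Prime 11)] [IsSimpleGroup G] (h : Nat.card G = 95040)
    (P : Sylow 11 G) : ∃ (l : List (ℕ × Bool)) (d : ℕ) (σ : ℤ) (M : Ideal AlgInt)
      (CF YF : Finset (IrrCharacter G)) (ε : IrrCharacter G → ℤ), Conf P l d σ M CF YF ε := by
  obtain ⟨hnp, he, hC⟩ := config h P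
  obtain ⟨l, d, σ, M, CF, YF, ε, hl, hd, S⟩ := exists_setup h P hnp he
  exact ⟨l, d, σ, M, CF, YF, ε, S, hnp, hC, hl, hd⟩

/-- A centraliser is a subgroup of index at least eleven. -/
theorem card_centralizer_le [IsSimpleGroup G] (h : Nat.card G = 95040) {g : G} (hg : g ≠ 1) :
    11 ≤ (Subgroup.centralizer ({g} : Set G)).index := by
  by_contra hlt
  have hne : Subgroup.centralizer ({g} : Set G) ≠ ⊤ := fun htop =>
    not_mem_center h hg (Subgroup.mem_center_iff.2 fun a =>
      Subgroup.mem_centralizer_singleton_iff.1 (htop.ge (Subgroup.mem_top a)))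
  have h2 := CfsgLib.Transfer.two_mul_card_dvd_factorial (not_comm h) hne
  rw [h] at h2
  have h11 : 11 ∣ (Subgroup.centralizer ({g} : Set G)).index.factorial :=
    (show 11 ∣ 2 * 95040 by norm_num).trans h2
  rw [(by norm_num : Nat.Prime 11).dvd_factorial] at h11
  omega

namespace Conf

variable [Fact (Nat.Prime 11)] {P : Sylow 11 G} {l : List (ℕ × Bool)} {d : ℕ} {σ : ℤ}
  {M : Ideal AlgInt} {CF YF : Finset (IrrCharacter G)} {ε : IrrCharacter G → ℤ}
  (C : Conf P l d σ M CF YF ε)
include C

theorem card_G : Nat.card G = 95040 := C.setup.card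

theorem ne_one_of_order {g : G} {n : ℕ} (hg : orderOf g = n) (hn : n ≠ 1) : g ≠ 1 :=
  fun e => hn (by rw [← hg, e, orderOf_one])

/-- An element commuting with an element of order eleven is a power of it. -/
theorem not_eleven_dvd {g : G} (hg : g ≠ 1) (hgr : ¬ 11 ∣ orderOf g) :
    ¬ 11 ∣ Nat.card (Subgroup.centralizer ({g} : Set G)) := by
  intro hd
  obtain ⟨⟨x, hxC⟩, hxo⟩ :=
    exists_prime_orderOf_dvd_card' (G := Subgroup.centralizer ({g} : Set G)) 11 hd
  rw [Subgroup.orderOf_mk] at hxo
  have hPz : Nat.card (Subgroup.zpowers x) = 11 := by rw [Nat.card_zpowers, hxo]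
  obtain ⟨Q, hQ⟩ := (IsPGroup.of_card (p := 11) (n := 1) (by rw [hPz, pow_one])).exists_le_sylow
  have hQc : Nat.card Q = 11 :=
    CfsgLib.Transfer.card_sylow_eq_prime Q (by rw [C.card_G]; norm_num) (by rw [C.card_G]; norm_num)
  haveI := C.setup.simple
  have hCQ := (config C.card_G Q).2.2
  have hxQ : x ∈ (Q : Subgroup G) := hQ (Subgroup.mem_zpowers x)
  have hgQ : g ∈ Subgroup.centralizer ((Q : Subgroup G) : Set G) := by
    have hx1 : x ≠ 1 := C.ne_one_of_order hxo (by norm_num)
    rw [← BrauerReynolds.centralizer_mem_eq Q hQc hxQ hx1]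
    exact Subgroup.mem_centralizer_singleton_iff.2
      (Subgroup.mem_centralizer_singleton_iff.1 hxC).symm
  have hd' := Subgroup.orderOf_dvd_natCard _ hgQ
  rw [hCQ] at hd'
  exact hgr ((((Nat.dvd_prime (by norm_num)).1 hd').resolve_left
    fun e => hg (orderOf_eq_one_iff.1 e)).symm ▸ dvd_rfl)

theorem cent_dvd {g : G} (hg : g ≠ 1) (hgr : ¬ 11 ∣ orderOf g) :
    Nat.card (Subgroup.centralizer ({g} : Set G)) ∣ 8640 := by
  have h1 := C.not_eleven_dvd hg hgr
  have h2 := Subgroup.card_subgroup_dvd_card (Subgroup.centralizer ({g} : Set G))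
  rw [C.card_G, show 95040 = 11 * 8640 by norm_num] at h2
  exact (Nat.Coprime.dvd_of_dvd_mul_left
    ((Nat.Prime.coprime_iff_not_dvd (by norm_num)).2 h1).symm h2)

theorem invol_regular {k : G} (hk : orderOf k = 2) : k ≠ 1 ∧ ¬ 11 ∣ orderOf k :=
  ⟨C.ne_one_of_order hk (by norm_num), by rw [hk]; norm_num⟩

theorem two_dvd_cent {k : G} (hk : orderOf k = 2) :
    2 ∣ Nat.card (Subgroup.centralizer ({k} : Set G)) := by
  have h := Subgroup.orderOf_dvd_natCard (Subgroup.centralizer ({k} : Set G))
    (Subgroup.mem_centralizer_singleton_iff.2 (rfl : k * k = k * k))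
  rwa [hk] at h

/-- No involution inverts an element of order eleven. -/
theorem not_inverted {x u : G} (hx : x ∈ (P : Subgroup G)) (hx1 : x ≠ 1) (hu : orderOf u = 2) :
    u * x * u⁻¹ ≠ x⁻¹ := by
  intro huv
  haveI := C.setup.simple
  have hzx : Subgroup.zpowers x = (P : Subgroup G) :=
    Subgroup.eq_of_le_of_card_ge (Subgroup.zpowers_le.2 hx) (by
      rw [Nat.card_zpowers, C.setup.orderOf_x hx hx1, C.setup.card_P])
  have hmem : u ∈ Subgroup.normalizer ((P : Subgroup G) : Set G) := by
    have hstep : ∀ a ∈ Subgroup.zpowers x, u * a * u⁻¹ ∈ Subgroup.zpowers x := fun a ha => by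
      obtain ⟨j, rfl⟩ := Subgroup.mem_zpowers_iff.1 ha
      rw [← conj_zpow, huv]
      exact Subgroup.zpow_mem _ (Subgroup.inv_mem _ (Subgroup.mem_zpowers x)) j
    rw [← hzx, Subgroup.mem_normalizer_iff]
    refine fun a => ⟨hstep a, fun ha => ?_⟩
    have huu : u * u = 1 := by rw [← sq, ← hu, pow_orderOf_eq_one]
    have h' := hstep _ ha
    rw [show u * (u * a * u⁻¹) * u⁻¹ = u * u * a * (u * u)⁻¹ by group, huu] at h'
    simpa using h'
  have hd := Subgroup.orderOf_dvd_natCard _ hmem
  have hN : Nat.card (Subgroup.normalizer ((P : Subgroup G) : Set G)) = 55 := by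
    have h1 := Subgroup.index_mul_card (Subgroup.normalizer ((P : Subgroup G) : Set G))
    have h2 : 1728 = (Subgroup.normalizer ((P : Subgroup G) : Set G)).index :=
      C.num.symm.trans (Sylow.card_eq_index_normalizer P)
    rw [← h2, C.card_G] at h1
    omega
  rw [hN, hu] at hd
  norm_num at hd

theorem no_pair {x k : G} (hx : x ∈ (P : Subgroup G)) (hx1 : x ≠ 1) (hk : orderOf k = 2) (s : G) :
    ¬ IsConj (k * (s * k * s⁻¹)) x := by
  intro h
  obtain ⟨g, hg⟩ := isConj_iff.1 h
  have hinv : k⁻¹ = k := inv_eq_of_mul_eq_one_right (by rw [← sq, ← hk, pow_orderOf_eq_one])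
  have ho : orderOf (g * k * g⁻¹) = 2 := by
    rw [← hk]
    exact (orderOf_injective (MulAut.conj g).toMonoidHom (MulAut.conj g).injective k)
  refine C.not_inverted hx hx1 ho ?_
  rw [← hg]
  calc g * k * g⁻¹ * (g * (k * (s * k * s⁻¹)) * g⁻¹) * (g * k * g⁻¹)⁻¹
      = g * (k * k * (s * k * s⁻¹) * k⁻¹) * g⁻¹ := by group
    _ = (g * (k * (s * k * s⁻¹)) * g⁻¹)⁻¹ := by
      rw [show k * k = 1 by rw [← sq, ← hk, pow_orderOf_eq_one]]
      conv_rhs => rw [show (g * (k * (s * k * s⁻¹)) * g⁻¹)⁻¹ = g * (s * k⁻¹ * s⁻¹ * k⁻¹) * g⁻¹ by group,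
        hinv]
      rw [hinv, one_mul]

/-- The vector of values at an involution. -/
theorem exists_invVec {k : G} (hk : orderOf k = 2) :
    ∃ (q : IrrCharacter G → ℤ), ∃ r ∈ invVecs 95040 2
        (Nat.card (Subgroup.centralizer ({k} : Set G))) l d σ,
      (∀ φ ∈ others CF, (φ : G → ℂ) k = q φ) ∧
      (others CF).val.map (fun φ => (rowKey ε φ, q φ)) = ↑r ∧
      ∀ η ∈ YF, (η : G → ℂ) k = excVal σ r := by
  haveI := C.setup.simple
  obtain ⟨q, r, hr, hq, hmap, hY⟩ := C.setup.exists_vec (C.invol_regular hk).2 qRange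
    fun φ _ hne => invol_value C.card_G φ hne hk
  obtain ⟨x, hx, hx1⟩ := C.setup.exists_x
  obtain ⟨m, hm, hE⟩ := C.setup.selfE_eq C.cent (g := k) hx hx1 hq hmap hY
  refine ⟨q, r, List.mem_filter.2 ⟨hr, decide_eq_true ?_⟩, hq, hmap, hY⟩
  rw [hE, hm (C.no_pair hx hx1 hk)]
  simp

/-- There is an involution centralising a Sylow 2-subgroup. -/
theorem exists_central : ∃ t : G, orderOf t = 2 ∧
    64 ∣ Nat.card (Subgroup.centralizer ({t} : Set G)) := by
  haveI : Fact (Nat.Prime 2) := ⟨Nat.prime_two⟩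
  obtain ⟨T⟩ := (inferInstance : Nonempty (Sylow 2 G))
  have hT : Nat.card T = 64 := by
    rw [Sylow.card_eq_multiplicity, C.card_G,
      show (95040 : ℕ) = 2 ^ 6 * 1485 by norm_num,
      Nat.factorization_mul (by norm_num) (by norm_num), Finsupp.add_apply,
      Nat.factorization_eq_zero_of_not_dvd (show ¬ 2 ∣ 1485 by norm_num), add_zero,
      Nat.factorization_pow_self Nat.prime_two]
    rfl
  have : Nontrivial (T : Subgroup G) := Finite.one_lt_card_iff_nontrivial.1 (by
    rw [show Nat.card (T : Subgroup G) = 64 from hT]; norm_num)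
  have hnt := T.isPGroup'.center_nontrivial
  have h2 : 2 ∣ Nat.card (Subgroup.center (T : Subgroup G)) := by
    obtain ⟨n, hn⟩ := IsPGroup.iff_card.1 (T.isPGroup'.to_subgroup (Subgroup.center (T : Subgroup G)))
    have h1 := Finite.one_lt_card_iff_nontrivial.2 hnt
    rw [hn] at h1 ⊢
    exact dvd_pow_self 2 fun e => by rw [e, pow_zero] at h1; omega
  obtain ⟨z, hz⟩ := exists_prime_orderOf_dvd_card' (G := Subgroup.center (T : Subgroup G)) 2 h2
  refine ⟨((z : (T : Subgroup G)) : G), by rwa [Subgroup.orderOf_coe, Subgroup.orderOf_coe], ?_⟩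
  rw [← hT]
  refine Subgroup.card_dvd_of_le fun a ha => Subgroup.mem_centralizer_singleton_iff.2 ?_
  exact congrArg Subtype.val (Subgroup.mem_center_iff.1 z.2 ⟨a, ha⟩)

/-- The degrees. -/
theorem cases : (l, d, σ) = (mainL, 16, (1 : ℤ)) ∨ (l, d, σ) ∈ badConfs := by
  obtain ⟨t, ht, h64⟩ := C.exists_central
  obtain ⟨q, r, hr, -⟩ := C.exists_invVec ht
  have h := List.all_eq_true.1 (List.all_eq_true.1 check_central l C.mem) _ C.exc
  simp only [Bool.or_eq_true, decide_eq_true_eq] at h
  refine h.resolve_right fun h' => ?_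
  have hc := List.all_eq_true.1 h' _ (List.mem_filter.2
    ⟨mem_divs (C.cent_dvd (C.invol_regular ht).1 (C.invol_regular ht).2),
      decide_eq_true (Nat.mod_eq_zero_of_dvd h64)⟩)
  rw [List.isEmpty_iff.1 hc] at hr
  exact List.not_mem_nil hr

/-- In the other cases the centraliser of an element of order five is odd. -/
theorem bad_five (hbad : (l, d, σ) ∈ badConfs) {y : G} (hy : orderOf y = 5) :
    ¬ 2 ∣ Nat.card (Subgroup.centralizer ({y} : Set G)) := by
  intro h2
  haveI : Fact (Nat.Prime 2) := ⟨Nat.prime_two⟩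
  obtain ⟨⟨k, hkC⟩, hk⟩ :=
    exists_prime_orderOf_dvd_card' (G := Subgroup.centralizer ({y} : Set G)) 2 h2
  rw [Subgroup.orderOf_mk] at hk
  have hyk : y ∈ Subgroup.centralizer ({k} : Set G) := Subgroup.mem_centralizer_singleton_iff.2
    (Subgroup.mem_centralizer_singleton_iff.1 hkC).symm
  have h5 := Subgroup.orderOf_dvd_natCard _ hyk
  rw [hy] at h5
  have h10 : 10 ∣ Nat.card (Subgroup.centralizer ({k} : Set G)) :=
    Nat.Coprime.mul_dvd_of_dvd_of_dvd (by norm_num : Nat.Coprime 2 5) (C.two_dvd_cent hk) h5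
  obtain ⟨q, r, hr, -⟩ := C.exists_invVec hk
  have hc := List.all_eq_true.1 (List.all_eq_true.1 check_bad_five _ hbad) _ (List.mem_filter.2
    ⟨mem_divs (C.cent_dvd (C.invol_regular hk).1 (C.invol_regular hk).2),
      decide_eq_true (Nat.mod_eq_zero_of_dvd h10)⟩)
  rw [List.isEmpty_iff.1 hc] at hr
  exact List.not_mem_nil hr

end Conf

end CfsgLib.Recog.OrderM12
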