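import Mathlib

/-!
# Groups of order 32 with an automorphism of order three fixing two elements

With the character conditions at a 2-central involution of M12 such a group has centre of order two,
all commutators and squares in the centre.
-/

set_option autoImplicit false
set_option linter.style.haveILetI false

namespace CfsgLib.Recog.OrderM12

variable {Q : Type*} [Group Q]

/-- A coset of an elementary central element fixed by an automorphism of order three has a fixed
point. -/
theorem shift_fixed (φ : Q ≃* Q) (h3 : ∀ x, φ (φ (φ x)) = x) {x z : Q} (hx : φ x = x * z)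
    (hz : z * z = 1) (hc : ∀ y, z * y = y * z) : φ (x * φ z) = x * φ z := by
  have h : z * φ z * φ (φ z) = 1 := by
    have e := h3 x
    rw [hx, map_mul, map_mul, hx] at e
    simp only [map_mul, hx] at e
    refine mul_left_cancel (a := x) ?_
    rw [mul_one]
    simpa [mul_assoc] using e
  have hz' : φ z * φ z = 1 := by rw [← map_mul, hz, map_one]
  have h2 : φ (φ z) = φ z * z := by
    calc φ (φ z) = φ z * z * (z * φ z * φ (φ z)) := by
          rw [show φ z * z * (z * φ z * φ (φ z)) = φ z * (z * z) * φ z * φ (φ z) by group, hz,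
            mul_one, hz', one_mul]
      _ = φ z * z := by rw [h, mul_one]
  rw [map_mul, hx, h2, mul_assoc, ← mul_assoc z, hc, mul_assoc, hz, mul_one]

/-- What is used of the automorphism. -/
structure Fix2 (φ : Q ≃* Q) (s : Q) : Prop where
  cube : ∀ x, φ (φ (φ x)) = x
  fixed : ∀ x, φ x = x → x = 1 ∨ x = s
  fix_s : φ s = s
  s1 : s ≠ 1
  ss : s * s = 1
  s_central : ∀ y, s * y = y * s
  card : Nat.card Q = 32

namespace Fix2

variable {φ : Q ≃* Q} {s : Q} (F : Fix2 φ s)
include F

theorem pow_card (x : Q) : x ^ 32 = 1 := F.card ▸ pow_card_eq_one'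

theorem orbit_ne {x : Q} (h1 : x ≠ 1) (hs : x ≠ s) :
    φ x ≠ x ∧ φ (φ x) ≠ x ∧ φ (φ x) ≠ φ x := by
  have h : φ x ≠ x := fun e => (F.fixed x e).elim h1 hs
  refine ⟨h, fun e => h ?_, fun e => h (φ.injective e)⟩
  exact (congrArg φ e).symm.trans (F.cube x)

/-- A nontrivial power of two gives an involution. -/
theorem exists_invol_pow {x : Q} (hx : x ≠ 1) : ∃ j : ℕ, x ^ j ≠ 1 ∧ x ^ j * x ^ j = 1 := by
  have hd := orderOf_dvd_of_pow_eq_one (F.pow_card x)
  obtain ⟨i, -, hi⟩ := (Nat.dvd_prime_pow Nat.prime_two).1 (show orderOf x ∣ 2 ^ 5 from hd)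
  have h1 : i ≠ 0 := fun e => hx (orderOf_eq_one_iff.1 (by rw [hi, e, pow_zero]))
  refine ⟨2 ^ (i - 1), fun e => ?_, ?_⟩
  · have := orderOf_dvd_of_pow_eq_one e
    rw [hi, Nat.pow_dvd_pow_iff_le_right (by norm_num)] at this
    omega
  · rw [← pow_add, ← two_mul, ← pow_succ', show i - 1 + 1 = i by omega, ← hi, pow_orderOf_eq_one]

open scoped Classical in
/-- Under the character conditions the centre is `{1, s}`. -/
theorem center_small [Finite Q] [Fintype Q] (V₄₅ V₁₆ : Q → ℤ) (T : Q → Prop)
    (h45φ : ∀ x, V₄₅ (φ x) = V₄₅ x) (h45one : V₄₅ 1 = 45) (h16one : V₁₆ 1 = 16)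
    (h45 : ∀ H : Subgroup Q, 0 ≤ ∑ x ∈ Finset.univ.filter (· ∈ H), V₄₅ x)
    (h16 : (32 : ℤ) ∣ ∑ x, V₁₆ x)
    (hinv : ∀ x, x ≠ 1 → x * x = 1 → (∀ y, x * y = y * x) →
      (V₄₅ x = -3 ∧ T x) ∨ V₄₅ x = -15)
    (hs : V₄₅ s = -3 ∧ T s) (hT : ∀ x, T x → V₁₆ x = 0)
    (hzero : ∀ (x : Q) (j : ℕ), x ≠ 1 → T (x ^ j) →
      16 ∣ Nat.card (Subgroup.centralizer ({x} : Set Q)) → V₁₆ x = 0) :
    ∀ z, (∀ y, z * y = y * z) → z = 1 ∨ z = s := by
  by_contra hno
  push Not at hno
  obtain ⟨z, hz, hz1, hzs⟩ := hno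
  -- the central elements of exponent two
  let Ω : Subgroup Q :=
    { carrier := {x | (∀ y, x * y = y * x) ∧ x * x = 1}
      one_mem' := ⟨fun y => by simp, one_mul 1⟩
      mul_mem' := fun {a b} ha hb => ⟨fun y => by rw [mul_assoc, hb.1, ← mul_assoc, ha.1, mul_assoc],
        by rw [show a * b * (a * b) = a * (b * a) * b by group, hb.1, ← mul_assoc, ha.2, one_mul, hb.2]⟩
      inv_mem' := fun {a} ha => by rw [show a⁻¹ = a from inv_eq_of_mul_eq_one_right ha.2]; exact ha }
  have hΩ : ∀ x, x ∈ Ω ↔ (∀ y, x * y = y * x) ∧ x * x = 1 := fun _ => Iff.rfl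
  have hcenφ : ∀ x, (∀ y, x * y = y * x) → ∀ y, φ x * y = y * φ x := fun x h y => by
    obtain ⟨w, rfl⟩ := φ.surjective y
    rw [← map_mul, ← map_mul, h]
  have hΩφ : ∀ x ∈ Ω, φ x ∈ Ω := fun x hx =>
    ⟨hcenφ x hx.1, by rw [← map_mul, hx.2, map_one]⟩
  have hsΩ : s ∈ Ω := ⟨F.s_central, F.ss⟩
  obtain ⟨a, haΩ, ha1, has⟩ : ∃ a ∈ Ω, a ≠ 1 ∧ a ≠ s := by
    obtain ⟨n, hn, hn'⟩ : ∃ n : ℕ, (z ^ n ≠ 1 ∧ z ^ n ≠ s) ∧
        (z ^ (2 * n) = 1 ∨ z ^ (2 * n) = s) := by
      by_contra hall
      push Not at hall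
      have hk : ∀ k, z ^ (2 ^ k) ≠ 1 ∧ z ^ (2 ^ k) ≠ s := fun k => by
        induction k with
        | zero => rw [pow_zero, pow_one]; exact ⟨hz1, hzs⟩
        | succ k ih => rw [pow_succ']; exact hall _ ih
      exact (hk 5).1 (F.pow_card z)
    set w := z ^ n with hw
    have hwc : ∀ y, w * y = y * w := fun y => ((show Commute z y from hz y).pow_left n).eq
    have hw2 : w * w = 1 ∨ w * w = s := by rw [hw, ← pow_add, ← two_mul]; exact hn'
    rcases hw2 with h | h
    · exact ⟨w, ⟨hwc, h⟩, hn⟩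
    · refine ⟨w * (φ w)⁻¹, ⟨fun y => ?_, ?_⟩, ?_, ?_⟩
      · exact ((show Commute w y from hwc y).mul_left
          ((show Commute (φ w) y from hcenφ w hwc y).inv_left)).eq
      · have hsi : s⁻¹ = s := inv_eq_of_mul_eq_one_right F.ss
        rw [show w * (φ w)⁻¹ * (w * (φ w)⁻¹) = w * ((φ w)⁻¹ * w) * (φ w)⁻¹ by group,
          show (φ w)⁻¹ * w = w * (φ w)⁻¹ from (hwc _).symm, ← mul_assoc, h, mul_assoc,
          ← mul_inv_rev, ← map_mul, h, F.fix_s, hsi, F.ss]
      · intro e
        exact (F.orbit_ne hn.1 hn.2).1 (mul_inv_eq_one.1 e).symm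
      · intro e
        have e1 : w = s * φ w := by rw [← e, inv_mul_cancel_right]
        have e2 : φ w = s * w := by
          conv_rhs => rw [e1, ← mul_assoc, F.ss, one_mul]
        have e3 := F.cube w
        rw [e2, map_mul, F.fix_s, e2, ← mul_assoc, F.ss, one_mul, e2] at e3
        exact F.s1 (mul_eq_right.1 e3)
  obtain ⟨o1, o2, o3⟩ := F.orbit_ne ha1 has
  -- all of them are of the first type
  have hΩT : ∀ x ∈ Ω, x ≠ 1 → V₄₅ x = -3 ∧ T x := by
    intro x hx hx1
    refine (hinv x hx1 hx.2 hx.1).resolve_right fun hW => ?_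
    have hxs : x ≠ s := fun e => by rw [e, hs.1] at hW; norm_num at hW
    set S := Finset.univ.filter (· ∈ Ω) with hS
    have hsum := h45 Ω
    rw [← hS] at hsum
    have h1S : (1 : Q) ∈ S := Finset.mem_filter.2 ⟨Finset.mem_univ _, Ω.one_mem⟩
    rw [← Finset.add_sum_erase _ _ h1S, h45one] at hsum
    have hle : ∀ y ∈ S.erase 1, V₄₅ y ≤ -3 := fun y hy => by
      obtain ⟨hy1, hyS⟩ := Finset.mem_erase.1 hy
      have hyΩ := (Finset.mem_filter.1 hyS).2
      rcases hinv y hy1 hyΩ.2 hyΩ.1 with h | h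
      · rw [h.1]
      · omega
    have hmemS : ∀ y ∈ Ω, y ≠ 1 → y ∈ S.erase 1 := fun y hy hy1 =>
      Finset.mem_erase.2 ⟨hy1, Finset.mem_filter.2 ⟨Finset.mem_univ _, hy⟩⟩
    have hcard : 7 ≤ (S.erase 1).card := by
      have hSc : S.card = Nat.card Ω := by
        rw [Nat.card_eq_fintype_card, Fintype.card_subtype]
      have hdvd : Nat.card Ω ∣ 2 ^ 5 := (show Nat.card Q = 2 ^ 5 from F.card) ▸ Subgroup.card_subgroup_dvd_card Ω
      obtain ⟨i, -, hi⟩ := (Nat.dvd_prime_pow Nat.prime_two).1 hdvd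
      have h5 : 5 ≤ S.card := by
        have hsub : ({1, s, a, φ a, φ (φ a)} : Finset Q) ⊆ S := by
          intro y hy
          simp only [Finset.mem_insert, Finset.mem_singleton] at hy
          refine Finset.mem_filter.2 ⟨Finset.mem_univ _, ?_⟩
          rcases hy with rfl | rfl | rfl | rfl | rfl
          exacts [Ω.one_mem, hsΩ, haΩ, hΩφ _ haΩ, hΩφ _ (hΩφ _ haΩ)]
        have h := Finset.card_le_card hsub
        have n1 : ∀ y, φ y = 1 → y = 1 := fun y e => φ.injective (e.trans (map_one φ).symm)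
        have n2 : ∀ y, φ y = s → y = s := fun y e => φ.injective (e.trans F.fix_s.symm)
        rw [Finset.card_insert_of_notMem (by
              simp only [Finset.mem_insert, Finset.mem_singleton, not_or]
              exact ⟨F.s1.symm, ha1.symm, fun e => ha1 (n1 _ e.symm),
                fun e => ha1 (n1 _ (n1 _ e.symm))⟩),
          Finset.card_insert_of_notMem (by
              simp only [Finset.mem_insert, Finset.mem_singleton, not_or]
              exact ⟨has.symm, fun e => has (n2 _ e.symm), fun e => has (n2 _ (n2 _ e.symm))⟩),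
          Finset.card_insert_of_notMem (by
              simp only [Finset.mem_insert, Finset.mem_singleton, not_or]
              exact ⟨o1.symm, o2.symm⟩),
          Finset.card_insert_of_notMem (by
              simp only [Finset.mem_singleton]; exact o3.symm),
          Finset.card_singleton] at h
        omega
      rw [Finset.card_erase_of_mem h1S]
      have : 8 ≤ S.card := by
        rw [hSc, hi] at h5 ⊢
        have h3 : 3 ≤ i := by
          by_contra hlt
          have : (2 : ℕ) ^ i ≤ 2 ^ 2 := Nat.pow_le_pow_right (by norm_num) (by omega)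
          omega
        exact le_trans (by norm_num) (Nat.pow_le_pow_right (by norm_num) h3)
      omega
    obtain ⟨p1, p2, p3⟩ := F.orbit_ne hx1 hxs
    have hT3 : ({x, φ x, φ (φ x)} : Finset Q) ⊆ S.erase 1 := by
      intro y hy
      simp only [Finset.mem_insert, Finset.mem_singleton] at hy
      have n1 : ∀ y, φ y = 1 → y = 1 := fun y e => φ.injective (e.trans (map_one φ).symm)
      rcases hy with rfl | rfl | rfl
      exacts [hmemS _ hx hx1, hmemS _ (hΩφ _ hx) (fun e => hx1 (n1 _ e)),
        hmemS _ (hΩφ _ (hΩφ _ hx)) (fun e => hx1 (n1 _ (n1 _ e)))]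
    rw [← Finset.sum_sdiff hT3] at hsum
    have h1 : ∑ y ∈ ({x, φ x, φ (φ x)} : Finset Q), V₄₅ y = -45 := by
      rw [Finset.sum_insert (by
            simp only [Finset.mem_insert, Finset.mem_singleton, not_or]; exact ⟨p1.symm, p2.symm⟩),
        Finset.sum_pair p3.symm, h45φ, h45φ, h45φ, hW]
      norm_num
    have h2 : ∑ y ∈ S.erase 1 \ ({x, φ x, φ (φ x)} : Finset Q), V₄₅ y ≤
        ∑ y ∈ S.erase 1 \ ({x, φ x, φ (φ x)} : Finset Q), (-3 : ℤ) :=
      Finset.sum_le_sum fun y hy => hle y (Finset.mem_sdiff.1 hy).1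
    rw [Finset.sum_const, nsmul_eq_mul] at h2
    have h3 : 1 ≤ (S.erase 1 \ ({x, φ x, φ (φ x)} : Finset Q)).card := by
      rw [Finset.card_sdiff_of_subset hT3]
      have : ({x, φ x, φ (φ x)} : Finset Q).card ≤ 3 := Finset.card_le_three
      omega
    omega
  have hΩ8 : 8 ≤ Nat.card Ω := by
    obtain ⟨i, -, hi⟩ := (Nat.dvd_prime_pow Nat.prime_two).1
      (show Nat.card Ω ∣ 2 ^ 5 from (show Nat.card Q = 2 ^ 5 from F.card) ▸ Subgroup.card_subgroup_dvd_card Ω)
    have n2 : ∀ y, φ y = s → y = s := fun y e => φ.injective (e.trans F.fix_s.symm)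
    have n1 : ∀ y, φ y = 1 → y = 1 := fun y e => φ.injective (e.trans (map_one φ).symm)
    have h5 : 5 ≤ (Finset.univ.filter (· ∈ Ω)).card := by
      have h := Finset.card_le_card (s := ({1, s, a, φ a, φ (φ a)} : Finset Q))
        (t := Finset.univ.filter (· ∈ Ω)) (by
          intro y hy
          simp only [Finset.mem_insert, Finset.mem_singleton] at hy
          refine Finset.mem_filter.2 ⟨Finset.mem_univ _, ?_⟩
          rcases hy with rfl | rfl | rfl | rfl | rfl
          exacts [Ω.one_mem, hsΩ, haΩ, hΩφ _ haΩ, hΩφ _ (hΩφ _ haΩ)])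
      rw [Finset.card_insert_of_notMem (by
            simp only [Finset.mem_insert, Finset.mem_singleton, not_or]
            exact ⟨F.s1.symm, ha1.symm, fun e => ha1 (n1 _ e.symm),
              fun e => ha1 (n1 _ (n1 _ e.symm))⟩),
        Finset.card_insert_of_notMem (by
            simp only [Finset.mem_insert, Finset.mem_singleton, not_or]
            exact ⟨has.symm, fun e => has (n2 _ e.symm), fun e => has (n2 _ (n2 _ e.symm))⟩),
        Finset.card_insert_of_notMem (by
            simp only [Finset.mem_insert, Finset.mem_singleton, not_or]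
            exact ⟨o1.symm, o2.symm⟩),
        Finset.card_insert_of_notMem (by
            simp only [Finset.mem_singleton]; exact o3.symm),
        Finset.card_singleton] at h
      omega
    rw [← Fintype.card_subtype, ← Nat.card_eq_fintype_card] at h5
    change 5 ≤ Nat.card Ω at h5
    rw [hi] at h5 ⊢
    have h3 : 3 ≤ i := by
      by_contra hlt
      have : (2 : ℕ) ^ i ≤ 2 ^ 2 := Nat.pow_le_pow_right (by norm_num) (by omega)
      omega
    exact le_trans (by norm_num) (Nat.pow_le_pow_right (by norm_num) h3)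
  -- all involutions are central
  have hcentral : ∀ k : Q, k * k = 1 → k ∈ Ω := by
    intro k hk
    by_contra hkΩ
    have hkc : k ∉ Subgroup.center Q := fun h =>
      hkΩ ⟨fun y => (Subgroup.mem_center_iff.1 h y).symm, hk⟩
    have hle : Ω ≤ Subgroup.center Q := fun x hx => Subgroup.mem_center_iff.2 fun y => (hx.1 y).symm
    set Zc := Subgroup.center Q with hZc
    have hidx := Zc.index_mul_card
    rw [F.card] at hidx
    have hZ8 : 8 ≤ Nat.card Zc := hΩ8.trans (Subgroup.card_le_of_le hle)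
    have hB : Nat.card (Q ⧸ Zc) = Zc.index := rfl
    have hne2 : 3 ≤ Zc.index := by
      by_contra hlt
      have hcyc : IsCyclic (Q ⧸ Zc) := by
        have h0 : Zc.index ≠ 0 := Subgroup.index_ne_zero_of_finite
        rcases (show Zc.index = 1 ∨ Zc.index = 2 by omega) with h | h
        · have : Subsingleton (Q ⧸ Zc) := (Nat.card_eq_one_iff_unique.1 (hB.trans h)).1
          infer_instance
        · exact isCyclic_of_prime_card (p := 2) (hB.trans h)
      exact hkc (Subgroup.mem_center_iff.2 fun y =>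
        commutative_of_cyclic_center_quotient (QuotientGroup.mk' Zc)
          (by rw [QuotientGroup.ker_mk']) y k)
    have h4 : Zc.index = 4 ∧ Nat.card Zc = 8 := by
      have hd : Zc.index ∣ 32 := ⟨_, hidx.symm⟩
      have : Zc.index ≤ 4 := by
        by_contra hgt
        have := Nat.mul_le_mul (show 5 ≤ Zc.index by omega) hZ8
        omega
      interval_cases hi : Zc.index <;> omega
    have hΩeq : Ω = Zc := Subgroup.eq_of_le_of_card_ge hle (h4.2.le.trans hΩ8)
    have hcen' : ∀ x, φ x ∈ Zc → x ∈ Zc := fun x h => Subgroup.mem_center_iff.2 fun y => φ.injective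
      (by rw [map_mul, map_mul]; exact Subgroup.mem_center_iff.1 h _)
    have hshift : ∀ x, x ∉ Zc → x⁻¹ * φ x ∉ Zc := by
      intro x hx hmem
      have hw : x⁻¹ * φ x ∈ Ω := hΩeq ▸ hmem
      have hfix := shift_fixed φ F.cube (x := x) (z := x⁻¹ * φ x) (by group) hw.2 hw.1
      have hmemZ : x * φ (x⁻¹ * φ x) ∈ Zc := by
        rcases F.fixed _ hfix with e | e <;> rw [e]
        · exact Zc.one_mem
        · exact hle hsΩ
      exact hx ((Zc.mul_mem_cancel_right (hle (hΩφ _ hw))).1 hmemZ)
    have hB0 : φ k ∉ Zc := fun h => hkc (hcen' _ h)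
    set A : Q ⧸ Zc := QuotientGroup.mk k with hA
    set B : Q ⧸ Zc := QuotientGroup.mk (φ k) with hBd
    set D : Q ⧸ Zc := QuotientGroup.mk (φ (φ k)) with hD
    have hA2 : A * A = 1 := by rw [hA, ← QuotientGroup.mk_mul, hk]; rfl
    have hA1 : A ≠ 1 := fun e => hkc ((QuotientGroup.eq_one_iff _).1 e)
    have hB1 : B ≠ 1 := fun e => hB0 ((QuotientGroup.eq_one_iff _).1 e)
    have hD1 : D ≠ 1 := fun e => hB0 (hcen' _ ((QuotientGroup.eq_one_iff _).1 e))
    have hAB : A ≠ B := fun e => hshift k hkc (QuotientGroup.eq.1 e)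
    have hBD : B ≠ D := fun e => hshift _ hB0 (QuotientGroup.eq.1 e)
    have hAD : A ≠ D := fun e => by
      have h := QuotientGroup.eq.1 e
      have h' : φ k⁻¹ * φ (φ (φ k)) ∈ Zc := by
        rw [← map_mul]
        exact hle (hΩφ _ (hΩeq ▸ h))
      rw [F.cube, map_inv] at h'
      refine hshift k hkc ?_
      have := Zc.inv_mem h'
      rwa [mul_inv_rev, inv_inv] at this
    have hall : ∀ y : Q ⧸ Zc, y = 1 ∨ y = A ∨ y = B ∨ y = D := by
      intro y
      by_contra hy
      push Not at hy
      have h := Finset.card_le_univ ({y, 1, A, B, D} : Finset (Q ⧸ Zc))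
      rw [← Nat.card_eq_fintype_card, hB, h4.1, Finset.card_insert_of_notMem (by
            simp only [Finset.mem_insert, Finset.mem_singleton, not_or]
            exact ⟨hy.1, hy.2.1, hy.2.2.1, hy.2.2.2⟩),
        Finset.card_insert_of_notMem (by
            simp only [Finset.mem_insert, Finset.mem_singleton, not_or]
            exact ⟨hA1.symm, hB1.symm, hD1.symm⟩),
        Finset.card_insert_of_notMem (by
            simp only [Finset.mem_insert, Finset.mem_singleton, not_or]
            exact ⟨hAB, hAD⟩),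
        Finset.card_insert_of_notMem (by simp only [Finset.mem_singleton]; exact hBD),
        Finset.card_singleton] at h
      omega
    have hABD : A * B = D := by
      rcases hall (A * B) with e | e | e | e
      · exact absurd (mul_left_cancel (e.trans hA2.symm)).symm hAB
      · exact absurd (mul_eq_left.1 e) hB1
      · exact absurd (mul_eq_right.1 e) hA1
      · exact e
    -- `k` commutes with its image, hence with everything
    obtain ⟨u, hu, hue⟩ : ∃ u ∈ Zc, φ (φ k) = k * φ k * u :=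
      ⟨(k * φ k)⁻¹ * φ (φ k), QuotientGroup.eq.1 ((QuotientGroup.mk_mul _ _ _).trans hABD), by group⟩
    have hu2 : u * u = 1 := (hΩeq.symm ▸ hu : u ∈ Ω).2
    have huc : ∀ y, u * y = y * u := (hΩeq.symm ▸ hu : u ∈ Ω).1
    have hφk : φ k * φ k = 1 := by rw [← map_mul, hk, map_one]
    have hcomm : k * φ k = φ k * k := by
      have h : φ (φ k) * φ (φ k) = 1 := by rw [← map_mul, hφk, map_one]
      rw [hue] at h
      have h' : (k * φ k) * (k * φ k) = 1 := by
        calc k * φ k * (k * φ k) = k * φ k * (k * φ k) * (u * u) := by rw [hu2, mul_one]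
          _ = k * φ k * u * (k * φ k * u) := by
            simp only [mul_assoc]
            rw [← mul_assoc u k, huc k, mul_assoc k u, ← mul_assoc u (φ k), huc (φ k),
              mul_assoc (φ k) u]
          _ = 1 := h
      have e := inv_eq_of_mul_eq_one_right h'
      rw [mul_inv_rev, inv_eq_of_mul_eq_one_right hk, inv_eq_of_mul_eq_one_right hφk] at e
      exact e.symm
    refine hkc (Subgroup.mem_center_iff.2 fun y => ?_)
    have hgen : ∀ v : Q, (QuotientGroup.mk v : Q ⧸ Zc) = QuotientGroup.mk y →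
        Commute k v → y * k = k * y := fun v hv hkv => by
      obtain ⟨w, hw, rfl⟩ : ∃ w ∈ Zc, y = v * w := ⟨v⁻¹ * y, QuotientGroup.eq.1 hv, by group⟩
      exact (hkv.mul_right (show Commute k w from Subgroup.mem_center_iff.1 hw k)).eq.symm
    rcases hall (QuotientGroup.mk y) with e | e | e | e
    · exact hgen 1 e.symm (Commute.one_right k)
    · exact hgen k e.symm (Commute.refl k)
    · exact hgen _ e.symm hcomm
    · exact hgen (k * φ k) (((QuotientGroup.mk_mul _ _ _).trans hABD).trans e.symm)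
        ((Commute.refl k).mul_right hcomm)
  -- the character of degree sixteen vanishes off the identity
  have hvanish : ∀ x : Q, x ≠ 1 → V₁₆ x = 0 := by
    intro x hx
    obtain ⟨j, hj1, hj2⟩ := F.exists_invol_pow hx
    by_cases hxΩ : x ∈ Ω
    · exact hT x (hΩT x hxΩ hx).2
    refine hzero x j hx (hΩT _ (hcentral _ hj2) hj1).2 ?_
    set H := Subgroup.centralizer ({x} : Set Q) with hH
    have hlt : Ω < H := by
      refine lt_of_le_of_ne (fun y hy => Subgroup.mem_centralizer_singleton_iff.2 (hy.1 x)) fun e =>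
        hxΩ ?_
      rw [e, hH]
      exact Subgroup.mem_centralizer_singleton_iff.2 rfl
    have h9 : 8 < Nat.card H := lt_of_le_of_lt hΩ8 (by
      by_contra hge
      push Not at hge
      exact hlt.ne (Subgroup.eq_of_le_of_card_ge hlt.le hge))
    obtain ⟨i, -, hi⟩ := (Nat.dvd_prime_pow Nat.prime_two).1
      (show Nat.card H ∣ 2 ^ 5 from (show Nat.card Q = 2 ^ 5 from F.card) ▸ Subgroup.card_subgroup_dvd_card H)
    rw [hi] at h9 ⊢
    have h4 : 4 ≤ i := by
      by_contra hlt'
      have : (2 : ℕ) ^ i ≤ 2 ^ 3 := Nat.pow_le_pow_right (by norm_num) (by omega)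
      omega
    exact (show (16 : ℕ) = 2 ^ 4 by norm_num) ▸ pow_dvd_pow 2 h4
  rw [Finset.sum_eq_single_of_mem 1 (Finset.mem_univ _) fun x _ hx => hvanish x hx, h16one] at h16
  norm_num at h16

end Fix2

/-- A group of order sixteen with an automorphism of order three fixing only the identity is
commutative. -/
theorem comm_sixteen {B : Type*} [Group B] [Finite B] (hB : Nat.card B = 16) (ψ : B ≃* B)
    (h3 : ∀ x, ψ (ψ (ψ x)) = x) (hfix : ∀ x, ψ x = x → x = 1) : ∀ a b : B, a * b = b * a := by
  classical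
  by_contra hno
  have hnocyc : ¬ IsCyclic (B ⧸ Subgroup.center B) := fun h =>
    hno fun a b => commutative_of_cyclic_center_quotient (QuotientGroup.mk' _)
      (by rw [QuotientGroup.ker_mk']) a b
  have : Fintype B := Fintype.ofFinite B
  haveI : Fact (Nat.Prime 2) := ⟨Nat.prime_two⟩
  have hBp : IsPGroup 2 B := IsPGroup.of_card (n := 4) (by rw [hB]; norm_num)
  have : Nontrivial B := Finite.one_lt_card_iff_nontrivial.1 (by rw [hB]; norm_num)
  have hnt := hBp.center_nontrivial
  set Zb := Subgroup.center B with hZb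
  have hZψ : ∀ x ∈ Zb, ψ x ∈ Zb := fun x hx => Subgroup.mem_center_iff.2 fun y => by
    obtain ⟨w, rfl⟩ := ψ.surjective y
    rw [← map_mul, ← map_mul, Subgroup.mem_center_iff.1 hx w]
  have hZψ' : ∀ x, ψ x ∈ Zb → x ∈ Zb := fun x h => Subgroup.mem_center_iff.2 fun y =>
    ψ.injective (by rw [map_mul, map_mul]; exact Subgroup.mem_center_iff.1 h _)
  have n1 : ∀ y, ψ y = 1 → y = 1 := fun y e => ψ.injective (e.trans (map_one ψ).symm)
  obtain ⟨a, ha⟩ := exists_ne (1 : Zb)
  have ha1 : (a : B) ≠ 1 := fun e => ha (Subtype.ext e)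
  have hidx := Zb.index_mul_card
  rw [hB] at hidx
  have h4le : ∀ x ∈ Zb, x ≠ 1 → ({1, x, ψ x, ψ (ψ x)} : Finset B).card = 4 ∧
      ({1, x, ψ x, ψ (ψ x)} : Finset B) ⊆ Finset.univ.filter (· ∈ Zb) := fun x hx hx1 => by
    have o1 : ψ x ≠ x := fun e => hx1 (hfix x e)
    have o2 : ψ (ψ x) ≠ x := fun e => o1 ((congrArg ψ e).symm.trans (h3 x))
    have o3 : ψ (ψ x) ≠ ψ x := fun e => o1 (ψ.injective e)
    refine ⟨?_, fun y hy => ?_⟩
    · rw [Finset.card_insert_of_notMem (by
            simp only [Finset.mem_insert, Finset.mem_singleton, not_or]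
            exact ⟨hx1.symm, fun e => hx1 (n1 _ e.symm), fun e => hx1 (n1 _ (n1 _ e.symm))⟩),
        Finset.card_insert_of_notMem (by
            simp only [Finset.mem_insert, Finset.mem_singleton, not_or]
            exact ⟨o1.symm, o2.symm⟩),
        Finset.card_insert_of_notMem (by simp only [Finset.mem_singleton]; exact o3.symm),
        Finset.card_singleton]
    · simp only [Finset.mem_insert, Finset.mem_singleton] at hy
      refine Finset.mem_filter.2 ⟨Finset.mem_univ _, ?_⟩
      rcases hy with rfl | rfl | rfl | rfl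
      exacts [Zb.one_mem, hx, hZψ _ hx, hZψ _ (hZψ _ hx)]
  have hcardZ : (Finset.univ.filter (· ∈ Zb)).card = Nat.card Zb := by
    rw [Nat.card_eq_fintype_card, Fintype.card_subtype]
  have hge : 4 ≤ Nat.card Zb := by
    obtain ⟨h1, h2⟩ := h4le _ a.2 ha1
    rw [← hcardZ, ← h1]
    exact Finset.card_le_card h2
  have hi4 : Zb.index = 4 ∧ Nat.card Zb = 4 := by
    have hle : Zb.index ≤ 4 := by
      by_contra hgt
      have := Nat.mul_le_mul (show 5 ≤ Zb.index by omega) hge
      omega
    have hd : Zb.index ∣ 16 := ⟨_, hidx.symm⟩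
    have h3' : Zb.index ≠ 1 ∧ Zb.index ≠ 2 := ⟨fun h => hnocyc (by
        have : Subsingleton (B ⧸ Zb) := (Nat.card_eq_one_iff_unique.1 h).1
        infer_instance),
      fun h => hnocyc (isCyclic_of_prime_card (p := 2) h)⟩
    interval_cases hi : Zb.index <;> omega
  -- the centre is elementary
  have hexp : ∀ x ∈ Zb, x * x = 1 := by
    intro x hx
    by_contra h
    have hx1 : x ≠ 1 := fun e => h (by rw [e, one_mul])
    obtain ⟨hc, hsub⟩ := h4le x hx hx1
    have hmem : x * x ∈ ({1, x, ψ x, ψ (ψ x)} : Finset B) := by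
      rw [Finset.eq_of_subset_of_card_le hsub (by rw [hcardZ, hi4.2, hc])]
      exact Finset.mem_filter.2 ⟨Finset.mem_univ _, Zb.mul_mem hx hx⟩
    have hx4 : x * x * (x * x) = 1 := by
      have h4 := congrArg Subtype.val (pow_card_eq_one' (x := (⟨x, hx⟩ : Zb)))
      simp only [hi4.2, Subgroup.coe_pow, Subgroup.coe_one] at h4
      rw [← h4]; simp only [pow_succ, pow_zero, one_mul, mul_assoc]
    simp only [Finset.mem_insert, Finset.mem_singleton] at hmem
    rcases hmem with e | e | e | e
    · exact h e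
    · exact hx1 (mul_eq_left.1 e)
    · have e2 : ψ (ψ x) = 1 := by rw [← e, map_mul, ← e, hx4]
      exact hx1 (n1 _ (n1 _ e2))
    · have e2 : ψ x * ψ x = x := by rw [← map_mul, e, h3]
      have : x * x = 1 := by
        calc x * x = ψ x * ψ x * (ψ x * ψ x) := by rw [e2]
          _ = ψ (x * x * (x * x)) := by simp only [map_mul]
          _ = 1 := by rw [hx4, map_one]
      exact h this
  -- an element outside the centre
  obtain ⟨k, hk⟩ : ∃ k, k ∉ Zb := by
    by_contra h
    push Not at h
    exact hno fun u v => Subgroup.mem_center_iff.1 (h v) u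
  have hsq : ∀ y : B, y * y ∈ Zb := by
    intro y
    by_contra hy
    refine hnocyc (isCyclic_of_orderOf_eq_card (QuotientGroup.mk y : B ⧸ Zb) ?_)
    have hd : orderOf (QuotientGroup.mk y : B ⧸ Zb) ∣ 2 ^ 2 := by
      have h := orderOf_dvd_natCard (QuotientGroup.mk y : B ⧸ Zb)
      rwa [show Nat.card (B ⧸ Zb) = 2 ^ 2 from hi4.1] at h
    obtain ⟨i, hi2, hi⟩ := (Nat.dvd_prime_pow Nat.prime_two).1 hd
    rw [hi, show Nat.card (B ⧸ Zb) = 2 ^ 2 from hi4.1]
    have h2 : ¬ i ≤ 1 := fun hle => hy ((QuotientGroup.eq_one_iff _).1 (by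
      rw [QuotientGroup.mk_mul, ← pow_two]
      exact orderOf_dvd_iff_pow_eq_one.1 (hi ▸ pow_dvd_pow 2 hle)))
    rw [show i = 2 by omega]
  have hshift : ∀ x, x ∉ Zb → x⁻¹ * ψ x ∉ Zb := by
    intro x hx hmem
    have hfx := hfix _ (shift_fixed ψ h3 (x := x) (z := x⁻¹ * ψ x) (by group) (hexp _ hmem)
      fun y => (Subgroup.mem_center_iff.1 hmem y).symm)
    exact hx ((Zb.mul_mem_cancel_right (hZψ _ hmem)).1 (by rw [hfx]; exact Zb.one_mem))
  have hk' : ψ k ∉ Zb := fun h => hk (hZψ' _ h)
  set A : B ⧸ Zb := QuotientGroup.mk k with hA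
  set C : B ⧸ Zb := QuotientGroup.mk (ψ k) with hC
  set D : B ⧸ Zb := QuotientGroup.mk (ψ (ψ k)) with hD
  have hA1 : A ≠ 1 := fun e => hk ((QuotientGroup.eq_one_iff _).1 e)
  have hC1 : C ≠ 1 := fun e => hk' ((QuotientGroup.eq_one_iff _).1 e)
  have hD1 : D ≠ 1 := fun e => hk' (hZψ' _ ((QuotientGroup.eq_one_iff _).1 e))
  have hA2 : A * A = 1 := by
    rw [hA, ← QuotientGroup.mk_mul]; exact (QuotientGroup.eq_one_iff _).2 (hsq k)
  have hAC : A ≠ C := fun e => hshift k hk (QuotientGroup.eq.1 e)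
  have hCD : C ≠ D := fun e => hshift _ hk' (QuotientGroup.eq.1 e)
  have hAD : A ≠ D := fun e => by
    have h := hZψ _ (QuotientGroup.eq.1 e)
    rw [map_mul, h3, map_inv] at h
    refine hshift k hk ?_
    have := Zb.inv_mem h
    rwa [mul_inv_rev, inv_inv] at this
  have hall : ∀ y : B ⧸ Zb, y = 1 ∨ y = A ∨ y = C ∨ y = D := by
    intro y
    by_contra hy
    push Not at hy
    have h := Finset.card_le_univ ({y, 1, A, C, D} : Finset (B ⧸ Zb))
    rw [← Nat.card_eq_fintype_card, show Nat.card (B ⧸ Zb) = 4 from hi4.1,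
      Finset.card_insert_of_notMem (by
          simp only [Finset.mem_insert, Finset.mem_singleton, not_or]
          exact ⟨hy.1, hy.2.1, hy.2.2.1, hy.2.2.2⟩),
      Finset.card_insert_of_notMem (by
          simp only [Finset.mem_insert, Finset.mem_singleton, not_or]
          exact ⟨hA1.symm, hC1.symm, hD1.symm⟩),
      Finset.card_insert_of_notMem (by
          simp only [Finset.mem_insert, Finset.mem_singleton, not_or]
          exact ⟨hAC, hAD⟩),
      Finset.card_insert_of_notMem (by simp only [Finset.mem_singleton]; exact hCD),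
      Finset.card_singleton] at h
    omega
  have hACD : A * C = D := by
    rcases hall (A * C) with e | e | e | e
    · exact absurd (mul_left_cancel (e.trans hA2.symm)).symm hAC
    · exact absurd (mul_eq_left.1 e) hC1
    · exact absurd (mul_eq_right.1 e) hA1
    · exact e
  obtain ⟨u, hu, hue⟩ : ∃ u ∈ Zb, ψ (ψ k) = k * ψ k * u :=
    ⟨(k * ψ k)⁻¹ * ψ (ψ k), QuotientGroup.eq.1 ((QuotientGroup.mk_mul _ _ _).trans hACD), by group⟩
  -- the commutator of `k` with its image
  obtain ⟨c, hc, hce⟩ : ∃ c ∈ Zb, ψ k * k = k * ψ k * c := by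
    refine ⟨(k * ψ k)⁻¹ * (ψ k * k), QuotientGroup.eq.1 ?_, by group⟩
    have : IsMulCommutative (B ⧸ Zb) :=
      IsPGroup.isMulCommutative_of_card_eq_prime_sq (p := 2) (show Nat.card (B ⧸ Zb) = 2 ^ 2 from hi4.1)
    rw [QuotientGroup.mk_mul, QuotientGroup.mk_mul]
    exact mul_comm' _ _
  have hcen : ∀ v ∈ Zb, ∀ y, v * y = y * v := fun v hv y => (Subgroup.mem_center_iff.1 hv y).symm
  have hc1 : c = 1 := by
    refine hfix c ?_
    have h := congrArg ψ hce
    simp only [map_mul] at h
    rw [hue] at h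
    -- both sides end in `u`
    have hl : k * ψ k * u * ψ k = k * ψ k * ψ k * u := by rw [mul_assoc _ u, hcen u hu, ← mul_assoc]
    have hr : ψ k * (k * ψ k * u) * ψ c = k * ψ k * ψ k * c * ψ c * u := by
      calc ψ k * (k * ψ k * u) * ψ c = ψ k * k * ψ k * (u * ψ c) := by simp only [mul_assoc]
        _ = k * ψ k * c * ψ k * (ψ c * u) := by rw [hce, hcen u hu]
        _ = k * ψ k * (c * ψ k) * ψ c * u := by simp only [mul_assoc]
        _ = k * ψ k * ψ k * c * ψ c * u := by rw [hcen c hc]; simp only [mul_assoc]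
    rw [hl, hr] at h
    have h' := mul_right_cancel h
    rw [mul_assoc _ c] at h'
    have hcc : c * ψ c = 1 := mul_eq_left.1 h'.symm
    calc ψ c = c * c * ψ c := by rw [hexp c hc, one_mul]
      _ = c := by rw [mul_assoc, hcc, mul_one]
  rw [hc1, mul_one] at hce
  refine hk (Subgroup.mem_center_iff.2 fun y => ?_)
  have hgen : ∀ v : B, (QuotientGroup.mk v : B ⧸ Zb) = QuotientGroup.mk y →
      Commute k v → y * k = k * y := fun v hv hkv => by
    obtain ⟨w, hw, rfl⟩ : ∃ w ∈ Zb, y = v * w := ⟨v⁻¹ * y, QuotientGroup.eq.1 hv, by group⟩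
    exact (hkv.mul_right (show Commute k w from Subgroup.mem_center_iff.1 hw k)).eq.symm
  rcases hall (QuotientGroup.mk y) with e | e | e | e
  · exact hgen 1 e.symm (Commute.one_right k)
  · exact hgen k e.symm (Commute.refl k)
  · exact hgen _ e.symm hce.symm
  · exact hgen (k * ψ k) (((QuotientGroup.mk_mul _ _ _).trans hACD).trans e.symm)
      ((Commute.refl k).mul_right hce.symm)

namespace Fix2

variable {φ : Q ≃* Q} {s : Q} (F : Fix2 φ s)
include F

/-- Centre of order two: commutators and squares lie in it. -/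
theorem comm_sq [Finite Q] (hcen : ∀ z, (∀ y, z * y = y * z) → z = 1 ∨ z = s) :
    (∀ a b : Q, a * b = b * a ∨ a * b = b * a * s) ∧ ∀ a : Q, a * a = 1 ∨ a * a = s := by
  classical
  set Zc := Subgroup.center Q with hZc
  have hZ : ∀ z, z ∈ Zc ↔ z = 1 ∨ z = s := fun z => by
    refine ⟨fun h => hcen z fun y => (Subgroup.mem_center_iff.1 h y).symm, ?_⟩
    rintro (rfl | rfl)
    · exact Zc.one_mem
    · exact Subgroup.mem_center_iff.2 fun y => (F.s_central y).symm
  have hφZ : ∀ z, φ z ∈ Zc ↔ z ∈ Zc := fun z => by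
    rw [hZ, hZ]
    constructor <;> rintro (e | e)
    · exact Or.inl (φ.injective (e.trans (map_one φ).symm))
    · exact Or.inr (φ.injective (e.trans F.fix_s.symm))
    · exact Or.inl (by rw [e, map_one])
    · exact Or.inr (by rw [e, F.fix_s])
  have hmap : Zc.map (φ : Q →* Q) = Zc := by
    ext y
    constructor
    · rintro ⟨z, hz, rfl⟩; exact (hφZ z).2 hz
    · intro hy
      obtain ⟨z, rfl⟩ := φ.surjective y
      exact ⟨z, (hφZ z).1 hy, rfl⟩
  set ψ := QuotientGroup.congr Zc Zc φ hmap with hψ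
  have hψm : ∀ x : Q, ψ (QuotientGroup.mk x) = QuotientGroup.mk (φ x) := fun x => rfl
  have hcardZ : Nat.card Zc = 2 := by
    have : (Zc : Set Q) = {1, s} := Set.ext fun z => by simp [hZ]
    rw [← SetLike.coe_sort_coe, Nat.card_coe_set_eq, this, Set.ncard_pair F.s1.symm]
  have hB : Nat.card (Q ⧸ Zc) = 16 := by
    have := Zc.index_mul_card
    rw [hcardZ, F.card] at this
    show Zc.index = 16
    omega
  have hfix : ∀ x, ψ x = x → x = 1 := by
    intro X
    induction X using QuotientGroup.induction_on with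
    | H x =>
      intro hx
      rw [hψm] at hx
      have hz := QuotientGroup.eq.1 hx.symm
      refine (QuotientGroup.eq_one_iff x).2 ((hZ x).2 ?_)
      rcases (hZ _).1 hz with e | e
      · exact F.fixed x (inv_mul_eq_one.1 e).symm
      · have hfx := shift_fixed φ F.cube (x := x) (z := s) (inv_mul_eq_iff_eq_mul.1 e) F.ss F.s_central
        rw [F.fix_s] at hfx
        rcases F.fixed _ hfx with e' | e'
        · exact Or.inr ((mul_eq_one_iff_eq_inv.1 e').trans (inv_eq_of_mul_eq_one_right F.ss))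
        · exact Or.inl (mul_eq_right.1 e')
  have hc := comm_sixteen hB ψ (fun X => by
    induction X using QuotientGroup.induction_on with
    | H x => simp only [hψm, F.cube]) hfix
  have hcomm : ∀ a b : Q, a * b = b * a ∨ a * b = b * a * s := fun a b => by
    have h := QuotientGroup.eq.1 ((QuotientGroup.mk_mul Zc b a).trans ((hc _ _).trans
      (QuotientGroup.mk_mul Zc a b).symm))
    rcases (hZ _).1 h with e | e
    · exact Or.inl (inv_mul_eq_one.1 e).symm
    · exact Or.inr (inv_mul_eq_iff_eq_mul.1 e)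
  refine ⟨hcomm, fun a => hcen _ fun b => ?_⟩
  rcases hcomm a b with e | e
  · rw [mul_assoc, e, ← mul_assoc, e, mul_assoc]
  · rw [mul_assoc, e, show a * (b * a * s) = a * b * (a * s) by simp only [mul_assoc], e,
      show b * a * s * (a * s) = b * a * (s * a) * s by simp only [mul_assoc], F.s_central a,
      show b * a * (a * s) * s = b * (a * a) * (s * s) by simp only [mul_assoc], F.ss, mul_one]

end Fix2

end CfsgLib.Recog.OrderM12
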