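import Cfsg.Agent.Lib.Recog.OrderM12.Main
import Cfsg.Agent.Lib.Recog.OrderM12.QGroup
import Cfsg.Agent.Lib.Recog.QSThree.Setup

/-!
# Simple groups of order 95040: the centraliser of a 2-central involution is `2^(1+4).S₃`
-/

set_option autoImplicit false
set_option linter.style.haveILetI false
set_option synthInstance.maxSize 2000
set_option maxHeartbeats 1000000

namespace CfsgLib.Recog.OrderM12

open Cfsg CfsgLib CfsgLib.Block CfsgLib.ClassK CfsgLib.ClassK.RowSieve CfsgLib.ClassK.RowInvolution
open scoped ComplexConjugate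

universe u

theorem perm_sign_three : ∀ r u : Equiv.Perm (Fin 3), r * r * r = 1 → r ≠ 1 →
    u * r * u⁻¹ = r * r → Equiv.Perm.sign u = -1 := by
  decide +kernel

theorem perm_central : ∀ r u z : Equiv.Perm (Fin 3), r * r * r = 1 → r ≠ 1 →
    u * r * u⁻¹ = r * r → z * r = r * z → z * u = u * z → z = 1 := by
  decide +kernel

/-- The facts found before the analysis of the normal subgroup of order 32. -/
structure Pre {G : Type u} [Group G] (k : G) (Q : Subgroup G) (c n : G) : Prop where
  kQ : k ∈ Q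
  card : Nat.card Q = 32
  norm : ∀ g : G, g * k = k * g → ∀ q ∈ Q, g * q * g⁻¹ ∈ Q
  cen : ∀ q ∈ Q, q * k = k * q
  cs : c * k = k * c
  c3 : c * c * c = 1
  c_order : orderOf c = 3
  fixc : ∀ q ∈ Q, c * q = q * c → q = 1 ∨ q = k
  ns : n * k = k * n
  nc : n * c * n⁻¹ = c * c
  nn : n * n = 1 ∨ n * n = k
  cover : ∀ g : G, g * k = k * g → ∃ q ∈ Q, ∃ i < 3, ∃ j < 2, g = q * c ^ i * n ^ j

variable {G : Type u} [Group G] [Finite G]

namespace Conf

variable [Fact (Nat.Prime 11)] {P : Sylow 11 G}
  {M : Ideal AlgInt} {CF YF : Finset (IrrCharacter G)} {ε : IrrCharacter G → ℤ}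
  (C : Conf P mainL 16 1 M CF YF ε)
include C

theorem comm_six {k q a : G} (hk : orderOf k = 2)
    (hk192 : Nat.card (Subgroup.centralizer ({k} : Set G)) = 192) (hq : orderOf q = 3)
    (hc : Commute k q) (hak : Commute a k) (haq : Commute a q) :
    a ∈ Subgroup.zpowers (k * q) := by
  have h6 := C.card_centralizer_six hk hk192 hq hc
  have hle : Subgroup.zpowers (k * q) ≤ Subgroup.centralizer ({k * q} : Set G) :=
    Subgroup.zpowers_le.2 (Subgroup.mem_centralizer_singleton_iff.2 rfl)
  rw [Subgroup.eq_of_le_of_card_ge hle (by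
    rw [h6, Nat.card_zpowers, hc.orderOf_mul_eq_mul_orderOf_of_coprime (by rw [hk, hq]; norm_num),
      hk, hq])]
  exact Subgroup.mem_centralizer_singleton_iff.2 (hak.mul_right haq).eq

/-- A 2-element commuting with both is trivial or the involution. -/
theorem two_six {k q a : G} (hk : orderOf k = 2)
    (hk192 : Nat.card (Subgroup.centralizer ({k} : Set G)) = 192) (hq : orderOf q = 3)
    (hc : Commute k q) (hak : Commute a k) (haq : Commute a q) (ha : a ^ 64 = 1) :
    a = 1 ∨ a = k := by
  obtain ⟨i, rfl⟩ := Subgroup.mem_zpowers_iff.1 (C.comm_six hk hk192 hq hc hak haq)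
  have h6 : orderOf (k * q) = 6 := by
    rw [hc.orderOf_mul_eq_mul_orderOf_of_coprime (by rw [hk, hq]; norm_num), hk, hq]
  rw [← zpow_natCast, ← zpow_mul, ← orderOf_dvd_iff_zpow_eq_one, h6] at ha
  have h3 : (3 : ℤ) ∣ i := by omega
  obtain ⟨j, rfl⟩ := h3
  have e : (k * q) ^ (3 : ℤ) = k := by
    rw [show (3 : ℤ) = ((3 : ℕ) : ℤ) from rfl, zpow_natCast, hc.mul_pow,
      show q ^ 3 = 1 from hq ▸ pow_orderOf_eq_one q, mul_one,
      show (3 : ℕ) = 2 + 1 from rfl, pow_succ, show k ^ 2 = 1 from hk ▸ pow_orderOf_eq_one k, one_mul]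
  rw [zpow_mul, e]
  rcases Int.even_or_odd' j with ⟨l, rfl | rfl⟩
  · left; rw [zpow_mul, show k ^ (2 : ℤ) = 1 by
      rw [show (2 : ℤ) = ((2 : ℕ) : ℤ) from rfl, zpow_natCast, ← hk, pow_orderOf_eq_one], one_zpow]
  · right; rw [zpow_add, zpow_mul, show k ^ (2 : ℤ) = 1 by
      rw [show (2 : ℤ) = ((2 : ℕ) : ℤ) from rfl, zpow_natCast, ← hk, pow_orderOf_eq_one], one_zpow,
      one_mul, zpow_one]

/-- An element of order three in the centraliser is inverted there. -/
theorem exists_inverter {k : G} (hk : orderOf k = 2)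
    (hk192 : Nat.card (Subgroup.centralizer ({k} : Set G)) = 192) :
    ∃ c n : Subgroup.centralizer ({k} : Set G), orderOf (c : G) = 3 ∧ n * c * n⁻¹ = c * c := by
  classical
  haveI : Fact (Nat.Prime 3) := ⟨Nat.prime_three⟩
  set L := Subgroup.centralizer ({k} : Set G) with hL
  obtain ⟨X⟩ := (inferInstance : Nonempty (Sylow 3 L))
  have hX : Nat.card X = 3 :=
    CfsgLib.Transfer.card_sylow_eq_prime X (by rw [hk192]; norm_num) (by rw [hk192]; norm_num)
  obtain ⟨c, hcX, hc1⟩ : ∃ c ∈ (X : Subgroup L), c ≠ 1 := by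
    refine Subgroup.bot_or_exists_ne_one _ |>.resolve_left fun h' => ?_
    rw [h', Subgroup.card_bot] at hX
    norm_num at hX
  have hco : orderOf c = 3 := by
    have hd := Subgroup.orderOf_dvd_natCard (X : Subgroup L) hcX
    rw [hX] at hd
    exact ((Nat.dvd_prime Nat.prime_three).1 hd).resolve_left
      fun h' => hc1 (orderOf_eq_one_iff.1 h')
  have hcG : orderOf (c : G) = 3 := by rw [Subgroup.orderOf_coe]; exact hco
  have hc3 : c ^ 3 = 1 := hco ▸ pow_orderOf_eq_one c
  have hXz : Subgroup.zpowers c = (X : Subgroup L) :=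
    Subgroup.eq_of_le_of_card_ge (Subgroup.zpowers_le.2 hcX) (by rw [Nat.card_zpowers, hco, hX])
  set N := Subgroup.normalizer ((X : Subgroup L) : Set L) with hN
  have hNC : ∀ m ∈ N, m * c * m⁻¹ = c ∨ m * c * m⁻¹ = c * c := by
    intro m hm
    have h := (Subgroup.mem_normalizer_iff.1 hm c).1 hcX
    rw [← hXz] at h
    obtain ⟨i, hi⟩ := Subgroup.mem_zpowers_iff.1 h
    rw [← hi, ← zpow_mod_orderOf, hco]
    rcases (show i % ((3 : ℕ) : ℤ) = 0 ∨ i % ((3 : ℕ) : ℤ) = 1 ∨ i % ((3 : ℕ) : ℤ) = 2 by omega)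
      with e | e | e <;> rw [e]
    · exfalso
      rw [← zpow_mod_orderOf, hco, e, zpow_zero] at hi
      exact hc1 (conj_eq_one_iff.1 hi.symm)
    · exact Or.inl (zpow_one c)
    · exact Or.inr (zpow_two c)
  by_contra hno
  push Not at hno
  have hNcomm : ∀ m ∈ N, Commute m c := fun m hm => by
    rcases hNC m hm with e | e
    · exact mul_inv_eq_iff_eq_mul.1 e
    · exact absurd e (hno c m hcG)
  -- the normaliser would be the centraliser of order six
  have hk' : Commute k (c : G) := (Subgroup.mem_centralizer_singleton_iff.1 c.2).symm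
  have hmap : N.map L.subtype = Subgroup.zpowers (k * (c : G)) := by
    refine le_antisymm ?_ (Subgroup.zpowers_le.2 ?_)
    · rintro _ ⟨m, hm, rfl⟩
      exact C.comm_six hk hk192 hcG hk' (Subgroup.mem_centralizer_singleton_iff.1 m.2)
        (congrArg Subtype.val (hNcomm m hm).eq)
    · refine ⟨⟨k, Subgroup.mem_centralizer_singleton_iff.2 rfl⟩ * c, ?_, rfl⟩
      refine N.mul_mem ?_ (Subgroup.le_normalizer hcX)
      rw [hN, Subgroup.mem_normalizer_iff]
      intro a
      have hcomm : (⟨k, Subgroup.mem_centralizer_singleton_iff.2 rfl⟩ : L) * a =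
          a * ⟨k, Subgroup.mem_centralizer_singleton_iff.2 rfl⟩ :=
        Subtype.ext (Subgroup.mem_centralizer_singleton_iff.1 a.2).symm
      rw [hcomm, mul_inv_cancel_right]
  have h6 : Nat.card N = 6 := by
    rw [← Subgroup.card_map_of_injective L.subtype_injective, hmap, Nat.card_zpowers,
      hk'.orderOf_mul_eq_mul_orderOf_of_coprime (by rw [hk, hcG]; norm_num), hk, hcG]
  have h1 := N.index_mul_card
  rw [h6, hk192] at h1
  have h2 : Nat.card (Sylow 3 L) = N.index := Sylow.card_eq_index_normalizer X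
  have h3 := card_sylow_modEq_one 3 L
  rw [h2] at h3
  unfold Nat.ModEq at h3
  omega

/-- The normal subgroup of index six and its complement's generators. -/
theorem exists_pre {k : G} (hk : orderOf k = 2)
    (hk192 : Nat.card (Subgroup.centralizer ({k} : Set G)) = 192) :
    ∃ (Q : Subgroup G) (c n : G), Pre k Q c n := by
  haveI : Fact (Nat.Prime 2) := ⟨Nat.prime_two⟩
  haveI := C.setup.simple
  have hinv := C.exists_inverter hk hk192
  set L := Subgroup.centralizer ({k} : Set G) with hL
  obtain ⟨c, n, hco, hnc⟩ := hinv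
  have hkk : k * k = 1 := by rw [← sq, ← hk, pow_orderOf_eq_one]
  have memL : ∀ g : G, g ∈ L ↔ g * k = k * g := fun g => Subgroup.mem_centralizer_singleton_iff
  set kL : L := ⟨k, (memL k).2 rfl⟩ with hkL
  have hkLc : ∀ a : L, kL * a = a * kL := fun a => Subtype.ext ((memL _).1 a.2).symm
  have hkc : Commute k (c : G) := ((memL _).1 c.2).symm
  have hc3 : c * c * c = 1 := Subtype.ext (by
    have := pow_orderOf_eq_one (c : G)
    rw [hco, pow_succ, pow_two] at this
    exact this)
  have hc1 : c ≠ 1 := fun e => by rw [e, Subgroup.coe_one, orderOf_one] at hco; norm_num at hco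
  -- three Sylow 2-subgroups
  obtain ⟨S⟩ := (inferInstance : Nonempty (Sylow 2 L))
  have hS : Nat.card S = 64 := by
    rw [Sylow.card_eq_multiplicity, hk192,
      show (192 : ℕ) = 2 ^ 6 * 3 by norm_num,
      Nat.factorization_mul (by norm_num) (by norm_num), Finsupp.add_apply,
      Nat.factorization_eq_zero_of_not_dvd (show ¬ 2 ∣ 3 by norm_num), add_zero,
      Nat.factorization_pow_self Nat.prime_two]
    rfl
  have hn2 : Nat.card (Sylow 2 L) = 3 := by
    have h1 : Nat.card (Sylow 2 L) * Nat.card (Subgroup.normalizer ((S : Subgroup L) : Set L)) = 192 := by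
      rw [show Nat.card (Sylow 2 L) = (Subgroup.normalizer ((S : Subgroup L) : Set L)).index from
        Sylow.card_eq_index_normalizer S, Subgroup.index_mul_card, hk192]
    have h64 : 64 ∣ Nat.card (Subgroup.normalizer ((S : Subgroup L) : Set L)) :=
      hS ▸ Subgroup.card_dvd_of_le Subgroup.le_normalizer
    obtain ⟨j, hj⟩ := h64
    rw [hj] at h1
    have hd : Nat.card (Sylow 2 L) ∣ 3 := ⟨j, by linarith⟩
    refine ((Nat.dvd_prime Nat.prime_three).1 hd).resolve_left fun h1' => ?_
    have hnorm : (S : Subgroup L).Normal := Subgroup.normalizer_eq_top_iff.1 (by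
      rw [← Subgroup.index_eq_one]
      exact (Sylow.card_eq_index_normalizer S).symm.trans h1')
    have hq3 : Nat.card (L ⧸ (S : Subgroup L)) = 3 := by
      have := (S : Subgroup L).index_mul_card
      rw [show Nat.card (S : Subgroup L) = 64 from hS, hk192] at this
      show (S : Subgroup L).index = 3
      omega
    haveI : Fact (Nat.Prime 3) := ⟨Nat.prime_three⟩
    have : IsCyclic (L ⧸ (S : Subgroup L)) := isCyclic_of_prime_card hq3
    have e := congrArg (QuotientGroup.mk' (S : Subgroup L)) hnc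
    simp only [map_mul, map_inv] at e
    rw [show QuotientGroup.mk' (S : Subgroup L) n * QuotientGroup.mk' (S : Subgroup L) c =
      QuotientGroup.mk' (S : Subgroup L) c * QuotientGroup.mk' (S : Subgroup L) n from
        (IsCyclic.commGroup (α := L ⧸ (S : Subgroup L))).mul_comm _ _, mul_inv_cancel_right] at e
    have hcS : c ∈ (S : Subgroup L) := (QuotientGroup.eq_one_iff c).1 (left_eq_mul.1 e)
    have hd := Subgroup.orderOf_dvd_natCard _ hcS
    rw [show Nat.card (S : Subgroup L) = 64 from hS, ← Subgroup.orderOf_coe, hco] at hd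
    norm_num at hd
  have := Fintype.ofFinite (Sylow 2 L)
  let e3 : Sylow 2 L ≃ Fin 3 := Fintype.equivFinOfCardEq (by rw [← Nat.card_eq_fintype_card, hn2])
  let π : L →* Equiv.Perm (Fin 3) :=
    e3.permCongrHom.toMonoidHom.comp (MulAction.toPermHom L (Sylow 2 L))
  have hker : ∀ g : L, π g = 1 ↔ ∀ T : Sylow 2 L, g • T = T := fun g => by
    constructor
    · intro h T
      have := congrArg (fun p : Equiv.Perm (Fin 3) => e3.symm (p (e3 T))) h
      simpa [π, Equiv.permCongrHom, Equiv.permCongr_apply] using this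
    · intro h
      ext i
      simp [π, Equiv.permCongrHom, Equiv.permCongr_apply, h]
  set K := π.ker with hK
  have hKdiv : Nat.card K ∣ 64 := by
    have hKN : K ≤ Subgroup.normalizer ((S : Subgroup L) : Set L) := fun g hg =>
      Sylow.smul_eq_iff_mem_normalizer.1 ((hker g).1 hg S)
    have hN : Subgroup.normalizer ((S : Subgroup L) : Set L) = (S : Subgroup L) := by
      refine (Subgroup.eq_of_le_of_card_ge Subgroup.le_normalizer ?_).symm
      have h1 : Nat.card (Sylow 2 L) * Nat.card (Subgroup.normalizer ((S : Subgroup L) : Set L)) =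
          192 := by
        rw [show Nat.card (Sylow 2 L) = (Subgroup.normalizer ((S : Subgroup L) : Set L)).index from
          Sylow.card_eq_index_normalizer S, Subgroup.index_mul_card, hk192]
      rw [hn2] at h1
      rw [show Nat.card (S : Subgroup L) = 64 from hS]
      omega
    exact hS ▸ Subgroup.card_dvd_of_le (hKN.trans hN.le)
  have hπc3 : π c * π c * π c = 1 := by rw [← map_mul, ← map_mul, hc3, map_one]
  have hπc : π c ≠ 1 := fun h => by
    have hd := (Subgroup.orderOf_dvd_natCard K h).trans hKdiv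
    rw [← Subgroup.orderOf_coe, hco] at hd
    norm_num at hd
  have hπn : π n * π c * (π n)⁻¹ = π c * π c := by rw [← map_inv, ← map_mul, ← map_mul, hnc, map_mul]
  obtain ⟨-, hu2, -, hall⟩ := QSThree.perm_three (π c) (π n) hπc3 hπc
    (perm_sign_three _ _ hπc3 hπc hπn)
  have hsurj : Function.Surjective π := fun p => by
    obtain ⟨i, j, hp⟩ := hall p
    exact ⟨c ^ (i : ℕ) * n ^ (j : ℕ), by rw [hp, map_mul, map_pow, map_pow]⟩
  have hK32 : Nat.card K = 32 := by
    have h1 := K.index_mul_card
    have h2 : K.index = 6 := by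
      rw [hK, Subgroup.index_ker, MonoidHom.range_eq_top.2 hsurj, Subgroup.card_top, Nat.card_perm,
        Nat.card_fin]
      rfl
    rw [h2, hk192] at h1
    omega
  have hKn : K.Normal := inferInstance
  set Q := K.map L.subtype with hQ
  have memQ : ∀ g : L, (g : G) ∈ Q ↔ g ∈ K := fun g => Subgroup.mem_map_iff_mem L.subtype_injective
  have hQL : Q ≤ L := Subgroup.map_subtype_le _
  have hQcard : Nat.card Q = 32 := by
    rw [hQ, Subgroup.card_map_of_injective L.subtype_injective, hK32]
  have hkK : kL ∈ K := perm_central _ _ _ hπc3 hπc hπn (by rw [← map_mul, ← map_mul, hkLc])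
    (by rw [← map_mul, ← map_mul, hkLc])
  have hkQ : k ∈ Q := (memQ kL).2 hkK
  have pow64 : ∀ g ∈ Q, g ^ 64 = 1 := fun g hg => by
    have h := congrArg Subtype.val (pow_card_eq_one' (x := (⟨g, hg⟩ : Q)))
    rw [hQcard] at h
    simp only [Subgroup.coe_pow, Subgroup.coe_one] at h
    rw [show (64 : ℕ) = 32 * 2 from rfl, pow_mul, h, one_pow]
  have hfixc : ∀ q ∈ Q, (c : G) * q = q * c → q = 1 ∨ q = k := fun q hq hcq =>
    C.two_six hk hk192 hco hkc ((memL _).1 (hQL hq)) hcq.symm (pow64 q hq)
  have hnorm : ∀ g : G, g * k = k * g → ∀ q ∈ Q, g * q * g⁻¹ ∈ Q := fun g hg q hq => by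
    have h : (⟨q, hQL hq⟩ : L) ∈ K := (memQ ⟨q, hQL hq⟩).1 hq
    have h' := hKn.conj_mem (⟨q, hQL hq⟩ : L) h (⟨g, (memL g).2 hg⟩ : L)
    exact Subgroup.mem_map.2 ⟨_, h', by simp only [Subgroup.coe_subtype, Subgroup.coe_mul, Subgroup.coe_inv]⟩
  have hcnorm : ∀ q ∈ Q, (c : G) * q * (c : G)⁻¹ ∈ Q := hnorm c ((memL _).1 c.2)
  refine ⟨Q, c, n, hkQ, hQcard, hnorm, fun q hq => (memL q).1 (hQL hq), (memL _).1 c.2,
    congrArg Subtype.val hc3, hco, hfixc, (memL _).1 n.2, congrArg Subtype.val hnc, ?_, fun g hg => ?_⟩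
  · have hq : ((n * n : L) : G) ∈ Q := (memQ _).2 (by rw [hK, MonoidHom.mem_ker, map_mul, hu2])
    refine hfixc _ hq (congrArg Subtype.val (show c * (n * n) = n * n * c from ?_))
    have : n * n * c * (n * n)⁻¹ = c := by
      rw [show n * n * c * (n * n)⁻¹ = n * (n * c * n⁻¹) * n⁻¹ by group, hnc,
        show n * (c * c) * n⁻¹ = n * c * n⁻¹ * (n * c * n⁻¹) by group, hnc,
        show c * c * (c * c) = c * c * c * c by simp [mul_assoc], hc3, one_mul]
    calc c * (n * n) = n * n * c * (n * n)⁻¹ * (n * n) := by rw [this]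
      _ = n * n * c := by group
  · obtain ⟨i, j, hij⟩ := hall (π ⟨g, (memL g).2 hg⟩)
    set m : L := c ^ (i : ℕ) * n ^ (j : ℕ) with hm
    refine ⟨((⟨g, (memL g).2 hg⟩ * m⁻¹ : L) : G), (memQ _).2 ?_, i, i.2, j, j.2, ?_⟩
    · rw [hK, MonoidHom.mem_ker, map_mul, map_inv, hm, map_mul, map_pow, map_pow, ← hij,
        mul_inv_cancel]
    · simp only [hm, Subgroup.coe_mul, Subgroup.coe_inv, SubmonoidClass.coe_pow]
      group

open scoped Classical in
/-- The centraliser of a 2-central involution is `2^(1+4).S₃`. -/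
theorem exists_setup_local {k : G} (hk : orderOf k = 2)
    (hk192 : Nat.card (Subgroup.centralizer ({k} : Set G)) = 192) :
    ∃ (Q : Subgroup G) (c n : G), QSThree.Setup k Q c n := by
  haveI : Fact (Nat.Prime 2) := ⟨Nat.prime_two⟩
  haveI := C.setup.simple
  obtain ⟨Q, c, n, B⟩ := C.exists_pre hk hk192
  have hkk : k * k = 1 := by rw [← sq, ← hk, pow_orderOf_eq_one]
  have hkQ := B.kQ
  have hQcard := B.card
  have hfixc := B.fixc
  have hco := B.c_order
  have hkc : Commute k c := B.cs.symm
  have hc3 := B.c3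
  have hnorm := B.norm
  have pow64 : ∀ g ∈ Q, g ^ 64 = 1 := fun g hg => by
    have h := congrArg Subtype.val (pow_card_eq_one' (x := (⟨g, hg⟩ : Q)))
    rw [hQcard] at h
    simp only [Subgroup.coe_pow, Subgroup.coe_one] at h
    rw [show (64 : ℕ) = 32 * 2 from rfl, pow_mul, h, one_pow]
  have hcnorm : ∀ q ∈ Q, c * q * c⁻¹ ∈ Q := hnorm c B.cs
  -- conjugation by `c`
  let φ : Q ≃* Q :=
    { toFun := fun x => ⟨c * x * c⁻¹, hcnorm x x.2⟩
      invFun := fun x => ⟨(c * c) * x * (c * c)⁻¹,
        hnorm _ (show c * c * k = k * (c * c) from ((Commute.mul_left hkc.symm hkc.symm)).eq) x x.2⟩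
      left_inv := fun x => Subtype.ext (by
        have e : (c * c) * c = 1 := hc3
        show (c * c) * (c * x * c⁻¹) * (c * c)⁻¹ = x
        calc (c * c) * (c * x * c⁻¹) * (c * c)⁻¹
            = ((c * c) * c) * x * ((c * c) * c)⁻¹ := by group
          _ = x := by rw [e]; simp)
      right_inv := fun x => Subtype.ext (by
        have e : c * (c * c) = 1 := by
          rw [← mul_assoc, hc3]
        show c * ((c * c) * x * (c * c)⁻¹) * c⁻¹ = x
        calc c * ((c * c) * x * (c * c)⁻¹) * c⁻¹
            = (c * (c * c)) * x * (c * (c * c))⁻¹ := by group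
          _ = x := by rw [e]; simp)
      map_mul' := fun x y => Subtype.ext (by
        show c * ((x : G) * y) * c⁻¹ =
          c * x * c⁻¹ * (c * y * c⁻¹)
        group) }
  set kQ : Q := ⟨k, hkQ⟩ with hkQdef
  have hk1 : k ≠ 1 := fun e => by rw [e, orderOf_one] at hk; norm_num at hk
  have F : Fix2 φ kQ := by
    refine ⟨fun x => Subtype.ext ?_, fun x hx => ?_, Subtype.ext ?_, ?_, Subtype.ext hkk,
      fun y => Subtype.ext (B.cen y y.2).symm, hQcard⟩
    · have e : c * c * c = 1 := hc3
      show c * (c * (c * x * c⁻¹) * c⁻¹) * c⁻¹ = x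
      calc _ = (c * c * c) * x * (c * c * c)⁻¹ := by group
        _ = x := by rw [e]; simp
    · exact (hfixc x x.2 (mul_inv_eq_iff_eq_mul.1 (congrArg Subtype.val hx))).imp Subtype.ext Subtype.ext
    · show c * k * c⁻¹ = k
      rw [← hkc.eq, mul_inv_cancel_right]
    · exact fun e => hk1 (congrArg Subtype.val e)
  -- the characters on `Q`
  obtain ⟨ψ, hψne, hψ, hψd⟩ := C.exists_row (D := 45) (by simp [mainDegs])
  obtain ⟨η, hη⟩ : YF.Nonempty := Finset.card_pos.1 (by rw [C.setup.rows.card_YF]; norm_num)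
  have hηne : η ≠ trivChar := C.setup.not_triv hη
  have hηd : charDegree (η : G → ℂ) = 16 := C.setup.rows.YF_deg η hη
  have hreg : ∀ g ∈ Q, ¬ 11 ∣ orderOf g := fun g hg h => by
    have := h.trans (Subgroup.orderOf_dvd_natCard _ hg)
    rw [hQcard] at this
    norm_num at this
  have hint : ∀ φ' : IrrCharacter G, φ' ∈ CF ∪ YF → ∀ x : Q, ∃ v : ℤ, (φ' : G → ℂ) x = v :=
    fun φ' hφ' x => exists_int_value (Char.irr_isCharacter φ'.2)
      fun j hj => C.fixed (hreg x x.2) hj hφ'
  choose V₄₅ hV₄₅ using hint ψ (Finset.mem_union.2 hψ)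
  choose V₁₆ hV₁₆ using hint η (Finset.mem_union_right _ hη)
  have := Fintype.ofFinite Q
  let T : Q → Prop := fun x =>
    orderOf (x : G) = 2 ∧ Nat.card (Subgroup.centralizer ({(x : G)} : Set G)) = 192
  have hcastone : ∀ (χ : IrrCharacter G) (v : ℤ), (χ : G → ℂ) ((1 : Q) : G) = v →
      v = charDegree (χ : G → ℂ) := fun χ v h => by
    rw [Subgroup.coe_one, ← BlockB.irr_degree_cast] at h
    exact_mod_cast h.symm
  have hT16 : ∀ x, T x → V₁₆ x = 0 := fun x hx => by
    have h := C.vals_192 hx.1 hx.2 η hηne (Or.inr hη)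
    rw [hV₁₆, hηd] at h
    have e : tv 16 = 0 := rfl
    rw [e] at h
    exact_mod_cast h
  have hsumH : ∀ (χ : IrrCharacter G) (V : Q → ℤ), (∀ x : Q, (χ : G → ℂ) x = V x) →
      ∀ H : Subgroup Q, ∃ m : ℕ, ∑ x ∈ Finset.univ.filter (· ∈ H), V x = (Nat.card H : ℤ) * m := by
    intro χ V hV H
    obtain ⟨m, hm⟩ := exists_sum_subgroup
      (Char.isCharacter_comp (Char.irr_isCharacter χ.2) Q.subtype) H
    refine ⟨m, ?_⟩
    have e : ∑ x ∈ Finset.univ.filter (· ∈ H), V x = ∑ x : H, V x := by
      rw [← Finset.sum_subtype (Finset.univ.filter (· ∈ H)) (fun x => by simp) V]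
    rw [e]
    simp only [Function.comp_apply, Subgroup.coe_subtype, hV] at hm
    exact_mod_cast hm
  have hcen := F.center_small V₄₅ V₁₆ T (fun x => ?_) ?_ ?_ (fun H => ?_) ?_ (fun x hx1 hxx hxc => ?_)
    ?_ hT16 (fun x j hx1 hTx h16 => ?_)
  · exact ⟨Q, c, n,
      { s1 := hk1
        ss := hkk
        sQ := hkQ
        cen := B.cen
        comm := fun a ha b hb =>
          ((F.comm_sq hcen).1 ⟨a, ha⟩ ⟨b, hb⟩).imp (congrArg Subtype.val) (congrArg Subtype.val)
        sq := fun a ha =>
          ((F.comm_sq hcen).2 ⟨a, ha⟩).imp (congrArg Subtype.val) (congrArg Subtype.val)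
        center := fun a ha h => (hcen ⟨a, ha⟩ fun b => Subtype.ext (h b b.2)).imp
          (congrArg Subtype.val) (congrArg Subtype.val)
        card := hQcard
        norm := hnorm
        cs := B.cs
        c3 := hc3
        fixc := hfixc
        ts := B.ns
        tc := B.nc
        tt := B.nn
        cover := B.cover
        card192 := hk192 }⟩
  · have e : ((V₄₅ (φ x) : ℤ) : ℂ) = (V₄₅ x : ℂ) := by
      rw [← hV₄₅, ← hV₄₅]
      exact Char.irr_isClassFunction ψ.2 (x : G) c
    exact_mod_cast e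
  · rw [hcastone ψ _ (hV₄₅ 1), hψd]; rfl
  · rw [hcastone η _ (hV₁₆ 1), hηd]; rfl
  · obtain ⟨m, hm⟩ := hsumH ψ V₄₅ hV₄₅ H
    rw [hm]; positivity
  · obtain ⟨m, hm⟩ := hsumH η V₁₆ hV₁₆ ⊤
    rw [Subgroup.card_top, hQcard, show Finset.univ.filter (· ∈ (⊤ : Subgroup Q)) = Finset.univ by
      ext x; simp] at hm
    exact ⟨m, hm⟩
  · have hxo : orderOf (x : G) = 2 :=
      orderOf_eq_prime (by rw [sq]; exact congrArg Subtype.val hxx)
        fun e => hx1 (Subtype.ext e)
    obtain ⟨V, hV, h⟩ := C.invol_types hxo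
    have hv : V₄₅ x = V 45 := by
      have h := hV ψ hψne hψ
      rw [hV₄₅, hψd] at h
      exact_mod_cast h
    have h32 : 32 ∣ Nat.card (Subgroup.centralizer ({(x : G)} : Set G)) :=
      hQcard ▸ Subgroup.card_dvd_of_le fun y hy => Subgroup.mem_centralizer_singleton_iff.2
        (congrArg Subtype.val (hxc ⟨y, hy⟩)).symm
    rcases h with ⟨hc, h45, -⟩ | ⟨hc, -, -⟩ | ⟨-, h45, -⟩
    · exact Or.inl ⟨hv.trans h45, hxo, hc⟩
    · simp only [List.mem_cons, List.not_mem_nil, or_false] at hc; omega
    · exact Or.inr (hv.trans h45)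
  · refine ⟨?_, hk, hk192⟩
    have h := C.vals_192 hk hk192 ψ hψne hψ
    rw [hψd] at h
    have e := hV₄₅ kQ
    rw [show ((kQ : Q) : G) = k from rfl, h] at e
    exact_mod_cast e.symm
  · -- an element with a power of the first kind and a large centraliser
    by_cases hxx : orderOf (x : G) = 2
    · refine hT16 x ⟨hxx, ?_⟩
      have hj : ((x ^ j : Q) : G) = x := by
        have h1 := hTx.1
        rw [SubmonoidClass.coe_pow] at h1 ⊢
        rcases Nat.even_or_odd' j with ⟨l, rfl | rfl⟩
        · rw [pow_mul, show (x : G) ^ 2 = 1 from hxx ▸ pow_orderOf_eq_one _, one_pow, orderOf_one] at h1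
          norm_num at h1
        · rw [pow_succ, pow_mul, show (x : G) ^ 2 = 1 from hxx ▸ pow_orderOf_eq_one _, one_pow, one_mul]
      rw [← hj]
      exact hTx.2
    set kk : G := ((x ^ j : Q) : G) with hkk'
    obtain ⟨hko, hkk192⟩ := hTx
    set cx := Nat.card (Subgroup.centralizer ({(x : G)} : Set G)) with hcx
    have hd192 : cx ∣ 192 := hkk192 ▸ Subgroup.card_dvd_of_le fun a ha => by
      rw [Subgroup.mem_centralizer_singleton_iff] at ha ⊢
      simp only [SubmonoidClass.coe_pow]
      exact Commute.pow_right ha j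
    have hd16 : 16 ∣ cx := h16.trans (by
      rw [← Subgroup.card_map_of_injective Q.subtype_injective]
      exact Subgroup.card_dvd_of_le (by
        rintro _ ⟨y, hy, rfl⟩
        exact Subgroup.mem_centralizer_singleton_iff.2
          (congrArg Subtype.val (Subgroup.mem_centralizer_singleton_iff.1 hy))))
    have hd3 : ¬ 3 ∣ cx := by
      intro h3
      haveI : Fact (Nat.Prime 3) := ⟨Nat.prime_three⟩
      obtain ⟨⟨q, hqC⟩, hq⟩ :=
        exists_prime_orderOf_dvd_card' (G := Subgroup.centralizer ({(x : G)} : Set G)) 3 h3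
      rw [Subgroup.orderOf_mk] at hq
      have hqx : Commute q (x : G) := Subgroup.mem_centralizer_singleton_iff.1 hqC
      have hxk : Commute (x : G) kk := by rw [hkk', SubmonoidClass.coe_pow]; exact Commute.self_pow _ _
      have hkq : Commute kk q := by rw [hkk', SubmonoidClass.coe_pow]; exact (hqx.pow_right j).symm
      rcases C.two_six hko hkk192 hq hkq hxk hqx.symm (pow64 x x.2) with e | e
      · exact hx1 (Subtype.ext e)
      · exact hxx (e ▸ hko)
    have hcases : cx = 16 ∨ cx = 32 ∨ cx = 64 := by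
      have hle := Nat.le_of_dvd (by norm_num) hd192
      obtain ⟨m, hm⟩ := hd16
      have : m ≤ 12 := by omega
      rw [hm] at hd192
      interval_cases m <;> norm_num at hd192 <;> omega
    set v := V₁₆ x with hv
    have hvx : (η : G → ℂ) x = v := hV₁₆ x
    have hidx := dvd_index_mul η hvx
    have hi : (Subgroup.centralizer ({(x : G)} : Set G)).index * cx = 95040 := by
      rw [← C.card_G]; exact (Subgroup.centralizer ({(x : G)} : Set G)).index_mul_card
    rw [hηd] at hidx
    have := Fintype.ofFinite (IrrCharacter G)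
    obtain ⟨η', hη', hne'⟩ : ∃ η' ∈ YF, η' ≠ η :=
      Finset.exists_mem_ne (by rw [C.setup.rows.card_YF]; norm_num) η
    have heq : (η' : G → ℂ) x = v := by
      have h1 := C.setup.rows.relation (by norm_num) η hη x (hreg x x.2)
      have h2 := C.setup.rows.relation (by norm_num) η' hη' x (hreg x x.2)
      rw [h1, hvx] at h2
      simpa using h2.symm
    have hbound := sum_sq_le (x : G) {trivChar, η, η'} (fun φ' => if φ' = trivChar then 1 else v)
      fun φ' hφ' => by
        simp only [Finset.mem_insert, Finset.mem_singleton] at hφ'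
        rcases hφ' with rfl | rfl | rfl
        · simp
        · rw [if_neg hηne]; exact hvx
        · rw [if_neg (C.setup.not_triv hη')]; exact heq
    rw [Finset.sum_insert (by
        simp only [Finset.mem_insert, Finset.mem_singleton, not_or]
        exact ⟨hηne.symm, (C.setup.not_triv hη').symm⟩),
      Finset.sum_pair hne'.symm, if_pos rfl, if_neg hηne, if_neg (C.setup.not_triv hη')] at hbound
    rw [← hcx] at hbound
    by_contra hv0
    have hc64 : cx ≤ 64 := by omega
    have hb1 : -6 < v ∧ v < 6 := by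
      constructor <;> by_contra hh <;> push Not at hh <;> nlinarith
    obtain ⟨hb1, hb2⟩ := hb1
    rcases hcases with e | e | e <;> rw [e] at hi hbound
    · rw [show (Subgroup.centralizer ({(x : G)} : Set G)).index = 5940 by omega] at hidx
      interval_cases v <;> omega
    · rw [show (Subgroup.centralizer ({(x : G)} : Set G)).index = 2970 by omega] at hidx
      interval_cases v <;> omega
    · rw [show (Subgroup.centralizer ({(x : G)} : Set G)).index = 1485 by omega] at hidx
      interval_cases v <;> omega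

end Conf

end CfsgLib.Recog.OrderM12
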