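import Cfsg.Agent.Lib.Recog.OrderM12.Values

/-!
# Vectors of values on the rows of a principal block: the finite search
-/

set_option autoImplicit false

namespace CfsgLib.Recog.OrderM12

open CfsgLib.ClassK CfsgLib.ClassK.RowInvolution

/-- A value at an element with centraliser of order `c`: small and admissible for the degree. -/
def admissible (n c d : ℕ) (v : ℤ) : Bool :=
  decide (v * v ≤ (c : ℤ)) && decide (((n / c : ℕ) : ℤ) * v % (d : ℤ) = 0)

/-- The candidates for one degree. -/
def candV (n c : ℕ) (R : ℕ → List ℤ) (d : ℕ) : List ℤ := (R d).filter (admissible n c d)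

/-- All assignments of candidate values to the rows. -/
def assignV (V : ℕ → List ℤ) : List (ℕ × Bool) → List (List ((ℕ × Bool) × ℤ))
  | [] => [[]]
  | a :: as => (V a.1).flatMap fun v => (assignV V as).map ((a, v) :: ·)

/-- The value of the exceptional rows. -/
def excVal (σ : ℤ) (r : List ((ℕ × Bool) × ℤ)) : ℤ :=
  σ * (1 + (r.map fun a => sgn a.1 * a.2).sum)

/-- The scaled sum over pairs of conjugates with product in a fixed class of the Sylow subgroup. -/
def selfE (n d : ℕ) (σ : ℤ) (r : List ((ℕ × Bool) × ℤ)) : ℤ :=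
  (n : ℤ) + (r.map fun a => sgn a.1 * a.2 * a.2 * ((n / a.1.1 : ℕ) : ℤ)).sum -
    σ * (excVal σ r * excVal σ r) * ((n / d : ℕ) : ℤ)

/-- The admissible vectors of values at an element with centraliser of order `c`. -/
def vecs (n t c : ℕ) (R : ℕ → List ℤ) (l : List (ℕ × Bool)) (d : ℕ) (σ : ℤ) :
    List (List ((ℕ × Bool) × ℤ)) :=
  (assignV (candV n c R) l).filter fun r =>
    decide (1 + (r.map fun a => a.2 * a.2).sum + (t : ℤ) * (excVal σ r * excVal σ r) ≤ (c : ℤ)) &&
      (candV n c R d).contains (excVal σ r)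

/-- The vectors at an involution of a group in which no involution inverts the Sylow subgroup. -/
def invVecs (n t c : ℕ) (l : List (ℕ × Bool)) (d : ℕ) (σ : ℤ) :
    List (List ((ℕ × Bool) × ℤ)) :=
  (vecs n t c qRange l d σ).filter fun r => decide (selfE n d σ r = 0)

/-- The vectors passing the test on pairs. -/
def pairVecs (n t c : ℕ) (R : ℕ → List ℤ) (l : List (ℕ × Bool)) (d : ℕ) (σ : ℤ) :
    List (List ((ℕ × Bool) × ℤ)) :=
  (vecs n t c R l d σ).filter fun r =>
    decide (0 ≤ selfE n d σ r) && decide (selfE n d σ r % ((c : ℤ) * (c : ℤ)) = 0)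

/-- Integers of absolute value at most `b`. -/
def around (b : ℕ) : List ℤ := (List.range (2 * b + 1)).map fun (i : ℕ) => (i : ℤ) - b

/-- Values of a rational character at an element of prime order `p`, bounded by `b`. -/
def atPrime (p b : ℕ) (d : ℕ) : List ℤ :=
  (around b).filter fun v => decide (((d : ℤ) - v) % (p : ℤ) = 0)

theorem mem_around {b : ℕ} {v : ℤ} (h : v * v ≤ (b : ℤ) * b) : v ∈ around b := by
  have h1 : -(b : ℤ) ≤ v ∧ v ≤ b := abs_le.1 (abs_le_abs_of_sq_le h)
  refine List.mem_map.2 ⟨(v + b).toNat, List.mem_range.2 (by omega), ?_⟩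
  rw [Int.toNat_of_nonneg (by omega)]
  ring
where
  abs_le_abs_of_sq_le {b : ℕ} {v : ℤ} (h : v * v ≤ (b : ℤ) * b) : |v| ≤ (b : ℤ) := by
    nlinarith [abs_nonneg v, abs_mul_abs_self v]

theorem assignV_sound {ι : Type*} (f : ι → ℕ × Bool) (q : ι → ℤ) (V : ℕ → List ℤ) :
    ∀ (l : List (ℕ × Bool)) (m : Multiset ι), (∀ i ∈ m, q i ∈ V (f i).1) → m.map f = ↑l →
      ∃ r ∈ assignV V l, m.map (fun i => (f i, q i)) = ↑r := by
  classical
  intro l
  induction l with
  | nil =>
    intro m _ h
    obtain rfl : m = 0 := Multiset.map_eq_zero.1 h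
    exact ⟨[], by simp [assignV], by simp⟩
  | cons a as ih =>
    intro m hq h
    have ha : a ∈ m.map f := by rw [h]; simp
    obtain ⟨i, hi, rfl⟩ := Multiset.mem_map.1 ha
    obtain ⟨m', rfl⟩ := Multiset.exists_cons_of_mem hi
    rw [Multiset.map_cons, ← Multiset.cons_coe, Multiset.cons_inj_right] at h
    obtain ⟨r, hr, hmap⟩ := ih m' (fun j hj => hq j (Multiset.mem_cons_of_mem hj)) h
    refine ⟨(f i, q i) :: r, ?_, ?_⟩
    · rw [assignV, List.mem_flatMap]
      exact ⟨q i, hq i (Multiset.mem_cons_self _ _), List.mem_map.2 ⟨r, hr, rfl⟩⟩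
    · rw [Multiset.map_cons, hmap, Multiset.cons_coe]

end CfsgLib.Recog.OrderM12
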